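import Cfsg.Agent.H29.CKBase

/-! Group actions on elementary abelian 2-groups: duals, sections, Sylow lemmas, Fourier lemma. -/

set_option autoImplicit false
set_option linter.unusedSectionVars false

namespace Cfsg.Agent.H29.CK

open MulAction

variable {G : Type*} [Group G] {V : Type*} [AddCommGroup V] [Ex2 V] [DistribMulAction G V]

/-- the action of an element as a homomorphism -/
abbrev hom (g : G) : V →+ V := DistribSMul.toAddMonoidHom V g

theorem smul_ne {g : G} {v : V} (h : v ≠ 0) : g • v ≠ 0 := fun h' => h (by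
  rw [← inv_smul_smul g v, h', smul_zero])

theorem smul_inj {g : G} {v w : V} (h : g • v = g • w) : v = w := MulAction.injective g h

/-- the dual, with the contragredient action -/
def Du (V : Type*) [AddCommGroup V] := V →+ ZMod 2

instance du_acg : AddCommGroup (Du V) := inferInstanceAs (AddCommGroup (V →+ ZMod 2))
instance du_ex2 : Ex2 (Du V) := inferInstanceAs (Ex2 (V →+ ZMod 2))
instance du_finite [Finite V] : Finite (Du V) := inferInstanceAs (Finite (V →+ ZMod 2))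

/-- a functional as an element of the dual -/
def Du.mk (φ : V →+ ZMod 2) : Du V := φ
/-- an element of the dual as a functional -/
def Du.ap (φ : Du V) : V →+ ZMod 2 := φ

theorem Du.ext {φ ψ : Du V} (h : ∀ v, φ.ap v = ψ.ap v) : φ = ψ := AddMonoidHom.ext h
theorem Du.ap_add (φ ψ : Du V) (v : V) : (φ + ψ).ap v = φ.ap v + ψ.ap v := rfl
theorem Du.ap_zero (v : V) : (0 : Du V).ap v = 0 := rfl
theorem Du.ap_mk (φ : V →+ ZMod 2) : (Du.mk φ).ap = φ := rfl

instance du_act : DistribMulAction G (Du V) where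
  smul g φ := Du.mk (φ.ap.comp (hom g⁻¹))
  one_smul φ := Du.ext fun v => by
    change φ.ap ((1 : G)⁻¹ • v) = _
    rw [inv_one, one_smul]
  mul_smul g h φ := Du.ext fun v => by
    change φ.ap ((g * h)⁻¹ • v) = φ.ap (h⁻¹ • g⁻¹ • v)
    rw [mul_inv_rev, mul_smul]
  smul_zero _ := rfl
  smul_add _ _ _ := rfl

theorem Du.ap_smul (g : G) (φ : Du V) (v : V) : (g • φ).ap v = φ.ap (g⁻¹ • v) := rfl

theorem Du.smul_eq_iff {g : G} {φ φ' : Du V} : g • φ = φ' ↔ ∀ v, φ'.ap (g • v) = φ.ap v := by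
  constructor
  · rintro rfl v; rw [Du.ap_smul, inv_smul_smul]
  · intro h
    exact Du.ext fun v => by rw [Du.ap_smul, ← h, smul_inv_smul]

/-- evaluation -/
def Du.ev (v : V) : Du V →+ ZMod 2 := (AddMonoidHom.eval : V →+ (V →+ ZMod 2) →+ ZMod 2) v

theorem Du.ev_apply (v : V) (φ : Du V) : Du.ev v φ = φ.ap v := rfl

theorem Du.ev_surj [Finite V] (θ : Du V →+ ZMod 2) : ∃ v : V, θ = Du.ev v := by
  obtain ⟨v, hv⟩ := eval_surj (V := V) θ
  exact ⟨v, AddMonoidHom.ext hv⟩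

theorem Du.card [Finite V] : Nat.card (Du V) = Nat.card V := card_dual V

theorem Du.ne_zero {φ : Du V} (h : φ ≠ 0) : ∃ v, φ.ap v = 1 := by
  by_contra h'
  push Not at h'
  exact h (Du.ext fun v => z_ne1.1 (h' v))

/-- action on an invariant subgroup -/
abbrev subAct (A : AddSubgroup V) (h : ∀ g : G, ∀ v ∈ A, g • v ∈ A) : DistribMulAction G A where
  smul g v := ⟨g • v.1, h g _ v.2⟩
  one_smul v := Subtype.ext (one_smul G v.1)
  mul_smul g g' v := Subtype.ext (mul_smul g g' v.1)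
  smul_zero g := Subtype.ext (smul_zero g)
  smul_add g v w := Subtype.ext (smul_add g v.1 w.1)

/-- action on the quotient by an invariant subgroup -/
abbrev quotAct (A : AddSubgroup V) (h : ∀ g : G, ∀ v ∈ A, g • v ∈ A) :
    DistribMulAction G (V ⧸ A) where
  smul g := QuotientAddGroup.map A A (hom g) (h g)
  one_smul v := by
    induction v using QuotientAddGroup.induction_on with
    | H v => exact congrArg QuotientAddGroup.mk (one_smul G v)
  mul_smul g g' v := by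
    induction v using QuotientAddGroup.induction_on with
    | H v => exact congrArg QuotientAddGroup.mk (mul_smul g g' v)
  smul_zero g := map_zero (QuotientAddGroup.map A A (hom g) (h g))
  smul_add g := map_add (QuotientAddGroup.map A A (hom g) (h g))

theorem mk_eq_iff {A : AddSubgroup V} {v w : V} :
    (QuotientAddGroup.mk v : V ⧸ A) = QuotientAddGroup.mk w ↔ v + w ∈ A := by
  rw [QuotientAddGroup.eq, neg_eq]

theorem fix_ne_zero [Finite V] (hG : IsPGroup 2 G) (hV : ∃ v : V, v ≠ 0) :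
    ∃ v : V, v ≠ 0 ∧ ∀ g : G, g • v = v := by
  obtain ⟨k, hk⟩ := card_pow V
  have : 2 ∣ Nat.card V := by
    rcases k with _ | k
    · obtain ⟨v, hv⟩ := hV
      haveI := (Nat.card_eq_one_iff_unique.1 hk).1
      exact (hv (Subsingleton.elim _ _)).elim
    · rw [hk]; exact dvd_pow_self 2 (by omega)
  obtain ⟨b, hb, hb'⟩ := hG.exists_fixed_point_of_prime_dvd_card_of_fixed_point V this
    (a := 0) (fun g => smul_zero g)
  exact ⟨b, hb'.symm, hb⟩

/-- a 2-group fixes a non-trivial coset -/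
theorem fix_coset [Finite V] {P : Subgroup G} (hP : IsPGroup 2 P) {A B : AddSubgroup V}
    (hA : ∀ g ∈ P, ∀ v ∈ A, g • v ∈ A) (hB : ∀ g ∈ P, ∀ v ∈ B, g • v ∈ B)
    (h : ∃ v ∈ B, v ∉ A) : ∃ z ∈ B, z ∉ A ∧ ∀ g ∈ P, g • z + z ∈ A := by
  letI := quotAct (G := P) A fun g v hv => hA g g.2 v hv
  letI := subAct (G := P) (B.map (QuotientAddGroup.mk' A)) (by
    rintro g _ ⟨v, hv, rfl⟩
    exact ⟨g • v, hB g g.2 v hv, rfl⟩)
  obtain ⟨v, hv, hv'⟩ := h
  obtain ⟨⟨_, z, hz, rfl⟩, h0, h1⟩ := fix_ne_zero (G := P) (V := B.map (QuotientAddGroup.mk' A)) hP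
    ⟨⟨v, v, hv, rfl⟩, fun h => hv' ((QuotientAddGroup.eq_zero_iff v).1 (congrArg Subtype.val h))⟩
  refine ⟨z, hz, fun h => h0 (Subtype.ext ((QuotientAddGroup.eq_zero_iff z).2 h)), fun g hg => ?_⟩
  exact mk_eq_iff.1 (congrArg Subtype.val (h1 ⟨g, hg⟩))

theorem syl_conj [Finite G] (T : Sylow 2 G) {S P : Subgroup G} (hT : (T : Subgroup G) ≤ S)
    (hP : IsPGroup 2 P) (hPS : P ≤ S) : ∃ g ∈ S, ∀ p ∈ P, g * p * g⁻¹ ∈ T := by
  obtain ⟨Q, hQ⟩ := (hP.comap_subtype (K := S)).exists_le_sylow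
  obtain ⟨g, hg⟩ := exists_smul_eq S Q (T.subtype hT)
  refine ⟨g, g.2, fun p hp => ?_⟩
  have h1 : (⟨p, hPS hp⟩ : S) ∈ Q := hQ hp
  have h2 : g * ⟨p, hPS hp⟩ * g⁻¹ ∈ ((g • Q : Sylow 2 S) : Subgroup S) := by
    rw [Sylow.coe_subgroup_smul]
    exact Subgroup.smul_mem_pointwise_smul _ (MulAut.conj g) _ h1
  rw [hg] at h2
  exact h2

theorem syl_trans {H X : Type*} [Group H] [Finite H] [MulAction H X] (T : Sylow 2 H) (φ : X)
    {k : ℕ} (h : (orbit H φ).ncard = 2 ^ k) (g : H) : ∃ t ∈ T, t • φ = g • φ := by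
  have h1 := Subgroup.relIndex_mul_index (show (T : Subgroup H) ⊓ stabilizer H φ ≤ T from inf_le_left)
  have h2 := Subgroup.index_dvd_of_le (show (T : Subgroup H) ⊓ stabilizer H φ ≤ _ from inf_le_right)
  rw [index_stabilizer, h, ← h1, Subgroup.inf_relIndex_left] at h2
  have h3 := (Nat.Coprime.pow_left k
    ((Nat.Prime.coprime_iff_not_dvd Nat.prime_two).2 T.not_dvd_index)).dvd_of_dvd_mul_right h2
  have h4 : (stabilizer H φ).relIndex T = (orbit (T : Subgroup H) φ).ncard :=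
    index_stabilizer (T : Subgroup H) φ
  have hs : orbit (T : Subgroup H) φ ⊆ orbit H φ := by
    rintro _ ⟨t, rfl⟩; exact ⟨t, rfl⟩
  have hf : (orbit H φ).Finite := Set.finite_range _
  have h5 : orbit (T : Subgroup H) φ = orbit H φ := by
    refine Set.eq_of_subset_of_ncard_le hs ?_ hf
    rw [h, ← h4]
    refine Nat.le_of_dvd ?_ h3
    rw [h4]
    exact (Set.ncard_pos (hf.subset hs)).2 ⟨φ, mem_orbit_self φ⟩
  obtain ⟨t, ht⟩ : g • φ ∈ orbit (T : Subgroup H) φ := h5 ▸ mem_orbit φ g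
  exact ⟨t, t.2, ht⟩

/-- a Sylow subgroup is transitive on the functionals with value one at `x` -/
theorem syl_trA [Finite G] [Finite V] (T : Sylow 2 G) {x : V} (hx : ∀ g : G, g • x = x)
    (h : ∀ φ φ' : V →+ ZMod 2, φ x = 1 → φ' x = 1 → ∃ g : G, ∀ v, φ' (g • v) = φ v)
    (φ φ' : V →+ ZMod 2) (h1 : φ x = 1) (h2 : φ' x = 1) : ∃ t ∈ T, ∀ v, φ' (t • v) = φ v := by
  obtain ⟨k, hk⟩ := card_pow (perp (L1 x))
  have ho : orbit G (Du.mk φ) = (fun ψ => Du.mk (φ + ψ)) '' (perp (L1 x)) := by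
    ext ψ
    constructor
    · rintro ⟨g, rfl⟩
      refine ⟨φ + (g • Du.mk φ).ap, fun u hu => ?_, Du.ext fun v => ?_⟩
      · rcases mem_L1.1 hu with rfl | rfl
        · exact map_zero _
        · rw [AddMonoidHom.add_apply, Du.ap_smul, hx]; exact aa _
      · rw [Du.ap_mk, ← add_assoc, aa, zero_add]
    · rintro ⟨ψ, hψ, rfl⟩
      obtain ⟨g, hg⟩ := h φ (φ + ψ) h1 (by
        rw [AddMonoidHom.add_apply, h1, hψ x (l1_self x), add_zero])
      exact ⟨g, Du.smul_eq_iff.2 hg⟩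
  have hc : (orbit G (Du.mk φ)).ncard = 2 ^ k := by
    rw [ho, Set.ncard_image_of_injective (f := fun ψ => Du.mk (φ + ψ)) _
      (fun a b hab => add_left_cancel (a := φ) hab), ← hk]
    rfl
  obtain ⟨g, hg⟩ := h φ φ' h1 h2
  obtain ⟨t, ht, ht'⟩ := syl_trans T (Du.mk φ) hc g
  rw [(Du.smul_eq_iff (φ := Du.mk φ) (φ' := Du.mk φ')).2 hg] at ht'
  exact ⟨t, ht, Du.smul_eq_iff.1 ht'⟩

/-- the sign character -/
def chi (a : ZMod 2) : ℤ := if a = 0 then 1 else -1

theorem chi_add (a b : ZMod 2) : chi (a + b) = chi a * chi b := by revert a b; decide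
theorem chi_zero : chi 0 = 1 := rfl
theorem chi_add_one (a : ZMod 2) : chi (a + 1) = -chi a := by revert a; decide

theorem sum_chi [Fintype V] [DecidableEq (V →+ ZMod 2)] (l : V →+ ZMod 2) :
    ∑ v, chi (l v) = if l = 0 then (Fintype.card V : ℤ) else 0 := by
  split_ifs with h
  · simp [h, chi_zero]
  · obtain ⟨a, ha⟩ := Du.ne_zero (φ := Du.mk l) h
    refine Finset.sum_ninvolution (· + a) (fun v => ?_) (fun v _ hv => ?_) (by simp)
      (fun v => by simp only [c2])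
    · rw [map_add, show l a = 1 from ha, chi_add_one, add_neg_cancel]
    · rw [add_eq_left] at hv
      rw [hv, map_zero] at ha
      exact zero_ne_one ha

theorem sum_chi' [Finite V] [Fintype (V →+ ZMod 2)] [DecidableEq V] (v : V) :
    ∑ φ : V →+ ZMod 2, chi (φ v) = if v = 0 then (Fintype.card (V →+ ZMod 2) : ℤ) else 0 := by
  classical
  have := sum_chi (V := V →+ ZMod 2) (AddMonoidHom.eval v)
  simp only [AddMonoidHom.eval_apply_apply] at this
  rw [this]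
  refine if_congr ⟨fun h => ?_, fun h => by rw [h, map_zero]⟩ rfl rfl
  by_contra h'
  obtain ⟨φ, h1⟩ := sep0 h'
  have := DFunLike.congr_fun h φ
  simp [h1] at this

/-- the Fourier lemma -/
theorem fourier [Finite V] (Y : Subgroup G) {v v' : V} (ψ : V →+ ZMod 2) (h1 : ψ v = 1)
    (h2 : ψ v' = 1)
    (h : ∀ φ : V →+ ZMod 2, φ v ≠ φ v' → ∃ g ∈ Y, ∀ w, (φ + ψ) (g • w) = φ w) :
    ∃ g ∈ Y, g • v = v' := by
  classical
  letI := Fintype.ofFinite V
  letI := Fintype.ofFinite (V →+ ZMod 2)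
  let O : Finset V := Finset.univ.filter fun w => ∃ g ∈ Y, g • v = w
  have hO : ∀ w, w ∈ O ↔ ∃ g ∈ Y, g • v = w := fun w => by simp [O]
  let F : (V →+ ZMod 2) → ℤ := fun φ => ∑ w ∈ O, chi (φ w)
  have hF : ∀ φ : V →+ ZMod 2, φ v ≠ φ v' → F (φ + ψ) = F φ := by
    intro φ hφ
    obtain ⟨g, hg, hg'⟩ := h φ hφ
    symm
    refine Finset.sum_bij' (fun w _ => g • w) (fun w _ => g⁻¹ • w) ?_ ?_ (by simp) (by simp)
      (fun w _ => by rw [hg'])
    · intro w hw
      obtain ⟨k, hk, rfl⟩ := (hO w).1 hw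
      exact (hO _).2 ⟨g * k, Y.mul_mem hg hk, mul_smul _ _ _⟩
    · intro w hw
      obtain ⟨k, hk, rfl⟩ := (hO w).1 hw
      exact (hO _).2 ⟨g⁻¹ * k, Y.mul_mem (Y.inv_mem hg) hk, mul_smul _ _ _⟩
  have hS : ∀ u : V, ∑ φ, F φ * chi (φ u) =
      if u ∈ O then (Fintype.card (V →+ ZMod 2) : ℤ) else 0 := by
    intro u
    simp only [F, Finset.sum_mul, ← chi_add, ← map_add]
    rw [Finset.sum_comm]
    simp only [sum_chi', add_eq_zero]
    exact Finset.sum_ite_eq' O u _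
  have hD : ∑ φ, (F φ * chi (φ v) - F φ * chi (φ v')) = 0 := by
    refine Finset.sum_ninvolution (· + ψ) (fun φ => ?_) (fun φ _ hφ => ?_) (by simp)
      (fun φ => by simp only [c2])
    · by_cases hφ : φ v = φ v'
      · simp only [AddMonoidHom.add_apply, hφ, h1, h2, sub_self, add_zero]
      · rw [hF φ hφ]
        simp only [AddMonoidHom.add_apply, h1, h2, chi_add_one]
        ring
    · rw [add_eq_left] at hφ
      rw [hφ] at h1
      exact zero_ne_one h1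
  rw [Finset.sum_sub_distrib, hS, hS, if_pos ((hO v).2 ⟨1, Y.one_mem, one_smul _ _⟩)] at hD
  by_contra h'
  rw [if_neg fun h'' => h' ((hO v').1 h''), sub_zero, Nat.cast_eq_zero] at hD
  exact Fintype.card_ne_zero hD

/-- the dual Fourier lemma -/
theorem fourier' [Finite V] (Y : Subgroup G) {φ φ' : V →+ ZMod 2} (w : V) (h1 : φ w = 1)
    (h2 : φ' w = 1) (h : ∀ z, φ z ≠ φ' z → ∃ g ∈ Y, g • z = z + w) :
    ∃ g ∈ Y, ∀ v, φ' (g • v) = φ v := by
  obtain ⟨g, hg, hg'⟩ := fourier (V := Du V) Y (v := Du.mk φ) (v' := Du.mk φ') (Du.ev w) h1 h2 (by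
    intro θ hθ
    obtain ⟨z, rfl⟩ := Du.ev_surj θ
    obtain ⟨g, hg, hg'⟩ := h z hθ
    refine ⟨g, hg, fun η => ?_⟩
    rw [AddMonoidHom.add_apply, Du.ev_apply, Du.ev_apply, Du.ev_apply, ← map_add, ← hg',
      Du.ap_smul, inv_smul_smul])
  exact ⟨g, hg, Du.smul_eq_iff.1 hg'⟩

theorem idx_le [Finite V] (H : Subgroup G) (v : V) (A : AddSubgroup V)
    (h : ∀ g ∈ H, g • v + v ∈ A) : (H ⊓ stabilizer G v).relIndex H ≤ Nat.card A := by
  rw [Subgroup.inf_relIndex_left, show (stabilizer G v).relIndex H = (orbit H v).ncard from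
    index_stabilizer H v]
  refine Set.ncard_le_ncard_of_injOn (t := (A : Set V)) (· + v) ?_
    (fun a _ b _ hab => add_right_cancel hab)
  rintro _ ⟨g, rfl⟩
  exact h g g.2

/-- counting actions: a group transitive on the functionals with value one at `x` -/
theorem act_bound [Finite G] [Finite V] {T R : Subgroup G} {D : AddSubgroup V} {x : V}
    (hx : x ∈ D) (hx0 : x ≠ 0) (hR : ∀ r ∈ R, ∀ d ∈ D, r • d = d)
    (hT : ∀ φ φ' : V →+ ZMod 2, φ x = 1 → φ' x = 1 → ∃ t ∈ T, ∀ v, φ' (t • v) = φ v) :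
    Nat.card D ≤ 2 * R.relIndex T ∧ (Nat.card D = 2 * R.relIndex T → ∀ t ∈ T,
      ∀ φ : V →+ ZMod 2, φ x = 1 → (∀ d ∈ D, φ (t • d) = φ d) → ∀ d ∈ D, t • d = d) := by
  have hc : Nat.card (perp (L1 (⟨x, hx⟩ : D))) * 2 = Nat.card D := by
    rw [← card_perp (L1 (⟨x, hx⟩ : D)), card_L1 fun h => hx0 (congrArg Subtype.val h)]
  have key : ∀ φ : V →+ ZMod 2, φ x = 1 →
      ∃ κ : perp (L1 (⟨x, hx⟩ : D)) → T ⧸ R.subgroupOf T, Function.Injective κ ∧
        ∀ ψ (t : T), κ ψ = QuotientGroup.mk t → ∀ d : D, φ ((t : G) • (d : V)) = φ d + ψ.1 d := by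
    intro φ hφ
    have : ∀ ψ : perp (L1 (⟨x, hx⟩ : D)), ∃ t : T, ∀ d : D,
        φ ((t : G) • (d : V)) = φ d + ψ.1 d := by
      intro ψ
      obtain ⟨ψ', hψ'⟩ := exists_ext D ψ.1
      obtain ⟨t, ht, ht'⟩ := hT (φ + ψ') φ (by
        rw [AddMonoidHom.add_apply, hφ, hψ' ⟨x, hx⟩, ψ.2 _ (l1_self _), add_zero]) hφ
      exact ⟨⟨t, ht⟩, fun d => by rw [← hψ']; exact ht' d⟩
    choose τ hτ using this
    have h2 : ∀ ψ (t : T), (QuotientGroup.mk (τ ψ) : T ⧸ R.subgroupOf T) = QuotientGroup.mk t →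
        ∀ d : D, φ ((t : G) • (d : V)) = φ d + ψ.1 d := by
      intro ψ t ht d
      have h3 : (τ ψ)⁻¹ * t ∈ R.subgroupOf T := QuotientGroup.eq.1 ht
      have h4 : ((τ ψ : G)⁻¹ * t) • (d : V) = d := hR _ h3 d d.2
      rw [mul_smul, inv_smul_eq_iff] at h4
      rw [h4, hτ]
    refine ⟨fun ψ => QuotientGroup.mk (τ ψ), fun ψ ψ' h => ?_, h2⟩
    refine Subtype.ext (AddMonoidHom.ext fun d => ?_)
    exact add_left_cancel ((h2 ψ _ h d).symm.trans (hτ ψ' d))
  obtain ⟨φ0, h0⟩ := sep0 hx0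
  refine ⟨?_, fun he t ht φ hφ h d hd => ?_⟩
  · obtain ⟨κ, hκ, -⟩ := key φ0 h0
    have := Nat.card_le_card_of_injective κ hκ
    change _ ≤ 2 * Nat.card (T ⧸ R.subgroupOf T)
    omega
  · obtain ⟨κ, hκ, hκ'⟩ := key φ hφ
    have hb := (Nat.bijective_iff_injective_and_card κ).2 ⟨hκ, by
      change _ = 2 * Nat.card (T ⧸ R.subgroupOf T) at he
      omega⟩
    obtain ⟨ψ, hψ⟩ := hb.2 (QuotientGroup.mk ⟨t, ht⟩)
    obtain ⟨ψ', hψ'⟩ := hb.2 (QuotientGroup.mk 1)
    have : ψ = ψ' := by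
      refine Subtype.ext (AddMonoidHom.ext fun d => add_left_cancel (a := φ d) ?_)
      rw [← hκ' ψ _ hψ, ← hκ' ψ' _ hψ', h d d.2]
      simp
    have h4 := QuotientGroup.eq.1 (hψ'.symm.trans (this ▸ hψ))
    exact hR t (by simpa [Subgroup.mem_subgroupOf] using h4) d hd

/-- if no non-trivial element fixes an antiflag, the order of the space is a square -/
theorem reg_sq [Finite V] {T : Subgroup G} (hT : IsPGroup 2 T) {D : AddSubgroup V} {x : V}
    (hD : ∀ t ∈ T, ∀ d ∈ D, t • d ∈ D)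
    (hreg : ∀ t ∈ T, ∀ φ : V →+ ZMod 2, φ x = 1 → (∀ d ∈ D, φ (t • d) = φ d) → ∀ d ∈ D, t • d = d)
    (hconj : ∀ t ∈ T, ∀ v ∈ D, v ≠ 0 → t • v = v →
      ∃ k : G, k • v = x ∧ (∀ d, d ∈ D ↔ k • d ∈ D) ∧ k * t * k⁻¹ ∈ T)
    (hnt : ∃ t ∈ T, ∃ d ∈ D, t • d ≠ d) : ∃ m, Nat.card D = m * m := by
  classical
  obtain ⟨t0, ht0, d0, hd0, hne⟩ := hnt
  have hex : ∃ j, ∀ d ∈ D, t0 ^ 2 ^ j • d = d := by
    obtain ⟨k, hk⟩ := hT ⟨t0, ht0⟩
    refine ⟨k, fun d _ => ?_⟩
    rw [show t0 ^ 2 ^ k = 1 from congrArg Subtype.val hk, one_smul]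
  obtain ⟨j, hj⟩ : ∃ j, Nat.find hex = j + 1 := Nat.exists_eq_succ_of_ne_zero fun h =>
    hne (by simpa [h] using Nat.find_spec hex d0 hd0)
  have h1 := Nat.find_min hex (show j < Nat.find hex by omega)
  have h2 := Nat.find_spec hex
  rw [hj, pow_succ, pow_mul, pow_two] at h2
  have ht : t0 ^ 2 ^ j ∈ T := T.pow_mem ht0 _
  generalize t0 ^ 2 ^ j = t at h1 h2 ht
  let N : D →+ D := AddMonoidHom.mk' (fun d => ⟨t • d.1 + d.1, D.add_mem (hD t ht _ d.2) d.2⟩)
    fun a b => Subtype.ext (by simp only [AddSubgroup.coe_add, smul_add, c2])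
  have hN : N.ker = N.range := by
    refine le_antisymm (fun v hv => ?_) ?_
    · by_contra hv'
      have hv1 : t • v.1 = v.1 := add_eq_zero.1 (congrArg Subtype.val hv)
      have hv0 : v.1 ≠ 0 := fun h => hv' (by rw [show v = 0 from Subtype.ext h]; exact zero_mem _)
      obtain ⟨φ, hφ, hφ1⟩ := sep (U := N.range.map D.subtype) (v := v.1) (by
        rintro ⟨w, hw, hw'⟩
        exact hv' ((show w = v from Subtype.ext hw') ▸ hw))
      obtain ⟨k, hk, hkD, hkT⟩ := hconj t ht v.1 v.2 hv0 hv1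
      have := hreg _ hkT (φ.comp (hom k⁻¹)) (by
        change φ (k⁻¹ • x) = 1
        rw [← hk, inv_smul_smul, hφ1]) (by
        intro d hd
        change φ (k⁻¹ • (k * t * k⁻¹) • d) = φ (k⁻¹ • d)
        rw [mul_smul, mul_smul, inv_smul_smul, ← add_eq_zero, ← map_add]
        exact hφ _ ⟨_, ⟨⟨k⁻¹ • d, (hkD _).2 (by rwa [smul_inv_smul])⟩, rfl⟩, rfl⟩)
      refine h1 fun d hd => smul_inj (g := k) ?_
      simpa only [mul_smul, inv_smul_smul] using this _ ((hkD d).1 hd)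
    · rintro _ ⟨d, rfl⟩
      refine Subtype.ext ?_
      change t • (t • d.1 + d.1) + (t • d.1 + d.1) = 0
      rw [smul_add, ← mul_smul, h2 _ d.2]
      simp only [c2]
  exact ⟨_, by rw [card_ker_mul N, hN]⟩

end Cfsg.Agent.H29.CK
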