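import Mathlib

/-! Elementary abelian 2-groups: basic tools for the Cameron–Kantor theorem over `F₂`. -/

set_option autoImplicit false
set_option linter.unusedSectionVars false

namespace Cfsg.Agent.H29.CK

/-- exponent two -/
class Ex2 (V : Type*) [AddCommGroup V] : Prop where
  aa : ∀ v : V, v + v = 0

variable {V : Type*} [AddCommGroup V] [Ex2 V]

theorem aa (v : V) : v + v = 0 := Ex2.aa v

theorem c2 : (∀ v : V, v + v = 0) ∧ (∀ v w : V, v + (v + w) = w) ∧
    (∀ a b c : V, a + b + c = a + (b + c)) ∧ (∀ a b : V, a + b = b + a) ∧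
    (∀ a b c : V, a + (b + c) = b + (a + c)) ∧ (∀ a : V, a + 0 = a) ∧ (∀ a : V, 0 + a = a) :=
  ⟨aa, fun v w => by rw [← add_assoc, aa, zero_add], add_assoc, add_comm, add_left_comm,
    add_zero, zero_add⟩

theorem neg_eq (v : V) : -v = v := neg_eq_of_add_eq_zero_left (aa v)

theorem add_eq_zero {v w : V} : v + w = 0 ↔ v = w := by
  rw [add_eq_zero_iff_eq_neg, neg_eq]

theorem eq_add_iff {u v w : V} : u = v + w ↔ u + v = w := by
  constructor
  · rintro rfl; simp only [c2]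
  · rintro rfl; simp only [c2]

instance ex2_zmod : Ex2 (ZMod 2) := ⟨by decide⟩

instance ex2_sub (U : AddSubgroup V) : Ex2 U := ⟨fun v => Subtype.ext (aa v.1)⟩

instance ex2_quot (U : AddSubgroup V) : Ex2 (V ⧸ U) :=
  ⟨fun v => by
    induction v using QuotientAddGroup.induction_on with
    | H v => rw [← QuotientAddGroup.mk_add, aa]; rfl⟩

instance ex2_hom {U : Type*} [AddCommGroup U] : Ex2 (U →+ V) := ⟨fun f => by ext v; exact aa _⟩

theorem z01 (a : ZMod 2) : a = 0 ∨ a = 1 := by revert a; decide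

theorem z_ne0 {a : ZMod 2} : a ≠ 0 ↔ a = 1 := by revert a; decide

theorem z_ne1 {a : ZMod 2} : a ≠ 1 ↔ a = 0 := by revert a; decide

/-- a subgroup from closure under addition -/
def mkSub (s : Set V) (h0 : (0 : V) ∈ s) (ha : ∀ a ∈ s, ∀ b ∈ s, a + b ∈ s) : AddSubgroup V where
  carrier := s
  zero_mem' := h0
  add_mem' {a b} h1 h2 := ha a h1 b h2
  neg_mem' {a} h := by rw [neg_eq]; exact h

theorem mem_of_add {A : AddSubgroup V} {u v : V} (hu : u ∈ A) (h : u + v ∈ A) : v ∈ A := by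
  have := A.add_mem hu h
  simpa only [c2] using this

theorem mem_of_add' {A : AddSubgroup V} {u v : V} (hv : v ∈ A) (h : u + v ∈ A) : u ∈ A :=
  mem_of_add hv (by rwa [add_comm])

theorem mem_of_eq {A : AddSubgroup V} {u v : V} (hu : u ∈ A) (h : v = u) : v ∈ A := h ▸ hu

/-- adjoining an element -/
def adj (A : AddSubgroup V) (v : V) : AddSubgroup V :=
  mkSub {w | w ∈ A ∨ w + v ∈ A} (Or.inl A.zero_mem) (by
    rintro a (h1 | h1) b (h2 | h2)
    · exact Or.inl (A.add_mem h1 h2)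
    · exact Or.inr (mem_of_eq (A.add_mem h1 h2) (by simp only [c2]))
    · exact Or.inr (mem_of_eq (A.add_mem h1 h2) (by simp only [c2]))
    · exact Or.inl (mem_of_eq (A.add_mem h1 h2) (by simp only [c2])))

theorem mem_adj {A : AddSubgroup V} {v w : V} : w ∈ adj A v ↔ w ∈ A ∨ w + v ∈ A := Iff.rfl

theorem le_adj (A : AddSubgroup V) (v : V) : A ≤ adj A v := fun _ h => Or.inl h

theorem self_mem_adj (A : AddSubgroup V) (v : V) : v ∈ adj A v :=
  Or.inr (by rw [aa]; exact A.zero_mem)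

theorem adj_le {A B : AddSubgroup V} {v : V} (h : A ≤ B) (hv : v ∈ B) : adj A v ≤ B := by
  rintro w (hw | hw)
  · exact h hw
  · exact mem_of_add' hv (h hw)

/-- `⟨a⟩` -/
def L1 (a : V) : AddSubgroup V := adj ⊥ a
/-- `⟨a, b⟩` -/
def L2 (a b : V) : AddSubgroup V := adj (L1 a) b

theorem mem_L1 {a w : V} : w ∈ L1 a ↔ w = 0 ∨ w = a := by
  simp only [L1, mem_adj, AddSubgroup.mem_bot, add_eq_zero]

theorem mem_L2 {a b w : V} : w ∈ L2 a b ↔ w = 0 ∨ w = a ∨ w = b ∨ w = a + b := by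
  simp only [L2, mem_adj, mem_L1, add_eq_zero, or_assoc]
  rw [add_comm a b, eq_add_iff]

theorem L1_le {A : AddSubgroup V} {a : V} (h : a ∈ A) : L1 a ≤ A := adj_le bot_le h

theorem L2_le {A : AddSubgroup V} {a b : V} (h : a ∈ A) (h' : b ∈ A) : L2 a b ≤ A :=
  adj_le (L1_le h) h'

theorem l1_self (a : V) : a ∈ L1 a := mem_L1.2 (Or.inr rfl)
theorem l2_left (a b : V) : a ∈ L2 a b := mem_L2.2 (Or.inr (Or.inl rfl))
theorem l2_right (a b : V) : b ∈ L2 a b := mem_L2.2 (Or.inr (Or.inr (Or.inl rfl)))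

theorem L2_comm (a b : V) : L2 a b = L2 b a :=
  le_antisymm (L2_le (l2_right _ _) (l2_left _ _)) (L2_le (l2_right _ _) (l2_left _ _))

/-- `A` has index two in `B` -/
structure Idx2 (A B : AddSubgroup V) : Prop where
  le : A ≤ B
  ex : ∃ v ∈ B, v ∉ A
  add : ∀ u ∈ B, ∀ v ∈ B, u ∉ A → v ∉ A → u + v ∈ A

theorem idx2_adj {A : AddSubgroup V} {v : V} (hv : v ∉ A) : Idx2 A (adj A v) :=
  ⟨le_adj A v, ⟨v, self_mem_adj A v, hv⟩, fun u hu w hw hu' hw' =>
    mem_of_eq (A.add_mem (hu.resolve_left hu') (hw.resolve_left hw')) (by simp only [c2])⟩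

theorem Idx2.eq_adj {A B : AddSubgroup V} (h : Idx2 A B) {v : V} (hv : v ∈ B) (hv' : v ∉ A) :
    B = adj A v := by
  refine le_antisymm (fun w hw => ?_) (adj_le h.le hv)
  by_cases hw' : w ∈ A
  · exact Or.inl hw'
  · exact Or.inr (h.add w hw v hv hw' hv')

/-- two index-two overgroups sharing an outer element are equal -/
theorem Idx2.eq_of_mem {A B C : AddSubgroup V} (h : Idx2 A B) (h' : Idx2 A C) {v : V}
    (hB : v ∈ B) (hC : v ∈ C) (hv : v ∉ A) : B = C := by
  rw [h.eq_adj hB hv, h'.eq_adj hC hv]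

theorem card_adj [Finite V] {A : AddSubgroup V} {v : V} (hv : v ∉ A) :
    Nat.card (adj A v) = 2 * Nat.card A := by
  have e : (A ⊕ A) ≃ adj A v := Equiv.ofBijective
    (Sum.elim (fun a => ⟨a, Or.inl a.2⟩) fun a => ⟨a + v, Or.inr (by simp only [c2]; exact a.2)⟩)
    ⟨by
      rintro (a | a) (b | b) h
      · have h' := congrArg Subtype.val h
        rw [show a = b from Subtype.ext h']
      · have h' : (a : V) = b + v := congrArg Subtype.val h
        exact (hv (mem_of_add b.2 (h' ▸ a.2))).elim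
      · have h' : (a : V) + v = b := congrArg Subtype.val h
        exact (hv (mem_of_add a.2 (h' ▸ b.2))).elim
      · have h' : (a : V) + v = b + v := congrArg Subtype.val h
        rw [Subtype.ext (add_right_cancel h')],
    by
      rintro ⟨w, hw | hw⟩
      · exact ⟨Sum.inl ⟨w, hw⟩, rfl⟩
      · exact ⟨Sum.inr ⟨w + v, hw⟩, Subtype.ext (by simp only [Sum.elim_inr, c2])⟩⟩
  rw [← Nat.card_congr e, Nat.card_sum, two_mul]

theorem card_adj_le [Finite V] (A : AddSubgroup V) (v : V) :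
    Nat.card (adj A v) ≤ 2 * Nat.card A := by
  by_cases hv : v ∈ A
  · have := AddSubgroup.card_le_of_le (adj_le le_rfl hv)
    omega
  · exact (card_adj hv).le

theorem Idx2.card [Finite V] {A B : AddSubgroup V} (h : Idx2 A B) :
    Nat.card B = 2 * Nat.card A := by
  obtain ⟨v, hv, hv'⟩ := h.ex
  rw [h.eq_adj hv hv', card_adj hv']

theorem eq_of_le_card [Finite V] {A B : AddSubgroup V} (h : A ≤ B)
    (hc : Nat.card B ≤ Nat.card A) : A = B := AddSubgroup.eq_of_le_of_card_ge h hc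

theorem exists_notMem [Finite V] {A B : AddSubgroup V} (hc : Nat.card A < Nat.card B) :
    ∃ v ∈ B, v ∉ A := by
  by_contra h
  push Not at h
  have := AddSubgroup.card_le_of_le (show B ≤ A from h)
  omega

theorem Idx2.of_card [Finite V] {A B : AddSubgroup V} (h : A ≤ B)
    (hc : Nat.card B = 2 * Nat.card A) : Idx2 A B := by
  have h0 : 0 < Nat.card A := Nat.card_pos
  obtain ⟨v, hv, hv'⟩ := exists_notMem (A := A) (B := B) (by omega)
  have : adj A v = B := eq_of_le_card (adj_le h hv) (by rw [card_adj hv', hc])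
  rw [← this]; exact idx2_adj hv'

theorem card_L1 [Finite V] {a : V} (h : a ≠ 0) : Nat.card (L1 a) = 2 := by
  rw [L1, card_adj (by simpa using h)]; simp

theorem card_L1_le [Finite V] (a : V) : Nat.card (L1 a) ≤ 2 := by
  simpa [L1] using card_adj_le ⊥ a

theorem card_L2 [Finite V] {a b : V} (h : a ≠ 0) (hb : b ≠ 0) (hab : b ≠ a) :
    Nat.card (L2 a b) = 4 := by
  rw [L2, card_adj (by simp [mem_L1, hb, hab]), card_L1 h]

theorem card_L2_le [Finite V] (a b : V) : Nat.card (L2 a b) ≤ 4 := by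
  have := card_adj_le (L1 a) b
  have := card_L1_le a
  rw [L2]; omega

variable (V) in
/-- the module structure -/
abbrev md : Module (ZMod 2) V := AddCommGroup.zmodModule (fun x => by rw [two_nsmul, aa])

theorem exists_ext (U : AddSubgroup V) (ψ : U →+ ZMod 2) :
    ∃ φ : V →+ ZMod 2, ∀ u : U, φ u = ψ u := by
  letI := md V
  obtain ⟨g, hg⟩ := LinearMap.exists_extend (K := ZMod 2) (p := AddSubgroup.toZModSubmodule 2 U)
    (AddMonoidHom.toZModLinearMap 2 (M := AddSubgroup.toZModSubmodule 2 U) ψ)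
  exact ⟨g.toAddMonoidHom, fun u => LinearMap.congr_fun hg u⟩

theorem sep {U : AddSubgroup V} {v : V} (hv : v ∉ U) :
    ∃ φ : V →+ ZMod 2, (∀ u ∈ U, φ u = 0) ∧ φ v = 1 := by
  letI := md V
  obtain ⟨g, hg, hg'⟩ := LinearMap.exists_extend_of_notMem (K := ZMod 2)
    (p := AddSubgroup.toZModSubmodule 2 U) (0 : _ →ₗ[ZMod 2] ZMod 2) (v := v) hv 1
  exact ⟨g.toAddMonoidHom, fun u hu => LinearMap.congr_fun hg ⟨u, hu⟩, hg'⟩

theorem sep0 {v : V} (hv : v ≠ 0) : ∃ φ : V →+ ZMod 2, φ v = 1 := by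
  obtain ⟨φ, -, h⟩ := sep (U := ⊥) (v := v) (by simpa using hv)
  exact ⟨φ, h⟩

theorem sep1 {a v : V} (hv : v ≠ 0) (hv' : v ≠ a) : ∃ φ : V →+ ZMod 2, φ a = 0 ∧ φ v = 1 := by
  obtain ⟨φ, h0, h⟩ := sep (U := L1 a) (v := v) (by simp [mem_L1, hv, hv'])
  exact ⟨φ, h0 _ (l1_self a), h⟩

theorem sep11 {a v : V} (ha : a ≠ 0) (hv : v ≠ 0) : ∃ φ : V →+ ZMod 2, φ a = 1 ∧ φ v = 1 := by
  by_cases h : a = v
  · obtain ⟨φ, h1⟩ := sep0 ha
    exact ⟨φ, h1, h ▸ h1⟩
  · obtain ⟨φ, h0, h1⟩ := sep1 (a := a + v) hv (fun h' => ha (by simpa using h'))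
    rw [map_add, h1, add_eq_zero] at h0
    exact ⟨φ, h0, h1⟩

variable (V) in
theorem card_pow [Finite V] : ∃ k, Nat.card V = 2 ^ k := by
  letI := md V
  exact ⟨_, by rw [Module.natCard_eq_pow_finrank (K := ZMod 2), Nat.card_zmod]⟩

instance finite_dual [Finite V] : Finite (V →+ ZMod 2) :=
  Finite.of_injective (fun f => (f : V → ZMod 2)) DFunLike.coe_injective

variable (V) in
theorem card_dual [Finite V] : Nat.card (V →+ ZMod 2) = Nat.card V := by
  letI := md V
  haveI : Finite (V →ₗ[ZMod 2] ZMod 2) :=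
    Finite.of_injective (fun f => (f : V → ZMod 2)) DFunLike.coe_injective
  rw [Nat.card_congr (AddMonoidHom.toZModLinearMapEquiv 2).toEquiv,
    Module.natCard_eq_pow_finrank (K := ZMod 2) (V := V →ₗ[ZMod 2] ZMod 2),
    Module.natCard_eq_pow_finrank (K := ZMod 2) (V := V)]
  congr 1
  exact Subspace.dual_finrank_eq

theorem card_ker_mul {U : Type*} [AddCommGroup U] (f : V →+ U) :
    Nat.card V = Nat.card f.ker * Nat.card f.range := by
  rw [← Nat.card_congr (QuotientAddGroup.quotientKerEquivRange f).toEquiv, mul_comm]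
  exact AddSubgroup.card_eq_card_quotient_mul_card_addSubgroup _

theorem idx2_ker {φ : V →+ ZMod 2} {B : AddSubgroup V} {v : V} (hv : v ∈ B) (h : φ v = 1) :
    Idx2 (B ⊓ φ.ker) B := by
  refine ⟨inf_le_left, ⟨v, hv, fun h' => by simpa [h] using h'.2⟩, fun a ha b hb ha' hb' => ?_⟩
  have h1 : φ a = 1 := z_ne0.1 fun h => ha' ⟨ha, h⟩
  have h2 : φ b = 1 := z_ne0.1 fun h => hb' ⟨hb, h⟩
  exact ⟨B.add_mem ha hb, show φ (a + b) = 0 by rw [map_add, h1, h2, aa]⟩

/-- the annihilator -/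
def perp (U : AddSubgroup V) : AddSubgroup (V →+ ZMod 2) :=
  mkSub {φ | ∀ u ∈ U, φ u = 0} (fun _ _ => rfl) fun a ha b hb u hu => by
    rw [AddMonoidHom.add_apply, ha u hu, hb u hu, add_zero]

theorem mem_perp {U : AddSubgroup V} {φ : V →+ ZMod 2} : φ ∈ perp U ↔ ∀ u ∈ U, φ u = 0 := Iff.rfl

theorem card_perp [Finite V] (U : AddSubgroup V) :
    Nat.card (perp U) * Nat.card U = Nat.card V := by
  let r : (V →+ ZMod 2) →+ (U →+ ZMod 2) := AddMonoidHom.compHom' U.subtype
  have h1 : r.ker = perp U := by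
    ext φ
    simp only [AddMonoidHom.mem_ker, mem_perp, DFunLike.ext_iff, Subtype.forall]
    rfl
  have h2 : r.range = ⊤ := by
    rw [AddMonoidHom.range_eq_top]
    intro ψ
    obtain ⟨φ, h⟩ := exists_ext U ψ
    exact ⟨φ, by ext u; exact h u⟩
  rw [← card_dual V, card_ker_mul r, h1, h2, AddSubgroup.card_top, card_dual]

theorem eval_surj [Finite V] (θ : (V →+ ZMod 2) →+ ZMod 2) : ∃ v : V, ∀ φ, θ φ = φ v := by
  have hi : Function.Injective (AddMonoidHom.eval : V →+ (V →+ ZMod 2) →+ ZMod 2) := by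
    rw [injective_iff_map_eq_zero]
    intro v hv
    by_contra h
    obtain ⟨φ, h1⟩ := sep0 h
    have := DFunLike.congr_fun hv φ
    simp [h1] at this
  have hb := (Nat.bijective_iff_injective_and_card _).2 ⟨hi, by rw [card_dual, card_dual]⟩
  obtain ⟨v, rfl⟩ := hb.2 θ
  exact ⟨v, fun φ => rfl⟩

/-- a set closed under translation by a subgroup has cardinality divisible by its order -/
theorem card_dvd_of_closed [Finite V] (L : AddSubgroup V) (s : Set V)
    (h : ∀ v ∈ s, ∀ u ∈ L, v + u ∈ s) : Nat.card L ∣ s.ncard := by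
  have : s = (QuotientAddGroup.mk : V → V ⧸ L) ⁻¹' (QuotientAddGroup.mk '' s) := by
    ext v
    refine ⟨fun hv => ⟨v, hv, rfl⟩, ?_⟩
    rintro ⟨w, hw, hwv⟩
    have := h w hw _ (QuotientAddGroup.eq.1 hwv)
    simpa using this
  rw [this, ← Nat.card_coe_set_eq, Nat.card_congr (QuotientAddGroup.preimageMkEquivAddSubgroupProdSet L _),
    Nat.card_prod]
  exact Dvd.intro _ rfl

end Cfsg.Agent.H29.CK
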