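import Cfsg.Agent.H29.CKGeo

/-! Doubly transitive linear groups over `F₂`: first consequences; bilinear Steiner systems. -/

set_option autoImplicit false
set_option linter.unusedSectionVars false

namespace Cfsg.Agent.H29.CK

open MulAction

variable {G : Type*} [Group G] {V : Type*} [AddCommGroup V] [Ex2 V]

/-- no bilinear Steiner system of Fano planes -/
theorem no_fano {S : V → V → AddSubgroup V} (l2 : ∀ a b, a ≠ 0 → L2 a b ≤ S a b)
    (deg : ∀ a b, a ≠ 0 → b ∈ L1 a → S a b = L1 a)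
    (comm : ∀ a b, a ≠ 0 → b ≠ 0 → S a b = S b a)
    (part : ∀ a b c, a ≠ 0 → c ∈ S a b → c ∉ L1 a → S a c = S a b)
    (lin : ∀ a b c, a ≠ 0 → S a (b + c) ≤ S a b ⊔ S a c)
    (idx : ∀ a b, a ≠ 0 → b ∉ L1 a → Idx2 (L2 a b) (S a b)) {a1 a2 z : V} (h1 : a1 ≠ 0)
    (h2 : a2 ∉ L1 a1) (hz : z ∉ S a1 a2) : False := by
  classical
  have inter : ∀ a u v t, a ≠ 0 → S a u ≠ S a v → t ∈ S a u → t ∈ S a v → t ∈ L1 a :=
    fun a u v t a0 hne h3 h4 => by_contra fun h5 =>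
      hne ((part a u t a0 h3 h5).symm.trans (part a v t a0 h4 h5))
  have sr : ∀ a b, a ≠ 0 → b ∈ S a b := fun a b a0 => l2 a b a0 (l2_right _ _)
  have sl : ∀ a b, a ≠ 0 → a ∈ S a b := fun a b a0 => l2 a b a0 (l2_left _ _)
  have ADD : ∀ c u v t p r, c ≠ 0 → u ∉ L1 c → v ∉ L1 c → S c u ≠ S c v → t ∈ S c (u + v) →
      t ∉ L2 c (u + v) → p ∈ S c u → p ∉ L2 c u → r ∈ S c v → r ∉ L2 c v →
      t + p + r ∈ adj (L2 c u) v := by
    intro c u v t p r c0 hu hv hne ht ht' hp hp' hr hr'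
    have key : ∀ u v, u ∉ L1 c → v ∉ L1 c → S c u ≠ S c v → ∀ t1 ∈ S c u, ∀ t2 ∈ S c v,
        t1 + t2 ∈ S c (u + v) → t1 + t2 ∉ L2 c (u + v) → t1 ∉ L2 c u := by
      intro u v hu hv hne t1 _ t2 h4 h5 h6 h7
      have h8 : S c v ≠ S c (u + v) := fun h' =>
        hu (inter c u v u c0 hne (sr c u c0) (mem_of_add' (sr c v c0) (h' ▸ sr c _ c0)))
      have h9 : L1 c ≤ S c v := (le_adj _ _).trans (l2 c v c0)
      rcases h7 with h7 | h7
      · exact h6 (Or.inl (inter c _ _ _ c0 h8 (add_mem (h9 h7) h4) h5))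
      · refine h6 (Or.inr (inter c _ _ _ c0 h8 ?_ (add_mem h5 (sr c _ c0))))
        exact mem_of_eq (add_mem (add_mem (h9 h7) h4) (sr c v c0)) (by simp only [c2])
    obtain ⟨t1, h3, t2, h4, rfl⟩ := AddSubgroup.mem_sup.1 (lin c u v c0 ht)
    have e1 := (idx c u c0 hu).add _ (by exact h3) _ hp (key u v hu hv hne t1 h3 t2 h4 ht ht') hp'
    have e2 := (idx c v c0 hv).add _ (by exact h4) _ hr (key v u hv hu hne.symm t2 h4 t1 h3
      (by rwa [add_comm t2, add_comm v]) (by rwa [add_comm t2, add_comm v])) hr'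
    exact mem_of_eq (add_mem (le_adj _ _ e1) (L2_le (le_adj _ _ (l2_left c u))
      (self_mem_adj _ v) e2)) (by simp only [c2])
  have blk : ∀ a ∈ S a1 a2, a ≠ 0 → ∃ c, S a c = S a1 a2 := fun a ha a0 => by
    by_cases h : a = a1
    · exact ⟨a2, by rw [h]⟩
    · exact ⟨a1, by rw [comm a a1 a0 h1, part a1 a2 a h1 ha (by simp [mem_L1, a0, h])]⟩
  have z0 : z ≠ 0 := by rintro rfl; exact hz (zero_mem _)
  have intB : ∀ a ∈ S a1 a2, a ≠ 0 → ∀ t ∈ S a1 a2, t ∈ S a z → t ∈ L1 a := fun a ha a0 t ht ht' => by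
    obtain ⟨c, hc⟩ := blk a ha a0
    exact inter a c z t a0 (fun h' => hz (hc ▸ h' ▸ sr a z a0)) (hc ▸ ht) ht'
  let R : V → V → Prop := fun a p => a ∈ S a1 a2 ∧ a ≠ 0 ∧
    ∃ t ∈ S a z, t ∉ L2 a z ∧ t + p ∈ S a1 a2
  have nz : ∀ a ∈ S a1 a2, a ≠ 0 → a ∉ L1 z := fun a ha a0 h' =>
    (mem_L1.1 h').elim a0 fun h' => hz (h' ▸ ha)
  have Rex : ∀ a ∈ S a1 a2, a ≠ 0 → ∃ p, R a p := fun a ha a0 => by
    obtain ⟨t, ht, ht'⟩ := (idx a z a0 fun h' => hz (L1_le ha h')).ex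
    exact ⟨t, ha, a0, t, ht, ht', by rw [aa]; exact zero_mem _⟩
  have Radd : ∀ a b p r, R a p → R b r → a + b ≠ 0 → R (a + b) (p + r) := by
    rintro a b p r ⟨ha, a0, t1, h3, h4, h5⟩ ⟨hb, b0, t2, h6, h7, h8⟩ hab
    obtain ⟨-, hs, -, t, ht, ht', -⟩ := Rex _ (add_mem ha hb) hab
    have h9 := ADD z a b t t1 t2 z0 (nz a ha a0) (nz b hb b0) (fun h' => by
        have := intB a ha a0 b hb (by rw [comm a z a0 z0, h']; exact sr z b z0)
        exact (mem_L1.1 this).elim b0 fun h' => hab (by rw [h', aa]))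
      (comm _ z hab z0 ▸ ht) (L2_comm _ z ▸ ht') (comm a z a0 z0 ▸ h3) (L2_comm a z ▸ h4)
      (comm b z b0 z0 ▸ h6) (L2_comm b z ▸ h7)
    rcases (adj_le (L2_le (self_mem_adj _ z) (le_adj _ _ ha)) (le_adj _ _ hb) :
      _ ≤ adj (S a1 a2) z) h9 with h10 | h10
    · exact ⟨hs, hab, t, ht, ht', mem_of_eq (add_mem (add_mem h10 h5) h8) (by simp only [c2])⟩
    · exact ⟨hs, hab, t + z, add_mem ht (sr _ z hab), fun h' => ht' (mem_of_add' (l2_right _ _) h'),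
        mem_of_eq (add_mem (add_mem h10 h5) h8) (by simp only [c2])⟩
  have NB : ∀ a p, R a p → z + p ∉ S a1 a2 := by
    rintro a p ⟨ha, a0, t, h3, h4, h5⟩ h6
    exact h4 (Or.inr (intB a ha a0 _ (mem_of_eq (add_mem h5 h6) (by simp only [c2]))
      (add_mem h3 (sr a z a0))))
  obtain ⟨a3, ha3, h3⟩ := (idx a1 a2 h1 h2).ex
  simp only [mem_L1, mem_L2, not_or] at h2 h3
  obtain ⟨p1, R1⟩ := Rex a1 (sl _ _ h1) h1
  obtain ⟨p2, R2⟩ := Rex a2 (sr _ _ h1) h2.1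
  obtain ⟨p3, R3⟩ := Rex a3 ha3 h3.1
  have R12 := Radd _ _ _ _ R1 R2 fun h' => h2.2 (add_eq_zero.1 h').symm
  have R13 := Radd _ _ _ _ R1 R3 fun h' => h3.2.1 (add_eq_zero.1 h').symm
  have R23 := Radd _ _ _ _ R2 R3 fun h' => h3.2.2.1 (add_eq_zero.1 h').symm
  have R123 := Radd _ _ _ _ R12 R3 fun h' => h3.2.2.2 (add_eq_zero.1 h').symm
  obtain ⟨φ, hφ, hφz⟩ := sep (U := adj (adj (adj (S a1 a2) p1) p2) p3) (v := z) (by
    rintro (((h | h) | (h | h)) | ((h | h) | (h | h)))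
    · exact hz h
    · exact NB _ _ R1 h
    · exact NB _ _ R2 h
    · exact NB _ _ R12 (mem_of_eq h (by simp only [c2]))
    · exact NB _ _ R3 h
    · exact NB _ _ R13 (mem_of_eq h (by simp only [c2]))
    · exact NB _ _ R23 (mem_of_eq h (by simp only [c2]))
    · exact NB _ _ R123 (mem_of_eq h (by simp only [c2])))
  have φB : ∀ a ∈ S a1 a2, φ a = 0 := fun a ha => hφ a (Or.inl (Or.inl (Or.inl ha)))
  have q1 : φ p1 = 0 := hφ _ (Or.inl (Or.inl (self_mem_adj _ _)))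
  have q2 : φ p2 = 0 := hφ _ (Or.inl (self_mem_adj _ _))
  have q3 : φ p3 = 0 := hφ _ (self_mem_adj _ _)
  let β : V → V → ZMod 2 := fun a w => if a ≠ 0 ∧ ∃ t ∈ S a w, φ t = 1 then 1 else 0
  have β0 : ∀ a w, (a ≠ 0 → ∀ t ∈ S a w, φ t = 0) → β a w = 0 := fun a w h =>
    if_neg fun ⟨a0, t, ht, ht'⟩ => zero_ne_one ((h a0 t ht).symm.trans ht')
  have φL : ∀ a w, φ a = 0 → φ w = 0 → L2 a w ≤ φ.ker := fun a w ha hw => L2_le ha hw
  have βd : ∀ a w, φ a = 0 → w ∈ L1 a → β a w = 0 := fun a w ha hw =>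
    β0 a w fun a0 t ht => L1_le (A := φ.ker) ha (deg a w a0 hw ▸ ht)
  have βv : ∀ a w p, a ≠ 0 → φ a = 0 → φ w = 0 → w ∉ L1 a → p ∈ S a w → p ∉ L2 a w →
      β a w = φ p := fun a w p a0 ha hw hw' hp hp' => by
    rcases z01 (φ p) with h | h
    · rw [h]
      exact β0 a w fun _ t ht => adj_le (φL a w ha hw) h (((idx a w a0 hw').eq_adj hp hp').le ht)
    · rw [h]; exact if_pos ⟨a0, p, hp, h⟩
  have βc : ∀ a w w', S a w = S a w' → β a w = β a w' := fun a w w' h => by simp only [β, h]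
  have βs : ∀ a w w', a ≠ 0 → w + w' ∈ L1 a → S a w = S a w' := fun a w w' a0 h => by
    by_cases hw : w ∈ L1 a
    · rw [deg a w a0 hw, deg a w' a0 (mem_of_add hw h)]
    · exact part a w' w a0 (mem_of_add' (sr a w' a0) (L1_le (sl a w' a0) h)) hw
  have βa : ∀ a w w', φ a = 0 → φ w = 0 → φ w' = 0 → β a (w + w') = β a w + β a w' := by
    intro a w w' ha hw hw'
    by_cases a0 : a = 0
    · simp [β, a0]
    by_cases h4 : w ∈ L1 a
    · rw [βd a w ha h4, zero_add, βc a _ w' (βs _ _ _ a0 (by simpa only [c2] using h4))]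
    by_cases h5 : w' ∈ L1 a
    · rw [βd a w' ha h5, add_zero, βc a _ w (βs _ _ _ a0 (by simpa only [c2] using h5))]
    by_cases h6 : w + w' ∈ L1 a
    · rw [βd a _ ha h6, βc a w w' (βs _ _ _ a0 h6), aa]
    have hs : φ (w + w') = 0 := by rw [map_add, hw, hw', add_zero]
    by_cases h7 : S a w = S a w'
    · have h8 : β a w = 0 := (βv a w w' a0 ha hw h4 (h7 ▸ sr a w' a0) (by
        rintro (h | h)
        · exact h5 h
        · exact h6 (by rwa [add_comm])) ).trans hw'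
      rw [← βc a w w' h7, βc a (w + w') w (part a w _ a0 (add_mem (sr a w a0) (h7 ▸ sr a w' a0)) h6),
        h8, add_zero]
    obtain ⟨t, ht, ht'⟩ := (idx a _ a0 h6).ex
    obtain ⟨p, hp, hp'⟩ := (idx a _ a0 h4).ex
    obtain ⟨r, hr, hr'⟩ := (idx a _ a0 h5).ex
    have : φ (t + p + r) = 0 :=
      adj_le (φL a w ha hw) hw' (ADD a w w' t p r a0 h4 h5 h7 ht ht' hp hp' hr hr')
    rw [βv a _ t a0 ha hs h6 ht ht', βv a w p a0 ha hw h4 hp hp', βv a w' r a0 ha hw' h5 hr hr',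
      ← add_eq_zero, ← this, map_add, map_add, add_assoc]
  have βm : ∀ a w, φ a = 0 → φ w = 0 → β a w = β w a := fun a w ha hw => by
    by_cases a0 : a = 0
    · rw [βd w a hw (a0 ▸ zero_mem _), β0 a w fun h => (h a0).elim]
    by_cases w0 : w = 0
    · rw [βd a w ha (w0 ▸ zero_mem _), β0 w a fun h => (h w0).elim]
    simp only [β, comm a w a0 w0, ne_eq, a0, w0]
  have βa' : ∀ a a' w, φ a = 0 → φ a' = 0 → φ w = 0 → β (a + a') w = β a w + β a' w :=
    fun a a' w ha ha' hw => by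
      rw [βm _ w (by rw [map_add, ha, ha', add_zero]) hw, βa w a a' hw ha ha', βm w a hw ha,
        βm w a' hw ha']
  have βR : ∀ a p, R a p → φ p = 0 → β a p = 1 := by
    rintro a p ⟨ha, a0, t, h4, h5, h6⟩ hp
    have ht : φ t = 0 := by simpa [hp] using φB _ h6
    have h7 : β a (t + p) = 0 := by
      by_cases h8 : t + p ∈ L1 a
      · exact βd a _ (φB a ha) h8
      · obtain ⟨c, hc⟩ := blk a ha a0
        exact β0 _ _ fun _ u hu => φB u (hc ▸ part a c _ a0 (hc ▸ h6) h8 ▸ hu)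
    rw [βa a t p (φB a ha) ht hp, add_eq_zero] at h7
    rw [← h7]
    exact if_pos ⟨a0, z, part a z t a0 h4 (fun h' => h5 (Or.inl h')) ▸ sr a z a0, hφz⟩
  have r1 := φB _ R1.1
  have r2 := φB _ R2.1
  have r3 := φB _ R3.1
  have e1 := βR _ _ R1 q1
  have e2 := βR _ _ R2 q2
  have e3 := βR _ _ R3 q3
  have e12 := βR _ _ R12 (by simp [q1, q2])
  have e13 := βR _ _ R13 (by simp [q1, q3])
  have e23 := βR _ _ R23 (by simp [q2, q3])
  have e123 := βR _ _ R123 (by simp [q1, q2, q3])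
  simp (disch := simp [q1, q2, q3, r1, r2, r3]) only [βa, βa', e1, e2, e3] at e12 e13 e23 e123
  revert e12 e13 e23 e123
  generalize β a1 p2 = x1; generalize β a1 p3 = x2; generalize β a2 p1 = x3
  generalize β a2 p3 = x4; generalize β a3 p1 = x5; generalize β a3 p2 = x6
  revert x1 x2 x3 x4 x5 x6; decide

variable [DistribMulAction G V]

variable (G V) in
/-- double transitivity on non-zero vectors -/
def TT : Prop := ∀ a b a' b' : V, a ≠ 0 → b ≠ 0 → b ≠ a → a' ≠ 0 → b' ≠ 0 → b' ≠ a' →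
  ∃ g : G, g • a = a' ∧ g • b = b'

variable (G V) in
/-- some element acts as a transvection -/
def Tv : Prop := ∃ (g : G) (c w : V), (∀ v, g • v = v ∨ g • v = v + c) ∧ g • w ≠ w

theorem smul_mem_L1 (g : G) {a v : V} : g • v ∈ L1 (g • a) ↔ v ∈ L1 a := by
  simp only [mem_L1, smul_left_cancel_iff, smul_eq_zero_iff_eq]

theorem smul_mem_L2 (g : G) {a b v : V} : g • v ∈ L2 (g • a) (g • b) ↔ v ∈ L2 a b := by
  simp only [mem_L2, ← smul_add, smul_left_cancel_iff, smul_eq_zero_iff_eq]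

variable [Finite V]

theorem exists_third (h4 : 4 ≤ Nat.card V) (a : V) : ∃ b, b ≠ 0 ∧ b ≠ a := by
  obtain ⟨b, -, hb⟩ := exists_notMem (A := L1 a) (B := ⊤) (by have := card_L1_le a; simp; omega)
  exact ⟨b, by simpa [mem_L1] using hb⟩

namespace TT

variable (h : TT G V) (h4 : 4 ≤ Nat.card V)
include h h4

theorem trans {a b : V} (ha : a ≠ 0) (hb : b ≠ 0) : ∃ g : G, g • a = b := by
  obtain ⟨c, hc⟩ := exists_third h4 a
  obtain ⟨d, hd⟩ := exists_third h4 b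
  obtain ⟨g, hg, -⟩ := h a c b d ha hc.1 hc.2 hb hd.1 hd.2
  exact ⟨g, hg⟩

theorem gen {a a' : V} {φ φ' : V →+ ZMod 2} (ha : a ≠ 0) (ha' : a' ≠ 0) (h1 : φ a = φ' a')
    (h2 : ∃ v, φ v = 1) (h3 : ∃ v, φ' v = 1) : ∃ g : G, g • a = a' ∧ ∀ v, φ' (g • v) = φ v := by
  obtain ⟨k, rfl⟩ := h.trans h4 ha ha'
  obtain ⟨w, hw, hw'⟩ : ∃ w, φ w = 1 ∧ φ' (k • w) = 1 := by
    obtain ⟨u, hu⟩ := h2
    obtain ⟨v, hv⟩ := h3
    rcases z01 (φ' (k • u)) with h5 | h5
    · rcases z01 (φ (k⁻¹ • v)) with h6 | h6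
      · exact ⟨u + k⁻¹ • v, by simp [hu, h6], by simp [hv, h5]⟩
      · exact ⟨k⁻¹ • v, h6, by simp [hv]⟩
    · exact ⟨u, hu, h5⟩
  obtain ⟨g, hg, hg'⟩ := fourier' (stabilizer G a) (φ := φ) (φ' := φ'.comp (hom k)) w hw hw'
    fun z hz => by
      change φ z ≠ φ' (k • z) at hz
      refine h a z a (z + w) ha (by rintro rfl; simp at hz) (by rintro rfl; exact hz h1) ha
        (fun h' => hz ?_) fun h' => hz ?_
      · rw [add_eq_zero.1 h', hw, hw']
      · rw [show z = a + w by rw [← h']; simp only [c2], smul_add, map_add, map_add, h1, hw, hw']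
  exact ⟨k * g, by rw [mul_smul, hg], fun v => by rw [mul_smul]; exact hg' v⟩

theorem af : AF G V := fun x x' φ φ' h1 h2 =>
  h.gen h4 (by rintro rfl; simp at h1) (by rintro rfl; simp at h2) (h1.trans h2.symm) ⟨x, h1⟩
    ⟨x', h2⟩

variable [Finite G]

theorem m1 {a b z u : V} (a0 : a ≠ 0) (b0 : b ≠ 0) (ba : b ≠ a) (hz : z ∉ L2 a b)
    (hu : u ∈ L2 a b) : ∃ g : G, g • a = a ∧ g • b = b ∧ g • z = z + u := by
  obtain ⟨x, y, W, hW⟩ := exists_geo (h.af h4) h4 default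
  obtain ⟨g, rfl, rfl⟩ := h x y a b hW.x0 hW.y0 hW.yx a0 b0 ba
  exact hW.p1' (hW.eqv g _ _ hW.ymem) b0 ba hz hu

end TT

instance stabQuot (s : V) : DistribMulAction (stabilizer G s) (V ⧸ L1 s) :=
  quotAct _ fun g v hv => by
    rw [← smul_mem_L1 (g : G), g.2] at hv
    exact hv

theorem smul_mk (s : V) (g : stabilizer G s) (v : V) :
    g • (QuotientAddGroup.mk v : V ⧸ L1 s) = QuotientAddGroup.mk ((g : G) • v) := rfl

theorem card_comap_mk {s : V} (hs : s ≠ 0) (U : AddSubgroup (V ⧸ L1 s)) :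
    Nat.card (U.comap (QuotientAddGroup.mk' (L1 s))) = 2 * Nat.card U := by
  rw [← card_L1 hs, ← Nat.card_prod]
  exact Nat.card_congr (QuotientAddGroup.preimageMkEquivAddSubgroupProdSet (L1 s) U)

theorem card_quot {s : V} (hs : s ≠ 0) : Nat.card V = 2 * Nat.card (V ⧸ L1 s) := by
  simpa using card_comap_mk hs ⊤

theorem TT.af_quot [Finite G] (h : TT G V) (h4 : 4 ≤ Nat.card V) {s : V} (hs : s ≠ 0) :
    AF (stabilizer G s) (V ⧸ L1 s) := by
  intro a a' φ φ' h1 h2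
  induction a using QuotientAddGroup.induction_on with | H a => ?_
  induction a' using QuotientAddGroup.induction_on with | H a' => ?_
  have key : ∀ (ψ : V ⧸ L1 s →+ ZMod 2) (b : V), ψ b = 1 → b ≠ 0 ∧ b ≠ s := fun ψ b hb => by
    rw [← not_or, ← mem_L1, ← QuotientAddGroup.eq_zero_iff]
    intro h'
    simp [h'] at hb
  have hs0 : (s : V ⧸ L1 s) = 0 := (QuotientAddGroup.eq_zero_iff s).2 (l1_self s)
  obtain ⟨k, hk, rfl⟩ := h s a s a' hs (key φ a h1).1 (key φ a h1).2 hs (key φ' a' h2).1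
    (key φ' a' h2).2
  obtain ⟨g, hg, hg'⟩ := fourier' (stabilizer G s ⊓ stabilizer G a)
    (φ := φ.comp (QuotientAddGroup.mk' _)) (φ' := (φ'.comp (QuotientAddGroup.mk' _)).comp (hom k))
    a h1 h2 fun z hz => by
      change φ z ≠ φ' (k • z :) at hz
      obtain ⟨g, e1, e2, e3⟩ := h.m1 h4 hs (key φ a h1).1 (key φ a h1).2 (z := z) (fun h' => hz (by
        rcases mem_L2.1 h' with rfl | rfl | rfl | rfl <;> simp [hk, hs0, h1, h2])) (l2_right _ _)
      exact ⟨g, ⟨e1, e2⟩, e3⟩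
  refine ⟨⟨k * g, by rw [mem_stabilizer_iff, mul_smul, hg.1, hk]⟩, ?_, fun v => ?_⟩
  · rw [smul_mk, mul_smul, hg.2]
  · induction v using QuotientAddGroup.induction_on with | H v => ?_
    rw [smul_mk, mul_smul]
    exact hg' v

end Cfsg.Agent.H29.CK
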