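import Cfsg.Agent.H29.CKHex
import Cfsg.Agent.H29.CKTwo

/-! The Cameron–Kantor theorem over `F₂`: cases. -/

set_option autoImplicit false
set_option linter.unusedSectionVars false

namespace Cfsg.Agent.H29.CK

open MulAction

universe u v

variable {G : Type u} [Group G] {V : Type v} [AddCommGroup V] [Ex2 V] [DistribMulAction G V]
  [Finite V]

theorem tv_of_hyper {A : AddSubgroup V} (hA : Idx2 A ⊤) {g : G} (h : ∀ v ∈ A, g • v = v) {w : V}
    (hw : g • w ≠ w) : Tv G V := by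
  refine ⟨g, g • w + w, w, fun v => ?_, hw⟩
  by_cases hv : v ∈ A
  · exact Or.inl (h v hv)
  · have := h _ (hA.add v trivial w trivial hv fun h' => hw (h w h'))
    rw [smul_add, ← add_eq_zero] at this
    exact Or.inr (by rw [← add_eq_zero, ← this]; simp only [c2])

theorem faith (hn : ¬ Tv G V) {g : G} {s : V} (h : ∀ v, g • v + v ∈ L1 s) (v : V) : g • v = v := by
  by_contra hv
  exact hn ⟨g, s, v, fun w => (mem_L1.1 (h w)).imp add_eq_zero.1 fun h' => eq_add_iff.2 h', hv⟩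

theorem faith_quot (hn : ¬ Tv G V) {s : V} {g : stabilizer G s} (h : ∀ v : V ⧸ L1 s, g • v = v)
    (v : V) : (g : G) • v = v := faith hn (fun w => mk_eq_iff.1 (h w)) v

theorem TT.tv_all (h : TT G V) (h4 : 4 ≤ Nat.card V) (ht : Tv G V) {c' : V} {ψ' : V →+ ZMod 2}
    (c0 : c' ≠ 0) (h1 : ψ' c' = 0) (h2 : ∃ w, ψ' w = 1) :
    ∃ g : G, ∀ v, (ψ' v = 0 → g • v = v) ∧ (ψ' v = 1 → g • v = v + c') := by
  obtain ⟨g, c, w, hg, hw⟩ := ht
  have hw1 := (hg w).resolve_left hw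
  have hc : c ≠ 0 := by rintro rfl; exact hw (by simpa using hw1)
  obtain ⟨ψ, hψ, hψ1⟩ := sep (U := (hom g + AddMonoidHom.id V).ker) (v := w)
    fun h' => hw (add_eq_zero.1 h')
  have h3 : ∀ v, g • v = v → ψ v = 0 := fun v hv => hψ v (add_eq_zero.2 hv)
  obtain ⟨k, rfl, hk⟩ := h.gen h4 (φ := ψ) (φ' := ψ') hc c0 ((h3 c ((hg c).resolve_right (by
    rw [aa]; exact smul_ne hc))).trans h1.symm) ⟨w, hψ1⟩ h2
  refine ⟨k * g * k⁻¹, fun v => ?_⟩
  obtain ⟨v, rfl⟩ : ∃ u, v = k • u := ⟨k⁻¹ • v, by simp⟩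
  rw [hk, mul_smul, inv_smul_smul, mul_smul, ← smul_add, smul_left_cancel_iff, smul_left_cancel_iff]
  refine ⟨fun h0 => (hg v).resolve_right fun h5 => ?_, fun h0 => (hg v).resolve_left fun h5 => ?_⟩
  · have := h3 (v + w) (by rw [smul_add, h5, hw1]; simp only [c2])
    rw [map_add, h0, hψ1] at this
    exact absurd this (by decide)
  · exact zero_ne_one ((h3 v h5).symm.trans h0)

theorem fix_adj {A : AddSubgroup V} {v : V} {g : G} (h1 : ∀ u ∈ A, g • u = u) (h2 : g • v = v) :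
    ∀ u ∈ adj A v, g • u = u := by
  rintro u (hu | hu)
  · exact h1 u hu
  · have := h1 _ hu
    rwa [smul_add, h2, add_left_inj] at this

theorem fix_L1 {v : V} {g : G} (h2 : g • v = v) : ∀ u ∈ L1 v, g • u = u :=
  fix_adj (fun u hu => by rw [AddSubgroup.mem_bot.1 hu, smul_zero]) h2

variable [Finite G]

theorem TT.small (h : TT G V) (hc : Nat.card V = 4 ∨ Nat.card V = 8) : Tv G V := by
  have h4 : 4 ≤ Nat.card V := by omega
  obtain ⟨a, a0, -⟩ := exists_third h4 (0 : V)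
  obtain ⟨b, b0, ba⟩ := exists_third h4 a
  rcases hc with hc | hc
  · obtain ⟨g, h1, h2⟩ := h a b a (a + b) a0 b0 ba a0 (fun h' => ba (add_eq_zero.1 h').symm)
      (by simpa using b0)
    exact tv_of_hyper (Idx2.of_card le_top (by simp [card_L1 a0, hc])) (fix_L1 h1) (w := b)
      (by simpa [h2] using a0)
  · have i := Idx2.of_card (A := L2 a b) le_top (by simp [card_L2 a0 b0 ba, hc])
    obtain ⟨z, -, hz⟩ := i.ex
    obtain ⟨g, h1, h2, h3⟩ := h.m1 h4 a0 b0 ba hz (l2_left _ _)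
    exact tv_of_hyper i (fix_adj (fix_L1 h1) h2) (w := z) (by simpa [h3] using a0)

theorem TT.exists_S (h : TT G V) (h4 : 4 ≤ Nat.card V) {s : V} (hs : s ≠ 0)
    {T : Subgroup (stabilizer G s)} {x y : V ⧸ L1 s} {W : V ⧸ L1 s → AddSubgroup (V ⧸ L1 s)}
    (hW : Geo T x y W) : ∃ S : V → V → AddSubgroup V,
      (∀ a, a ≠ 0 → ∃ π : V →+ V ⧸ L1 s, Function.Surjective π ∧ (∀ v, π v = 0 ↔ v ∈ L1 a) ∧
        ∀ b, S a b = (W (π b)).comap π) ∧
      (∀ b, S s b = (W b).comap (QuotientAddGroup.mk' _)) ∧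
      (∀ a b, a ≠ 0 → b ≠ 0 → S a b = S b a) ∧
      ∀ (g : G) a b c, a ≠ 0 → (g • c ∈ S (g • a) (g • b) ↔ c ∈ S a b) := by
  induction x using QuotientAddGroup.induction_on with | H x => ?_
  induction y using QuotientAddGroup.induction_on with | H y => ?_
  let O : V → V → V → Prop := fun a b c => ∃ g : G, g • s = a ∧ g • x = b ∧ g • y = c
  have Oe : ∀ (g : G) a b c, O a b c → O (g • a) (g • b) (g • c) := by
    rintro g a b c ⟨k, rfl, rfl, rfl⟩
    exact ⟨g * k, mul_smul _ _ _, mul_smul _ _ _, mul_smul _ _ _⟩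
  have Oi : ∀ a b c, O a b c → a ≠ 0 ∧ (b ≠ 0 ∧ b ≠ a) ∧ c ≠ 0 ∧ c ≠ a ∧ c ≠ b ∧ c ≠ a + b := by
    rintro a b c ⟨k, rfl, rfl, rfl⟩
    rw [← not_or, ← mem_L1, ← not_or, ← not_or, ← not_or, ← mem_L2, smul_mem_L1, smul_mem_L2]
    refine ⟨smul_ne hs, fun h' => hW.x0 ((QuotientAddGroup.eq_zero_iff x).2 h'), ?_⟩
    rintro (h' | h')
    · exact hW.y0 ((QuotientAddGroup.eq_zero_iff y).2 h')
    · exact hW.yx (mk_eq_iff.2 h')
  have o3 : ∀ a b c u, O a b c → u ∈ L2 a b → O a b (c + u) := fun a b c u ho hu => by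
    obtain ⟨h1, ⟨h2, h3⟩, h5⟩ := Oi a b c ho
    obtain ⟨g, e1, e2, e3⟩ := h.m1 h4 h1 h2 h3 (z := c) (by simpa only [mem_L2, not_or] using h5) hu
    simpa only [e1, e2, e3] using Oe g a b c ho
  have o2 : ∀ a b c u, O a b c → u ∈ L2 a c → O a (b + u) c := fun a b c u ho hu => by
    obtain ⟨h1, ⟨h2, h3⟩, h5, h6, h7, h8⟩ := Oi a b c ho
    obtain ⟨g, e1, e2, e3⟩ := h.m1 h4 h1 h5 h6 (z := b) (by
      simp only [mem_L2, not_or]
      exact ⟨h2, h3, h7.symm, fun h' => h8 (by rw [h']; simp only [c2])⟩) hu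
    simpa only [e1, e2, e3] using Oe g a b c ho
  have o1 : ∀ a b c, O a b c → O (a + b) b c := fun a b c ho => by
    obtain ⟨h1, ⟨h2, h3⟩, h5, h6, h7, h8⟩ := Oi a b c ho
    obtain ⟨g, e1, e2, e3⟩ := h.m1 h4 h2 h5 h7 (z := a) (by
      simp only [mem_L2, not_or]
      exact ⟨h1, h3.symm, h6.symm, fun h' => h8 (by rw [h']; simp only [c2])⟩) (l2_left _ _)
    simpa only [e1, e2, e3] using Oe g a b c ho
  have sw : ∀ a b c, O a b c → O b a c := fun a b c ho => by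
    simpa only [c2] using o1 _ _ _ (o2 _ _ _ _ (o1 _ _ _ ho) (l2_left _ _))
  have mem0 : ∀ b c : V, (c : V ⧸ L1 s) ∈ W b ↔ c ∈ L2 s b ∨ O s b c := fun b c => by
    constructor
    · intro hc
      by_cases h1 : (c : V ⧸ L1 s) = 0
      · exact Or.inl (Or.inl ((QuotientAddGroup.eq_zero_iff c).1 h1))
      by_cases h2 : (c : V ⧸ L1 s) = b
      · exact Or.inl (Or.inr (mk_eq_iff.1 h2))
      obtain ⟨g, e1, e2⟩ := hW.tr _ _ hc h1 h2
      have e3 : (g : G) • x + b ∈ L1 s := mk_eq_iff.1 e1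
      have e4 : (g : G) • y + c ∈ L1 s := mk_eq_iff.1 e2
      have := o3 _ _ _ _ (o2 _ _ _ _ ⟨g, g.2, rfl, rfl⟩ (Or.inl e3)) (Or.inl e4)
      exact Or.inr (by simpa only [c2] using this)
    · rintro ((hc | hc) | ⟨g, e1, rfl, rfl⟩)
      · rw [(QuotientAddGroup.eq_zero_iff c).2 hc]; exact zero_mem _
      · rw [mk_eq_iff.2 hc]; exact hW.self _
      · exact hW.eqv ⟨g, e1⟩ _ _ hW.ymem
  have : ∀ a : V, ∃ g : G, a ≠ 0 → g • a = s := fun a => by
    by_cases ha : a = 0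
    · exact ⟨1, fun h' => (h' ha).elim⟩
    · obtain ⟨g, hg⟩ := h.trans h4 ha hs
      exact ⟨g, fun _ => hg⟩
  choose γ hγ using this
  let π : V → V →+ V ⧸ L1 s := fun a => (QuotientAddGroup.mk' _).comp (hom (γ a))
  have Oe' : ∀ (g : G) a b c, O (g • a) (g • b) (g • c) ↔ O a b c := fun g a b c =>
    ⟨fun h' => by simpa using Oe g⁻¹ _ _ _ h', Oe g a b c⟩
  have mem : ∀ a b c, a ≠ 0 → (c ∈ (W (π a b)).comap (π a) ↔ c ∈ L2 a b ∨ O a b c) :=
    fun a b c ha => by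
      rw [← smul_mem_L2 (γ a), ← Oe' (γ a), hγ a ha]
      exact mem0 _ _
  refine ⟨fun a b => (W (π a b)).comap (π a), fun a ha => ⟨π a, fun v => ?_, fun v => ?_,
    fun b => rfl⟩, fun b => ?_, fun a b ha hb => ?_, fun g a b c ha => ?_⟩
  · induction v using QuotientAddGroup.induction_on with | H v => ?_
    exact ⟨(γ a)⁻¹ • v, congrArg QuotientAddGroup.mk (smul_inv_smul _ _)⟩
  · rw [← smul_mem_L1 (γ a), hγ a ha]
    exact QuotientAddGroup.eq_zero_iff _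
  · ext c
    rw [mem s b c hs]
    exact (mem0 b c).symm
  · ext c
    rw [mem a b c ha, mem b a c hb, L2_comm]
    exact or_congr Iff.rfl ⟨sw _ _ _, sw _ _ _⟩
  · rw [mem _ _ _ (smul_ne ha), mem _ _ _ ha, smul_mem_L2, Oe']

theorem TT.big (h : TT G V) (h4 : 4 ≤ Nat.card V) (hn : ¬ Tv G V) {s : V} (hs : s ≠ 0)
    (T : Sylow 2 (stabilizer G s)) {R : Subgroup (stabilizer G s)}
    (hR : ∀ r ∈ R, ∀ v : V ⧸ L1 s, r • v = v) :
    Nat.card V ≤ 2 * R.relIndex T ∧ (Nat.card V = 2 * R.relIndex T → ∀ t ∈ T,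
      ∀ φ : V →+ ZMod 2, φ s = 1 → (∀ d, φ (t • d) = φ d) → ∀ d : V, t • d = d) := by
  have := act_bound (G := stabilizer G s) (T := T) (R := R) (D := ⊤) (x := s) trivial hs
    (fun r hr d _ => faith_quot hn (hR r hr) d) (syl_trA T (fun g => g.2) fun φ φ' h1 h2 => by
      obtain ⟨g, hg, hg'⟩ := h.af h4 s s φ φ' h1 h2
      exact ⟨⟨g, hg⟩, hg'⟩)
  rw [AddSubgroup.card_top] at this
  exact ⟨this.1, fun he t ht φ h1 h2 d => this.2 he t ht φ h1 (fun d _ => h2 d) d trivial⟩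

theorem case_one (hn : ¬ Tv G V) (h32 : 32 ≤ Nat.card V) {s : V} (hs : s ≠ 0)
    (h : TT (stabilizer G s) (V ⧸ L1 s)) (ht : Tv (stabilizer G s) (V ⧸ L1 s)) : False := by
  have h16 : 16 ≤ Nat.card (V ⧸ L1 s) := by have := card_quot hs; omega
  have h4 : 4 ≤ Nat.card (V ⧸ L1 s) := by omega
  obtain ⟨c, c0, -⟩ := exists_third h4 0
  obtain ⟨w, w0, wc⟩ := exists_third h4 c
  obtain ⟨ψ, h1, h2⟩ := sep1 w0 wc
  obtain ⟨g, hg⟩ := h.tv_all h4 ht c0 h1 ⟨w, h2⟩
  induction w using QuotientAddGroup.induction_on with | H w => ?_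
  obtain ⟨d, hd, hd'⟩ : ∃ d : V, ψ d = 0 ∧ (g : G) • d ≠ d := by
    by_contra h'
    push Not at h'
    refine hn (tv_of_hyper (idx2_ker (φ := ψ.comp (QuotientAddGroup.mk' _)) (B := ⊤) (v := w)
      trivial h2) (g := (g : G)) (fun v hv => h' v hv.2) (w := w) fun h'' => c0 ?_)
    have := (hg w).2 h2
    rw [smul_mk, h''] at this
    simpa using this
  have hd1 : (g : G) • d = d + s := eq_add_iff.2
    ((mem_L1.1 (mk_eq_iff.1 ((hg d).1 hd))).resolve_left fun h' => hd' (add_eq_zero.1 h'))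
  obtain ⟨v, hv, hv'⟩ := exists_notMem (A := L2 c d) (B := ⊤ ⊓ ψ.ker) (by
    have := (idx2_ker (B := ⊤) trivial h2).card
    have := card_L2_le c (d : V ⧸ L1 s)
    simp only [AddSubgroup.card_top] at *
    omega)
  obtain ⟨ψ', h3, h5⟩ := sep hv'
  obtain ⟨g', hg'⟩ := h.tv_all h4 ht (c' := d) (ψ' := ψ') (fun h' => hd'
    (fix_L1 g.2 d ((QuotientAddGroup.eq_zero_iff d).1 h'))) (h3 _ (l2_right _ _)) ⟨v, h5⟩
  have hcomm : ∀ u : V ⧸ L1 s, ((g' * g)⁻¹ * (g * g')) • u = u := fun u => by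
    rw [mul_smul, inv_smul_eq_iff, mul_smul, mul_smul]
    have e1 := (hg' c).1 (h3 _ (l2_left _ _))
    have e2 := (hg d).1 hd
    rcases z01 (ψ u) with h6 | h6 <;> rcases z01 (ψ' u) with h7 | h7 <;>
      simp only [hg u, hg' u, h6, h7, smul_add, e1, e2, c2]
  induction v using QuotientAddGroup.induction_on with | H v => ?_
  have h6 := faith_quot hn hcomm v
  rw [Subgroup.coe_mul, mul_smul, Subgroup.coe_inv, inv_smul_eq_iff, Subgroup.coe_mul,
    Subgroup.coe_mul, mul_smul, mul_smul] at h6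
  have h7 : (g : G) • v + v ∈ L1 s := mk_eq_iff.1 ((hg v).1 hv.2)
  have h8 : (g' : G) • v + (v + d) ∈ L1 s := mk_eq_iff.1 ((hg' v).2 h5)
  replace h7 := fix_L1 g'.2 _ h7
  replace h8 := fix_L1 g.2 _ h8
  simp only [smul_add, hd1, h6] at h7 h8
  have := (add_eq_zero.2 h7).trans (add_eq_zero.2 h8).symm
  exact hs (by simpa only [c2] using add_eq_zero.2 this)

theorem case_one' (h : TT G V) (hn : ¬ Tv G V) {s : V} (hs : s ≠ 0)
    {T : Sylow 2 (stabilizer G s)} {x y : V ⧸ L1 s} (hW : Loc (T : Subgroup (stabilizer G s)) x y)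
    (ht : ¬ Tv (stabilizer G s) (V ⧸ L1 s)) (h16 : Nat.card (V ⧸ L1 s) = 16) : False := by
  have hc := card_quot hs
  obtain ⟨z, -, hz, hz'⟩ := fix_coset hW.pg (A := L2 x y) (B := ⊤) (fun t ht v hv => by
      rw [← smul_mem_L2 t, hW.fixx t ht] at hv
      refine L2_le (l2_left _ _) ?_ hv
      rcases hW.fixy t ht with h' | h' <;> rw [h']
      exacts [l2_right _ _, add_mem (l2_right _ _) (l2_left _ _)]) (fun _ _ _ _ => trivial)
    (exists_notMem (by have := card_L2_le x y; simp; omega))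
  have i := Idx2.of_card (A := adj (L2 x y) z) le_top (by
    simp [card_adj hz, card_L2 hW.x0 hW.y0 hW.yx, h16])
  have e1 := (idx_le (T : Subgroup (stabilizer G s)) y (L1 x) fun t ht => by
    rcases hW.fixy t ht with h' | h' <;> simp only [h', c2, mem_L1, true_or, or_true]).trans
    (card_L1_le x)
  have e2 := (idx_le (T ⊓ stabilizer _ y) z (L2 x y) fun t ht => hz' t ht.1).trans (card_L2_le x y)
  have e3 := (h.big (by omega) hn hs T (R := T ⊓ stabilizer _ y ⊓ stabilizer _ z) fun r hr v =>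
    by_contra fun hv => ht (tv_of_hyper i
      (fix_adj (fix_adj (fix_L1 (hW.fixx r hr.1.1)) hr.1.2) hr.2) hv)).1
  rw [← Subgroup.relIndex_mul_relIndex _ _ _ inf_le_left inf_le_left] at e3
  have := Nat.mul_le_mul e2 e1
  omega

theorem case_four (h : TT G V) (hn : ¬ Tv G V) {s : V} (hs : s ≠ 0)
    {T : Sylow 2 (stabilizer G s)} {x y : V ⧸ L1 s} (hW : Loc (T : Subgroup (stabilizer G s)) x y)
    (h64 : Nat.card (V ⧸ L1 s) = 64) {R : Subgroup (stabilizer G s)} (hR : R.relIndex T ≤ 64)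
    (hR' : ∀ r ∈ R, ∀ v : V ⧸ L1 s, r • v = v) : False := by
  have hc := card_quot hs
  obtain ⟨h1, h2⟩ := h.big (by omega) hn hs T hR'
  obtain ⟨m, hm⟩ := reg_sq (T.isPGroup'.map (stabilizer G s).subtype) (D := ⊤) (x := s)
    (fun _ _ _ _ => trivial) (by
      rintro _ ⟨t, ht, rfl⟩ φ h3 h4 d -
      exact h2 (by omega) t ht φ h3 (fun d => h4 d trivial) d) (by
      rintro _ ⟨t, ht, rfl⟩ v - v0 hv
      obtain ⟨k, hk⟩ := h.trans (by omega) v0 hs
      obtain ⟨n, hn⟩ := T.isPGroup' ⟨t, ht⟩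
      have h3 : k * t * k⁻¹ ∈ stabilizer G s := by
        rw [mem_stabilizer_iff, mul_smul, inv_smul_eq_iff.2 hk.symm, mul_smul]
        exact (congrArg _ hv).trans hk
      obtain ⟨g, -, hg⟩ := syl_conj T le_top (P := Subgroup.zpowers ⟨_, h3⟩) (by
        rintro ⟨_, j, rfl⟩
        refine ⟨n, Subtype.ext ?_⟩
        have : (⟨_, h3⟩ : stabilizer G s) ^ 2 ^ n = 1 := Subtype.ext (by
          have : t ^ 2 ^ n = 1 := congrArg Subtype.val hn
          simp [← Subgroup.coe_pow, this])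
        simp only [Subgroup.coe_pow, Subgroup.coe_one]
        rw [← zpow_natCast, ← zpow_mul, mul_comm, zpow_mul, zpow_natCast, this, one_zpow]) le_top
      refine ⟨g * k, by rw [mul_smul, hk]; exact g.2, fun _ => Iff.rfl,
        _, hg _ (Subgroup.mem_zpowers _), by simp [mul_assoc]⟩) (by
      obtain ⟨t, ht, ht'⟩ := hW.sw1
      induction y using QuotientAddGroup.induction_on with | H y => ?_
      refine ⟨t, ⟨t, ht, rfl⟩, y, trivial, fun h' => hW.x0 ?_⟩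
      rw [smul_mk, h'] at ht'
      simpa using ht')
  rw [AddSubgroup.card_top, hc, h64] at hm
  have : m ≤ 12 := by nlinarith
  interval_cases m <;> omega

end Cfsg.Agent.H29.CK
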