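import Cfsg.Agent.H29.CKAct

/-! Forms over `F₂`: quadratic lifts, Gauss sums, partitions into subspaces. -/

set_option autoImplicit false
set_option linter.unusedSectionVars false

namespace Cfsg.Agent.H29.CK

variable {V : Type*} [AddCommGroup V] [Ex2 V]

theorem half (V : Type*) [AddCommGroup V] [Ex2 V] [Finite V] :
    ∃ (ι : Type) (_ : Fintype ι) (l m : ι → V →+ ZMod 2) (e e' : ι → V),
      ∀ b : V → V → ZMod 2, (∀ u v w, b u (v + w) = b u v + b u w) → (∀ u v, b u v = b v u) →
        (∀ v, b v v = 0) → ∀ u v, b u v = ∑ i, (l i u * m i v + l i v * m i u) * b (e i) (e' i) := by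
  letI := md V
  let B := Module.finBasis (ZMod 2) V
  refine ⟨Fin (Module.finrank (ZMod 2) V) × Fin (Module.finrank (ZMod 2) V), inferInstance,
    fun p => if p.1 < p.2 then (B.coord p.1).toAddMonoidHom else 0,
    fun p => (B.coord p.2).toAddMonoidHom, fun p => B p.1, fun p => B p.2,
    fun b h1 h2 h3 u v => ?_⟩
  have hb : ∀ u v, b u v = ∑ j, B.repr v j * b u (B j) := fun u v => by
    have := map_sum ((AddMonoidHom.mk' (b u) (h1 u)).toZModLinearMap 2)
      (fun j => B.repr v j • B j) Finset.univ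
    rw [B.sum_repr] at this
    simp only [map_smul, smul_eq_mul] at this
    exact this
  have hb' : b u v = ∑ i, ∑ j, B.repr u i * B.repr v j * b (B i) (B j) := by
    rw [h2, hb]
    refine Finset.sum_congr rfl fun i _ => ?_
    rw [h2, hb, Finset.mul_sum]
    exact Finset.sum_congr rfl fun j _ => by rw [mul_assoc]
  rw [hb', Fintype.sum_prod_type]
  simp only [add_mul, Finset.sum_add_distrib]
  rw [Finset.sum_comm (f := fun i j => (if i < j then (B.coord i).toAddMonoidHom else 0) v * _ * _),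
    ← Finset.sum_add_distrib]
  refine Finset.sum_congr rfl fun i _ => ?_
  rw [← Finset.sum_add_distrib]
  refine Finset.sum_congr rfl fun j _ => ?_
  rcases lt_trichotomy i j with h | rfl | h
  · simp [h, h.not_gt]
  · simp [h3]
  · simp [h, h.not_gt, h2 (B j), mul_comm]

theorem sum_eq_zero_of_inv [Fintype V] (F : V → ZMod 2) {a : V} (ha : a ≠ 0)
    (h : ∀ v, F (v + a) = F v) : ∑ v, F v = 0 :=
  Finset.sum_ninvolution (· + a) (fun v => by rw [h, aa]) (fun v _ hv => ha (by simpa using hv))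
    (by simp) (fun v => by simp only [c2])

theorem exists_ker {U : Type*} [AddCommGroup U] [Finite U] (f : V →+ U)
    (h : Nat.card U < Nat.card V) : ∃ a : V, a ≠ 0 ∧ f a = 0 := by
  by_contra hn
  push Not at hn
  have := Nat.card_le_card_of_injective f
    ((injective_iff_map_eq_zero f).2 fun a ha => by_contra fun h => hn a h ha)
  omega

theorem sum_three [Fintype V] (h : 8 < Nat.card V) (l m n : V →+ ZMod 2) :
    ∑ v, l v * m v * n v = 0 := by
  obtain ⟨a, ha, h0⟩ := exists_ker (l.prod (m.prod n)) (by simpa using h)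
  simp only [AddMonoidHom.prod_apply, Prod.mk_eq_zero] at h0
  exact sum_eq_zero_of_inv _ ha fun v => by simp [h0]

theorem sum_two [Fintype V] (h : 4 < Nat.card V) (l m : V →+ ZMod 2) (c : ZMod 2) :
    ∑ v, l v * m v * c = 0 := by
  obtain ⟨a, ha, h0⟩ := exists_ker (l.prod m) (by simpa using h)
  simp only [AddMonoidHom.prod_apply, Prod.mk_eq_zero] at h0
  exact sum_eq_zero_of_inv _ ha fun v => by simp [h0]

theorem card_cast [Fintype V] (h : 1 < Nat.card V) : (Fintype.card V : ZMod 2) = 0 := by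
  obtain ⟨a, ha, -⟩ := exists_ker (0 : V →+ Unit) (by simpa using h)
  simpa using sum_eq_zero_of_inv (fun _ : V => 1) ha fun _ => rfl

theorem sum_ne [Fintype V] [DecidableEq V] (h : 1 < Nat.card V) (F : V → ZMod 2) (h0 : F 0 = 0)
    (h1 : ∀ v, v ≠ 0 → F v = 1) : ∑ v, F v = 1 := by
  have : ∀ v, F v = 1 + if v = 0 then 1 else 0 := fun v => by
    split_ifs with hv
    · rw [hv, h0]; rfl
    · rw [h1 v hv, add_zero]
  simp only [this, Finset.sum_add_distrib]
  simp [card_cast h]

/-- there is no non-singular alternating trilinear form in dimension at least four -/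
theorem no_trilinear [Finite V] (h16 : 16 ≤ Nat.card V) (f : V → V → V → ZMod 2)
    (add : ∀ a b c d, f a b (c + d) = f a b c + f a b d) (s1 : ∀ a b c, f a b c = f b a c)
    (s2 : ∀ a b c, f a b c = f a c b) (alt : ∀ a b, f a b b = 0)
    (nd : ∀ s w, s ≠ 0 → w ≠ 0 → w ≠ s → ∃ v, f s w v = 1) : False := by
  classical
  letI := Fintype.ofFinite V
  obtain ⟨ι, _, l, m, e, e', he⟩ := half V
  let fh : V → V → V →+ ZMod 2 := fun a b => AddMonoidHom.mk' (f a b) (add a b)
  have hf : ∀ s a b, f s a b = fh a b s := fun s a b => by rw [s1, s2]; rfl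
  let Q : V → V →+ ZMod 2 := fun v => ∑ i, (l i v * m i v) • fh (e i) (e' i)
  have hQ : ∀ v s, Q v s = ∑ i, l i v * m i v * fh (e i) (e' i) s := fun v s => by
    simp [Q, AddMonoidHom.finsetSum_apply]
  have hpol : ∀ s v w, Q (v + w) s = Q v s + Q w s + fh s w v := fun s v w => by
    change _ = _ + f s w v
    rw [he (f s) (add s) (s2 s) (alt s), hQ, hQ, hQ, ← Finset.sum_add_distrib,
      ← Finset.sum_add_distrib]
    exact Finset.sum_congr rfl fun i _ => by rw [hf, map_add, map_add]; ring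
  have hQ0 : ∀ s, Q 0 s = 0 := fun s => by simp [hQ]
  let N : ℤ := Fintype.card V
  let Gs : V → ℤ := fun s => ∑ v, chi (Q v s)
  have hsq : ∀ s, s ≠ 0 → Gs s * Gs s = N * (1 + chi (Q s s)) := fun s hs => by
    have h1 : Gs s * Gs s = ∑ v, ∑ w, chi (Q w s) * chi (fh s w v) := by
      rw [Finset.sum_mul]
      refine Finset.sum_congr rfl fun v _ => ?_
      rw [Finset.mul_sum, ← Equiv.sum_comp (Equiv.addLeft v)]
      refine Finset.sum_congr rfl fun w _ => ?_
      rw [Equiv.coe_addLeft, hpol, ← chi_add, ← chi_add]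
      simp only [c2]
    rw [h1, Finset.sum_comm]
    simp only [← Finset.mul_sum, sum_chi]
    rw [Finset.sum_eq_add 0 s hs.symm ?_ (by simp) (by simp), hQ0, chi_zero, if_pos, if_pos]
    · ring
    · ext v; exact (s1 _ _ _).trans ((hf s s v).trans ((hf _ _ _).symm.trans
        ((s2 _ _ _).trans ((s1 _ _ _).trans (alt v s)))))
    · ext v; exact (s2 _ _ _).trans (map_zero (fh s v))
    · intro w _ hw
      obtain ⟨v, hv⟩ := nd s w hs hw.1 hw.2
      rw [if_neg, mul_zero]
      intro h
      exact zero_ne_one ((DFunLike.congr_fun h v).symm.trans hv)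
  have hsum : N ∣ ∑ s ∈ Finset.univ.erase 0, Gs s := by
    have h1 : N ∣ ∑ s, Gs s := by
      rw [Finset.sum_comm]
      refine Finset.dvd_sum fun v _ => ?_
      rw [sum_chi]
      split_ifs <;> simp [N]
    have h2 : Gs 0 = N := by simp [Gs, chi_zero, N]
    rw [← Finset.add_sum_erase _ _ (Finset.mem_univ 0), h2] at h1
    exact (Int.dvd_add_right dvd_rfl).1 h1
  have hcub : ∑ s, Q s s = 0 := by
    simp only [hQ]
    rw [Finset.sum_comm]
    exact Finset.sum_eq_zero fun i _ => sum_three (by omega) _ _ _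
  obtain ⟨s0, hs0, hs1⟩ : ∃ s, s ≠ 0 ∧ Q s s = 0 := by
    by_contra hn
    push Not at hn
    rw [sum_ne (by omega) (fun s => Q s s) (hQ0 0) fun v hv => z_ne0.1 (hn v hv)] at hcub
    exact one_ne_zero hcub
  have hr := hsq s0 hs0
  rw [hs1, chi_zero] at hr
  have hε : ∀ s, ∃ ε : ℤ, s ≠ 0 → Gs s = ε * Gs s0 ∧ (ε : ZMod 2) = 1 + Q s s := fun s => by
    by_cases hs : s = 0
    · exact ⟨0, fun h => (h hs).elim⟩
    have h1 := hsq s hs
    rcases z01 (Q s s) with h | h
    · rw [h, chi_zero, ← hr, mul_self_eq_mul_self_iff] at h1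
      rcases h1 with h1 | h1
      · exact ⟨1, fun _ => ⟨by rw [h1, one_mul], by rw [h]; rfl⟩⟩
      · exact ⟨-1, fun _ => ⟨by rw [h1, neg_one_mul], by rw [h]; rfl⟩⟩
    · rw [h, show 1 + chi 1 = 0 from rfl, mul_zero, mul_self_eq_zero] at h1
      exact ⟨0, fun _ => ⟨by rw [h1, zero_mul], by rw [h]; rfl⟩⟩
  choose ε hε using hε
  rw [Finset.sum_congr rfl fun s hs => (hε s (Finset.mem_erase.1 hs).1).1, ← Finset.sum_mul] at hsum
  have hodd : ((∑ s ∈ Finset.univ.erase 0, ε s : ℤ) : ZMod 2) = 1 := by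
    rw [Int.cast_sum, Finset.sum_congr rfl fun s hs => (hε s (Finset.mem_erase.1 hs).1).2,
      Finset.sum_erase_eq_sub (Finset.mem_univ _), Finset.sum_add_distrib, hcub, hQ0]
    simp [card_cast (show 1 < Nat.card V by omega)]
  obtain ⟨k, hk⟩ := card_pow V
  have hN : N = 2 ^ k := by simp [N, ← Nat.card_eq_fintype_card, hk]
  have hc : IsCoprime N (∑ s ∈ Finset.univ.erase 0, ε s) := by
    rw [hN]
    refine IsCoprime.pow_left (Int.isCoprime_iff_gcd_eq_one.2 ?_)
    refine (Int.isCoprime_iff_gcd_eq_one.1 ((Prime.coprime_iff_not_dvd Int.prime_two).2 fun h => ?_))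
    rw [(ZMod.intCast_zmod_eq_zero_iff_dvd _ 2).2 h] at hodd
    exact zero_ne_one hodd
  obtain ⟨c, hc'⟩ := hc.dvd_of_dvd_mul_left hsum
  have hN16 : 16 ≤ N := by simp only [N, ← Nat.card_eq_fintype_card]; exact_mod_cast h16
  rw [hc'] at hr
  have h2 : N * (c * c) = 2 := by
    apply mul_left_cancel₀ (show N ≠ 0 by omega)
    linear_combination hr
  have h3 : 0 < c * c := by
    by_contra h
    have : c * c = 0 := le_antisymm (not_lt.1 h) (mul_self_nonneg c)
    rw [this] at h2
    omega
  nlinarith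

/-- no generalized pentagon of order two -/
theorem friend {α : Type*} (s : Finset α) (r : α → α → Prop) [DecidableRel r]
    (hc : s.card = 31) (irr : ∀ a, ¬ r a a) (symm : ∀ a ∈ s, ∀ b ∈ s, r a b ↔ r b a)
    (deg : ∀ a ∈ s, (s.filter (r a)).card = 6)
    (com : ∀ a ∈ s, ∀ b ∈ s, a ≠ b → (s.filter fun c => r a c ∧ r b c).card = 1) : False := by
  classical
  haveI : Fact (Nat.Prime 5) := ⟨by norm_num⟩
  let A : Matrix s s (ZMod 5) := fun a b => if r a b then 1 else 0
  let J : Matrix s s (ZMod 5) := fun _ _ => 1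
  have h1 : A * A = J := by
    ext a b
    have : (A * A) a b = ∑ c ∈ s, if r a c ∧ r b c then 1 else 0 := by
      rw [Matrix.mul_apply, ← Finset.sum_coe_sort s]
      refine Finset.sum_congr rfl fun c _ => ?_
      simp only [A, symm c c.2 b b.2]
      by_cases h1 : r a c <;> by_cases h2 : r b c <;> simp [h1, h2]
    rw [this, Finset.sum_boole]
    by_cases hab : a = b
    · subst hab
      simp only [and_self]
      rw [deg a a.2]; rfl
    · rw [com a a.2 b b.2 fun h => hab (Subtype.ext h)]; rfl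
  have h2 : A * J = J := by
    ext a b
    have : (A * J) a b = ∑ c ∈ s, if r a c then 1 else 0 := by
      rw [Matrix.mul_apply, ← Finset.sum_coe_sort s]
      exact Finset.sum_congr rfl fun c _ => mul_one _
    rw [this, Finset.sum_boole, deg a a.2]; rfl
  have h3 : A ^ 5 = J := by
    rw [show A ^ 5 = A * (A * (A * (A * A))) by simp only [pow_succ', pow_zero, mul_one], h1, h2, h2,
      h2]
  have h4 := ZMod.trace_pow_card A
  have h5 : A.trace = 0 := Finset.sum_eq_zero fun a _ => if_neg (irr a)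
  have h6 : J.trace = 1 := by
    simp only [Matrix.trace, Matrix.diag, J, Finset.sum_const, Finset.card_univ, Fintype.card_coe, hc]
    rfl
  rw [h3, h5, h6, zero_pow (by norm_num)] at h4
  exact one_ne_zero h4

end Cfsg.Agent.H29.CK
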