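import Cfsg.Agent.H29.CKLoc

/-! Antiflag-transitive groups over `F₂`: the subspaces `W(a)` and their linearity. -/

set_option autoImplicit false
set_option linter.unusedSectionVars false

namespace Cfsg.Agent.H29.CK

open MulAction

variable {G : Type*} [Group G] {V : Type*} [AddCommGroup V] [Ex2 V] [DistribMulAction G V]

/-- the geometry, without linearity -/
structure Geo0 (T : Subgroup G) (x y : V) (W : V → AddSubgroup V) : Prop extends Loc T x y where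
  zero : W 0 = ⊥
  self : ∀ a, a ∈ W a
  ymem : y ∈ W x
  symm : ∀ a b, b ≠ 0 → b ∈ W a → a ∈ W b
  eqv : ∀ (g : G) a b, b ∈ W a → g • b ∈ W (g • a)
  tr : ∀ a b, b ∈ W a → b ≠ 0 → b ≠ a → ∃ g : G, g • x = a ∧ g • y = b

/-- the geometry -/
structure Geo (T : Subgroup G) (x y : V) (W : V → AddSubgroup V) : Prop extends Geo0 T x y W where
  lin : ∀ a b, W (a + b) ≤ W a ⊔ W b

theorem Loc.exists_geo0 {T : Subgroup G} {x y : V} (h : Loc T x y) : ∃ W, Geo0 T x y W := by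
  let P : V → V → Prop := fun a b => b = 0 ∨ b = a ∨ ∃ g : G, g • x = a ∧ g • y = b
  have eqv : ∀ (g : G) a b, P a b → P (g • a) (g • b) := by
    rintro g a b (rfl | rfl | ⟨k, rfl, rfl⟩)
    · exact Or.inl (smul_zero g)
    · exact Or.inr (Or.inl rfl)
    · exact Or.inr (Or.inr ⟨g * k, mul_smul _ _ _, mul_smul _ _ _⟩)
  obtain ⟨t, ht, ht'⟩ := h.sw1
  obtain ⟨s, hs, hs'⟩ := h.sw2
  have hl : ∀ z ∈ L2 x y, P x z := by
    intro z hz
    rcases mem_L2.1 hz with rfl | rfl | rfl | rfl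
    · exact Or.inl rfl
    · exact Or.inr (Or.inl rfl)
    · exact Or.inr (Or.inr ⟨1, one_smul _ _, one_smul _ _⟩)
    · exact Or.inr (Or.inr ⟨t, h.fixx t ht, by rw [ht', add_comm]⟩)
  have hadd : ∀ z, P x z → ∀ u ∈ L2 x y, P x (z + u) := by
    intro z hz u hu
    by_cases hz' : z ∈ L2 x y
    · exact hl _ (add_mem hz' hu)
    · obtain ⟨g, hg, -, hg'⟩ := h.p1 z hz' u hu
      have := eqv g _ _ hz
      rwa [h.fixx g hg, hg'] at this
  have hadd' : ∀ (g : G) b, P (g • x) b → ∀ u ∈ L2 x y, P (g • x) (b + g • u) := by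
    intro g b hb u hu
    have h1 := eqv g⁻¹ _ _ hb
    rw [inv_smul_smul] at h1
    have := eqv g _ _ (hadd _ h1 u hu)
    rwa [smul_add, smul_inv_smul] at this
  refine ⟨fun a => mkSub {b | P a b} (Or.inl rfl) ?_, h, ?_, fun a => Or.inr (Or.inl rfl),
    hl y (l2_right _ _), ?_, eqv, ?_⟩
  · rintro b hb c (rfl | rfl | ⟨g, rfl, rfl⟩)
    · rwa [add_zero]
    · by_cases hc : c = 0
      · rwa [hc, add_zero, ← hc]
      · obtain ⟨g, rfl⟩ := h.trans c hc
        exact hadd' g b hb x (l2_left _ _)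
    · exact hadd' g b hb y (l2_right _ _)
  · refine eq_bot_iff.2 ?_
    rintro b (rfl | rfl | ⟨g, hg, -⟩)
    · exact zero_mem _
    · exact zero_mem _
    · exact (smul_ne h.x0 hg).elim
  · rintro a b hb (rfl | rfl | ⟨g, rfl, rfl⟩)
    · exact (hb rfl).elim
    · exact Or.inr (Or.inl rfl)
    · refine Or.inr (Or.inr ⟨g * t * s * t, ?_, ?_⟩)
      · simp only [mul_smul, h.fixx t ht, hs', smul_add, ht', c2]
      · simp only [mul_smul, h.fixx t ht, hs', hs, smul_add, ht', c2]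
  · rintro a b (rfl | rfl | hab) h1 h2
    · exact (h1 rfl).elim
    · exact (h2 rfl).elim
    · exact hab

namespace Geo0

variable {T : Subgroup G} {x y : V} {W : V → AddSubgroup V} (h : Geo0 T x y W)
include h

theorem eqv_iff (g : G) (a b : V) : g • b ∈ W (g • a) ↔ b ∈ W a :=
  ⟨fun h' => by simpa using h.eqv g⁻¹ _ _ h', h.eqv g a b⟩

theorem ne_zero {a b : V} (hb : b ∈ W a) (h0 : b ≠ 0) : a ≠ 0 := by
  rintro rfl
  rw [h.zero] at hb
  exact h0 hb

theorem p1' {a b z u : V} (hb : b ∈ W a) (h0 : b ≠ 0) (h1 : b ≠ a) (hz : z ∉ L2 a b)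
    (hu : u ∈ L2 a b) : ∃ g : G, g • a = a ∧ g • b = b ∧ g • z = z + u := by
  obtain ⟨g, rfl, rfl⟩ := h.tr a b hb h0 h1
  have key : ∀ v, g • v ∈ L2 (g • x) (g • y) ↔ v ∈ L2 x y := fun v => by
    simp only [mem_L2, ← smul_add, smul_left_cancel_iff, smul_eq_zero_iff_eq]
  obtain ⟨t, ht, h2, h3⟩ := h.p1 (g⁻¹ • z) (by rwa [← key, smul_inv_smul]) (g⁻¹ • u)
    (by rwa [← key, smul_inv_smul])
  refine ⟨g * t * g⁻¹, ?_, ?_, ?_⟩
  · simp only [mul_smul, inv_smul_smul, h.fixx t ht]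
  · simp only [mul_smul, inv_smul_smul, h2]
  · simp only [mul_smul, h3, smul_add, smul_inv_smul]

theorem exists_col {a : V} (ha : a ≠ 0) : ∃ b ∈ W a, b ≠ 0 ∧ b ≠ a := by
  obtain ⟨g, rfl⟩ := h.trans a ha
  exact ⟨g • y, h.eqv g _ _ h.ymem, smul_ne h.y0, fun h' => h.yx (smul_inj h')⟩

theorem cos {a z w : V} (hz : z ∉ W a) (hw : w ∈ W a) : ∃ g : G, g • a = a ∧ g • z = z + w := by
  by_cases h0 : w = 0
  · exact ⟨1, one_smul _ _, by rw [h0, one_smul, add_zero]⟩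
  by_cases h1 : w = a
  · obtain ⟨b, hb, hb0, hb1⟩ := h.exists_col (h1 ▸ h0)
    obtain ⟨g, h2, -, h3⟩ := h.p1' hb hb0 hb1 (z := z) (fun h' => hz (L2_le (h.self a) hb h'))
      (u := w) (h1 ▸ l2_left _ _)
    exact ⟨g, h2, h3⟩
  · obtain ⟨g, h2, -, h3⟩ := h.p1' hw h0 h1 (z := z) (fun h' => hz (L2_le (h.self a) hw h'))
      (l2_right _ _)
    exact ⟨g, h2, h3⟩

theorem tr2 {a b a' b' : V} (hb : b ∈ W a) (h0 : b ≠ 0) (h1 : b ≠ a) (hb' : b' ∈ W a')
    (h0' : b' ≠ 0) (h1' : b' ≠ a') : ∃ g : G, g • a = a' ∧ g • b = b' := by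
  obtain ⟨g, rfl, rfl⟩ := h.tr a b hb h0 h1
  obtain ⟨g', rfl, rfl⟩ := h.tr a' b' hb' h0' h1'
  exact ⟨g' * g⁻¹, by simp [mul_smul], by simp [mul_smul]⟩

theorem trans2 {a b : V} (ha : a ≠ 0) (hb : b ≠ 0) : ∃ g : G, g • a = b := by
  obtain ⟨g, rfl⟩ := h.trans a ha
  obtain ⟨g', rfl⟩ := h.trans b hb
  exact ⟨g' * g⁻¹, by simp [mul_smul]⟩

theorem four_le [Finite V] {a : V} (ha : a ≠ 0) : 4 ≤ Nat.card (W a) := by
  obtain ⟨b, hb, h0, h1⟩ := h.exists_col ha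
  rw [← card_L2 ha h0 h1]
  exact AddSubgroup.card_le_of_le (L2_le (h.self a) hb)

theorem btr [Finite V] {a a' : V} {φ φ' : V →+ ZMod 2} (h1 : φ a = 0) (h2 : φ' a' = 0)
    (h3 : ∃ w ∈ W a, φ w = 1) (h4 : ∃ w ∈ W a', φ' w = 1) :
    ∃ g : G, g • a = a' ∧ ∀ v, φ' (g • v) = φ v := by
  have key : ∀ φ' : V →+ ZMod 2, φ' a = 0 → (∃ w ∈ W a, φ' w = 1) →
      ∃ g : G, g • a = a ∧ ∀ v, φ' (g • v) = φ v := by
    rintro φ' h2 ⟨w', hw', h4⟩
    obtain ⟨w, hw, h3⟩ := h3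
    obtain ⟨u, hu, hu1, hu2⟩ : ∃ u ∈ W a, φ u = 1 ∧ φ' u = 1 := by
      rcases z01 (φ' w) with h5 | h5
      · rcases z01 (φ w') with h6 | h6
        · exact ⟨w + w', add_mem hw hw', by simp [h3, h6], by simp [h4, h5]⟩
        · exact ⟨w', hw', h6, h4⟩
      · exact ⟨w, hw, h3, h5⟩
    refine fourier' (stabilizer G a) u hu1 hu2 fun z hz => ?_
    by_cases hz' : z ∈ W a
    · refine h.tr2 hz' (by rintro rfl; simp at hz) (by rintro rfl; simp [h1, h2] at hz)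
        (add_mem hz' hu) (fun h' => hz ?_) (fun h' => hz ?_)
      · rw [add_eq_zero.1 h', hu1, hu2]
      · rw [add_comm, ← eq_comm, eq_add_iff] at h'
        rw [← h']
        simp [hu1, hu2, h1, h2]
    · exact h.cos hz' hu
  obtain ⟨w, hw, h3⟩ := h3
  obtain ⟨w', hw', h4⟩ := h4
  obtain ⟨k, rfl⟩ := h.trans2 (h.ne_zero hw (by rintro rfl; simp at h3))
    (h.ne_zero hw' (by rintro rfl; simp at h4))
  obtain ⟨g, hg, hg'⟩ := key (φ'.comp (hom k)) h2 ⟨k⁻¹ • w', by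
    rw [← h.eqv_iff k, smul_inv_smul]; exact hw', by
    change φ' (k • k⁻¹ • w') = 1
    rw [smul_inv_smul, h4]⟩
  exact ⟨k * g, by rw [mul_smul, hg], fun v => by rw [mul_smul]; exact hg' v⟩

theorem card_perp_le [Finite V] {a : V} (ha : a ≠ 0) : Nat.card (perp (W a)) * 4 ≤ Nat.card V := by
  rw [← card_perp (W a)]
  exact Nat.mul_le_mul_left _ (h.four_le ha)

theorem exists_both [Finite V] {T' : Subgroup G} {x' y' : Du V} {W' : Du V → AddSubgroup (Du V)}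
    (h' : Geo0 T' x' y' W') : ∃ (a : V) (φ : Du V), φ.ap a = 0 ∧ (∃ w ∈ W a, φ.ap w = 1) ∧
      ∃ θ ∈ W' φ, θ.ap a = 1 := by
  classical
  by_contra hn
  push Not at hn
  letI := Fintype.ofFinite V
  letI := Fintype.ofFinite (Du V)
  let r : V → Du V → Prop := fun a φ => ∀ θ ∈ W' φ, θ.ap a = 0
  obtain ⟨q, hq⟩ : ∃ q, Nat.card V = 4 * q := by
    rw [← card_perp (L2 x y), card_L2 h.x0 h.y0 h.yx]; exact ⟨_, mul_comm _ _⟩
  have h1 := Finset.card_mul_le_card_mul (s := (Finset.univ : Finset V).erase 0)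
    (t := (Finset.univ : Finset (Du V)).erase 0) r (m := q) (n := q - 1) (by
      intro a ha
      have ha : a ≠ 0 := (Finset.mem_erase.1 ha).1
      have h2 := card_perp (L1 a)
      have h3 := h.card_perp_le ha
      rw [card_L1 ha] at h2
      have h4 : ((perp (L1 a) : Set (V →+ ZMod 2))) ⊆ (perp (W a) : Set (V →+ ZMod 2)) ∪
          ((((Finset.univ : Finset (Du V)).erase 0).bipartiteAbove r a : Finset (Du V)) :
            Set (Du V)) := by
        intro φ hφ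
        by_cases h5 : φ ∈ perp (W a)
        · exact Or.inl h5
        · refine Or.inr ((Finset.mem_bipartiteAbove r).2 ⟨Finset.mem_erase.2 ⟨?_, Finset.mem_univ _⟩,
            fun θ hθ => z_ne1.1 (hn a φ (hφ a (l1_self a)) ?_ θ hθ)⟩)
          · rintro rfl; exact h5 (zero_mem _)
          · simpa only [mem_perp, not_forall, ← Ne.eq_def, z_ne0, exists_prop, Du.ap] using h5
      have h5 : Nat.card (perp (L1 a)) ≤ Nat.card (perp (W a)) +
          (((Finset.univ : Finset (Du V)).erase 0).bipartiteAbove r a).card :=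
        ((Set.ncard_le_ncard h4).trans (Set.ncard_union_le _ _)).trans_eq
          (congrArg _ (Set.ncard_coe_finset _))
      omega) (by
      intro φ hφ
      have hφ : φ ≠ 0 := (Finset.mem_erase.1 hφ).1
      have h3 := h'.card_perp_le hφ
      rw [Du.card] at h3
      have h4 := Set.ncard_le_ncard_of_injOn (s := insert 0
        ((((Finset.univ : Finset V).erase 0).bipartiteBelow r φ : Finset V) : Set V))
        (t := (perp (W' φ) : Set (Du V →+ ZMod 2))) Du.ev (by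
          rintro a (rfl | ha)
          · exact fun θ _ => map_zero θ.ap
          · exact ((Finset.mem_bipartiteBelow r).1 ha).2) (by
          intro a _ b _ hab
          by_contra hne
          obtain ⟨ψ, hψ⟩ := sep0 (fun h => hne (add_eq_zero.1 h))
          have : ψ a = ψ b := DFunLike.congr_fun hab (Du.mk ψ)
          rw [map_add, this, aa] at hψ
          exact zero_ne_one hψ)
      rw [Set.ncard_insert_of_notMem (by simp), Set.ncard_coe_finset] at h4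
      change _ ≤ Nat.card (perp (W' φ)) at h4
      omega)
  rw [Finset.card_erase_of_mem (Finset.mem_univ _), Finset.card_erase_of_mem (Finset.mem_univ _),
    Finset.card_univ, Finset.card_univ, ← Nat.card_eq_fintype_card, ← Nat.card_eq_fintype_card,
    Du.card, hq] at h1
  have h0 : 0 < Nat.card V := Nat.card_pos
  have := Nat.le_of_mul_le_mul_left h1 (by omega)
  omega

theorem geo [Finite V] {T' : Subgroup G} {x' y' : Du V} {W' : Du V → AddSubgroup (Du V)}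
    (h' : Geo0 T' x' y' W') : Geo T x y W := by
  obtain ⟨a0, φ0, h0, h1, h2⟩ := h.exists_both h'
  have e1 : ∀ (a : V) (φ : Du V), φ.ap a = 0 → (∃ w ∈ W a, φ.ap w = 1) →
      ∃ θ ∈ W' φ, θ.ap a = 1 := by
    intro a φ h3 h4
    obtain ⟨g, rfl, hg⟩ := h.btr h0 h3 h1 h4
    obtain ⟨θ, hθ, hθ1⟩ := h2
    refine ⟨g • θ, Du.smul_eq_iff.2 hg ▸ h'.eqv g _ _ hθ, ?_⟩
    rw [Du.ap_smul, inv_smul_smul, hθ1]
  have e2 : ∀ (a : V) (φ : Du V), φ.ap a = 0 → (∃ θ ∈ W' φ, θ.ap a = 1) →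
      ∃ w ∈ W a, φ.ap w = 1 := by
    intro a φ h3 h4
    obtain ⟨g, rfl, hg⟩ := h'.btr (φ := Du.ev a0) (φ' := Du.ev a) h0 h3 h2 h4
    have : g • a0 = a := by
      by_contra hne
      obtain ⟨ψ, hψ⟩ := sep0 (fun h => hne (add_eq_zero.1 h))
      have : ψ (g • g⁻¹ • a) = ψ (g • a0) := by
        have := hg (g⁻¹ • Du.mk ψ)
        rwa [smul_inv_smul, Du.ev_apply, Du.ev_apply, Du.ap_smul, inv_inv,
          ← smul_inv_smul g a] at this
      rw [map_add, ← this, smul_inv_smul, aa] at hψ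
      exact zero_ne_one hψ
    obtain ⟨w, hw, hw1⟩ := h1
    exact ⟨g • w, this ▸ h.eqv g _ _ hw, by rw [Du.ap_smul, inv_smul_smul, hw1]⟩
  refine ⟨h, fun a b z hz => ?_⟩
  by_contra hn
  obtain ⟨φ, hφ, hφ1⟩ := sep hn
  have ha : φ a = 0 := hφ a (AddSubgroup.mem_sup_left (h.self a))
  have hb : φ b = 0 := hφ b (AddSubgroup.mem_sup_right (h.self b))
  obtain ⟨θ, hθ, hθ1⟩ := e1 (a + b) (Du.mk φ) (by rw [map_add, Du.ap_mk, ha, hb, add_zero])
    ⟨z, hz, hφ1⟩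
  rcases z01 (θ.ap a) with h3 | h3
  · rw [map_add, h3, zero_add] at hθ1
    obtain ⟨w, hw, hw1⟩ := e2 b (Du.mk φ) hb ⟨θ, hθ, hθ1⟩
    exact zero_ne_one ((hφ w (AddSubgroup.mem_sup_right hw)).symm.trans hw1)
  · obtain ⟨w, hw, hw1⟩ := e2 a (Du.mk φ) ha ⟨θ, hθ, h3⟩
    exact zero_ne_one ((hφ w (AddSubgroup.mem_sup_left hw)).symm.trans hw1)

end Geo0

theorem AF.dual [Finite V] (h : AF G V) : AF G (Du V) := by
  intro φ φ' θ θ' h1 h2
  obtain ⟨v, rfl⟩ := Du.ev_surj θ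
  obtain ⟨v', rfl⟩ := Du.ev_surj θ'
  obtain ⟨g, rfl, hg⟩ := h v v' φ.ap φ'.ap h1 h2
  exact ⟨g, Du.smul_eq_iff.2 hg, fun η => by
    rw [Du.ev_apply, Du.ev_apply, Du.ap_smul, inv_smul_smul]⟩

theorem exists_geo [Finite G] [Finite V] (h : AF G V) (h4 : 4 ≤ Nat.card V) (T : Sylow 2 G) :
    ∃ (x y : V) (W : V → AddSubgroup V), Geo (T : Subgroup G) x y W := by
  obtain ⟨x, y, h1⟩ := exists_loc h h4 T
  obtain ⟨W, h1⟩ := h1.exists_geo0
  obtain ⟨x', y', h2⟩ := exists_loc h.dual (by rwa [Du.card]) T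
  obtain ⟨W', h2⟩ := h2.exists_geo0
  exact ⟨x, y, W, h1.geo h2⟩

end Cfsg.Agent.H29.CK
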