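import Cfsg.Agent.H29.CKStep

/-! Antiflag-transitive groups over `F₂`: the hexagon case and the four cases. -/

set_option autoImplicit false
set_option linter.unusedSectionVars false

namespace Cfsg.Agent.H29.CK

open MulAction

variable {G : Type*} [Group G] {V : Type*} [AddCommGroup V] [Ex2 V] [DistribMulAction G V]
  [Finite V]

theorem Idx2.card_le_inf {A A' B : AddSubgroup V} (h : Idx2 A B) (h' : Idx2 A' B) :
    Nat.card B ≤ 4 * Nat.card (A ⊓ A' :) := by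
  have h1 := h.card
  by_cases h2 : A ≤ A'
  · rw [inf_eq_left.2 h2]; omega
  · obtain ⟨v, hv, hv'⟩ := SetLike.not_le_iff_exists.1 h2
    have := (Idx2.mk (A := A ⊓ A') (B := A) inf_le_left ⟨v, hv, fun h => hv' h.2⟩
      fun a ha b hb ha' hb' => ⟨add_mem ha hb, h'.add a (h.le ha) b (h.le hb)
        (fun h => ha' ⟨ha, h⟩) fun h => hb' ⟨hb, h⟩⟩).card
    omega

/-- points at distance at most two -/
def W2 (W : V → AddSubgroup V) (a : V) : AddSubgroup V := sInf {U | ∀ b ∈ W a, W b ≤ U}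

theorem le_W2 {W : V → AddSubgroup V} {a b : V} (hb : b ∈ W a) : W b ≤ W2 W a :=
  le_sInf fun _ hU => hU b hb

theorem W2_le {W : V → AddSubgroup V} {a : V} {U : AddSubgroup V} (h : ∀ b ∈ W a, W b ≤ U) :
    W2 W a ≤ U := sInf_le h

/-- the hexagon case -/
structure Hex (T : Subgroup G) (x y : V) (W : V → AddSubgroup V) : Prop extends Geo T x y W where
  h1 : ¬ W y ≤ W x
  inj : ∀ a b b', b ∈ W a → b ≠ 0 → b ≠ a → b' ∈ W a → W a ⊔ W b = W a ⊔ W b' → b + b' ∈ L1 a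

namespace Hex

variable {T : Subgroup G} {x y : V} {W : V → AddSubgroup V} (h : Hex T x y W)
include h

theorem isup {a b : V} (hb : b ∈ W a) (h0 : b ≠ 0) (h2 : b ≠ a) : Idx2 (W a) (W a ⊔ W b) :=
  h.idx_sup h.h1 hb h0 h2

theorem sup_le_W2 {a b : V} (hb : b ∈ W a) : W a ⊔ W b ≤ W2 W a :=
  sup_le (le_W2 (h.self a)) (le_W2 hb)

theorem mem_W2 {a z : V} (hz : z ∈ W2 W a) : ∃ b ∈ W a, z ∈ W a ⊔ W b := by
  refine W2_le (U := mkSub {z | ∃ b ∈ W a, z ∈ W a ⊔ W b} ⟨a, h.self a, zero_mem _⟩ ?_)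
    (fun b hb z hz => ⟨b, hb, AddSubgroup.mem_sup_right hz⟩) hz
  rintro p ⟨b, hb, hp⟩ q ⟨c, hc, hq⟩
  by_cases h1 : p ∈ W a
  · exact ⟨c, hc, add_mem (AddSubgroup.mem_sup_left h1) hq⟩
  by_cases h2 : q ∈ W a
  · exact ⟨b, hb, add_mem hp (AddSubgroup.mem_sup_left h2)⟩
  by_cases h3 : W a ⊔ W b = W a ⊔ W c
  · exact ⟨c, hc, add_mem (h3 ▸ hp) hq⟩
  · exact ⟨b + c, add_mem hb hc, (h.add_mem_sup h.h1 hb hc hp hq h1 h2 h3).1⟩

theorem W2_eqv (g : G) (a v : V) : g • v ∈ W2 W (g • a) ↔ v ∈ W2 W a := by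
  have key : ∀ (g : G) a v, v ∈ W2 W a → g • v ∈ W2 W (g • a) := fun g a v hv =>
    W2_le (U := (W2 W (g • a)).comap (hom g))
      (fun u hu w hw => le_W2 (W := W) (h.eqv g _ _ hu) (h.eqv g _ _ hw)) hv
  exact ⟨fun h' => by simpa using key g⁻¹ _ _ h', key g a v⟩

theorem W2_self (a : V) : a ∈ W2 W a := le_W2 (h.self a) (h.self a)

theorem W2_mid {a z : V} (hz : z ∈ W2 W a) (hz' : z ∉ W a) : ∃ c ∈ W a, c ≠ 0 ∧ c ∈ W z := by
  obtain ⟨b, hb, hz⟩ := h.mem_W2 hz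
  exact h.exists_mid (h.col_of_mem hz hz').1 hb hz hz'

theorem W2_symm (a z : V) (z0 : z ≠ 0) (hz : z ∈ W2 W a) : a ∈ W2 W z := by
  by_cases hz' : z ∈ W a
  · exact le_W2 (h.self z) (h.symm _ _ z0 hz')
  · obtain ⟨c, hc, c0, hcz⟩ := h.W2_mid hz hz'
    exact le_W2 hcz (h.symm _ _ c0 hc)

theorem W2_lin (a b : V) : W2 W (a + b) ≤ W2 W a ⊔ W2 W b := W2_le fun c hc => by
  obtain ⟨u, hu, v, hv, rfl⟩ := AddSubgroup.mem_sup.1 (h.lin a b hc)
  exact (h.lin u v).trans (sup_le_sup (le_W2 hu) (le_W2 hv))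

theorem inf_small {a z c c' : V} (hz : z ∉ W a) (h1 : c ∈ W a) (h2 : c ∈ W z) (c0 : c ≠ 0)
    (h3 : c' ∈ W a) (h4 : c' ∈ W z) : c' ∈ L1 c := by
  by_cases c0' : c' = 0
  · exact c0' ▸ zero_mem _
  have ha : a ∉ W z := fun h' => hz (h.symm _ _ (h.ne_zero h1 c0) h')
  have ca : c ≠ a := by rintro rfl; exact ha h2
  have := h.inj a c c' h1 c0 ca h3 ((h.isup h1 c0 ca).eq_of_mem
    (h.isup h3 c0' (by rintro rfl; exact ha h4)) (AddSubgroup.mem_sup_right (h.symm _ _ c0 h2))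
    (AddSubgroup.mem_sup_right (h.symm _ _ c0' h4)) hz)
  rcases mem_L1.1 this with h5 | h5
  · exact mem_L1.2 (Or.inr (add_eq_zero.1 h5).symm)
  · exact (ha (h5 ▸ add_mem h2 h4)).elim

theorem card8 {a : V} (ha : a ≠ 0) : Nat.card (W a) = 8 := by
  rw [h.card_eq ha h.x0]
  have hxy := h.symm _ _ h.y0 h.ymem
  have i1 := h.idx_inf h.h1 h.ymem h.y0 h.yx
  obtain ⟨z, hz, hz'⟩ := i1.ex
  have hzy : z ∉ W y := fun h' => hz' ⟨hz, h'⟩
  have z0 : z ≠ 0 := by rintro rfl; exact hzy (zero_mem _)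
  have h1 := i1.card_le_inf (h.idx_inf h.h1 hz z0 (by rintro rfl; exact hzy hxy))
  have h2 := AddSubgroup.card_le_of_le (show (W x ⊓ W y) ⊓ (W x ⊓ W z) ≤ L1 x from
    fun v hv => h.inf_small hzy hxy (h.symm _ _ z0 hz) h.x0 hv.1.2 hv.2.2)
  have h3 := AddSubgroup.card_le_of_le (show L2 x y ≤ W x ⊓ W y from
    L2_le ⟨h.self x, hxy⟩ ⟨h.ymem, h.self y⟩)
  have := card_L1_le x
  have := card_L2 h.x0 h.y0 h.yx
  have := i1.card
  omega

theorem inf_eq {a b : V} (hb : b ∈ W a) (h0 : b ≠ 0) (h2 : b ≠ a) : W a ⊓ W b = L2 a b := by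
  have a0 := h.ne_zero hb h0
  refine (eq_of_le_card (L2_le (A := W a ⊓ W b) ⟨h.self a, h.symm _ _ h0 hb⟩ ⟨hb, h.self b⟩)
    ?_).symm
  have := (h.idx_inf h.h1 hb h0 h2).card
  rw [card_L2 a0 h0 h2, h.card8 a0] at *
  omega

theorem idx_L2 {a b : V} (hb : b ∈ W a) (h0 : b ≠ 0) (h2 : b ≠ a) : Idx2 (L2 a b) (W a) :=
  h.inf_eq hb h0 h2 ▸ h.idx_inf h.h1 hb h0 h2

theorem exists_out {a b c : V} (hb : b ∈ W a) (h0 : b ≠ 0) (h2 : b ≠ a) (hc : c ∈ W a)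
    (hc' : c ∉ L2 a b) : ∃ d ∈ W c, d ∉ W a ⊔ W b := by
  have c0 : c ≠ 0 := by rintro rfl; exact hc' (zero_mem _)
  have ca : c ≠ a := by rintro rfl; exact hc' (l2_left _ _)
  obtain ⟨d, hd, hd'⟩ := (h.idx_inf' h.h1 hc c0 ca).ex
  refine ⟨d, hd, fun h' => hc' (Or.inr ?_)⟩
  rw [add_comm]
  exact h.inj a b c hb h0 h2 hc ((h.isup hb h0 h2).eq_of_mem (h.isup hc c0 ca) h'
    (AddSubgroup.mem_sup_right hd) fun h' => hd' ⟨h', hd⟩)

theorem idx_W2 {a b : V} (hb : b ∈ W a) (h0 : b ≠ 0) (h2 : b ≠ a) : Idx2 (W a ⊔ W b) (W2 W a) := by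
  have i1 := h.idx_L2 hb h0 h2
  obtain ⟨c, hc, hc'⟩ := i1.ex
  obtain ⟨d, hd, hd'⟩ := h.exists_out hb h0 h2 hc hc'
  have h3 : ∀ u ∈ L2 a b, W u ≤ W a ⊔ W b := fun u hu => by
    rcases mem_L2.1 hu with rfl | rfl | rfl | rfl
    · rw [h.zero]; exact bot_le
    · exact le_sup_left
    · exact le_sup_right
    · exact h.lin _ _
  have : W2 W a = adj (W a ⊔ W b) d := by
    refine le_antisymm (W2_le fun u hu => ?_) (adj_le (h.sup_le_W2 hb) (le_W2 hc hd))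
    rcases (i1.eq_adj hc hc').le hu with h4 | h4
    · exact (h3 u h4).trans (le_adj _ _)
    · have h5 := h.lin (u + c) c
      rw [show u + c + c = u by simp only [c2]] at h5
      refine h5.trans (sup_le ((h3 _ h4).trans (le_adj _ _)) (le_sup_right.trans
        (((h.isup hc (by rintro rfl; exact hc' (zero_mem _))
          (by rintro rfl; exact hc' (l2_left _ _))).eq_adj (AddSubgroup.mem_sup_right hd)
          fun h' => hd' (AddSubgroup.mem_sup_left h')).le.trans ?_)))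
      exact adj_le (le_sup_left.trans (le_adj _ _)) (self_mem_adj _ _)
  rw [this]
  exact idx2_adj hd'

theorem card32 {a : V} (ha : a ≠ 0) : Nat.card (W2 W a) = 32 := by
  obtain ⟨b, hb, h0, h2⟩ := h.exists_col ha
  rw [(h.idx_W2 hb h0 h2).card, (h.isup hb h0 h2).card, h.card8 ha]

theorem W2_ne {a b : V} (hb : b ∈ W a) (h0 : b ≠ 0) (h2 : b ≠ a) : ¬ W2 W b ≤ W2 W a := by
  classical
  letI := Fintype.ofFinite V
  intro hle
  have h3 : ∀ c d, d ∈ W c → d ≠ 0 → W2 W d = W2 W c := fun c d hd d0 => by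
    by_cases dc : d = c
    · rw [dc]
    obtain ⟨g, rfl, rfl⟩ := h.tr2 hb h0 h2 hd d0 dc
    refine eq_of_le_card (fun v hv => ?_) (by rw [h.card32 d0, h.card32 (h.ne_zero hd d0)])
    rw [← smul_inv_smul g v, h.W2_eqv] at hv ⊢
    exact hle hv
  have h4 : ∀ c ∈ W2 W x, c ≠ 0 → W2 W c = W2 W x := fun c hc c0 => by
    by_cases hc' : c ∈ W x
    · exact h3 x c hc' c0
    · obtain ⟨d, hd, d0, hdc⟩ := h.W2_mid hc hc'
      rw [← h3 c d hdc d0, h3 x d hd d0]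
  let s : Finset V := Finset.univ.filter fun c => c ∈ W2 W x ∧ c ≠ 0
  have hs : ∀ c, c ∈ s ↔ c ∈ W2 W x ∧ c ≠ 0 := fun c => by simp [s]
  have hW : ∀ c ∈ s, W c ≤ W2 W x := fun c hc =>
    h4 c ((hs c).1 hc).1 ((hs c).1 hc).2 ▸ le_W2 (h.self c)
  refine friend s (fun c d => d ∈ W c ∧ d ≠ c) ?_ (by simp) (fun c hc d hd =>
    ⟨fun h' => ⟨h.symm _ _ ((hs d).1 hd).2 h'.1, h'.2.symm⟩,
      fun h' => ⟨h.symm _ _ ((hs c).1 hc).2 h'.1, h'.2.symm⟩⟩) (fun c hc => ?_)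
    fun c hc d hd hcd => ?_
  · have := card_erase hs
    rw [h.card32 h.x0] at this
    omega
  · have c0 := ((hs c).1 hc).2
    have := card_erase (s := insert c (s.filter fun d => d ∈ W c ∧ d ≠ c)) (A := W c) fun d => by
      rw [Finset.mem_insert, Finset.mem_filter, hs]
      refine ⟨?_, fun h' => ?_⟩
      · rintro (rfl | h')
        · exact ⟨h.self d, c0⟩
        · exact ⟨h'.2.1, h'.1.2⟩
      · by_cases dc : d = c
        · exact Or.inl dc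
        · exact Or.inr ⟨⟨hW c hc h'.1, h'.2⟩, h'.1, dc⟩
    rw [Finset.card_insert_of_notMem (by simp), h.card8 c0] at this
    omega
  · have c0 := ((hs c).1 hc).2
    have d0 := ((hs d).1 hd).2
    rw [Finset.card_eq_one]
    by_cases h5 : d ∈ W c
    · refine ⟨c + d, Finset.eq_singleton_iff_unique_mem.2 ⟨?_, fun e he => ?_⟩⟩
      · rw [Finset.mem_filter, hs]
        exact ⟨⟨add_mem ((hs c).1 hc).1 ((hs d).1 hd).1, fun h' => hcd (add_eq_zero.1 h')⟩,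
          ⟨add_mem (h.self c) h5, by simpa using d0⟩,
          ⟨add_mem (h.symm _ _ d0 h5) (h.self d), by simpa using c0⟩⟩
      · rw [Finset.mem_filter, hs] at he
        have := mem_L2.1 ((h.inf_eq h5 d0 hcd.symm).le ⟨he.2.1.1, he.2.2.1⟩)
        tauto
    · obtain ⟨e, he, e0, hed⟩ := h.W2_mid (h4 c ((hs c).1 hc).1 c0 ▸ ((hs d).1 hd).1) h5
      refine ⟨e, Finset.eq_singleton_iff_unique_mem.2 ⟨?_, fun f hf => ?_⟩⟩
      · rw [Finset.mem_filter, hs]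
        exact ⟨⟨hW c hc he, e0⟩, ⟨he, by rintro rfl; exact h5 (h.symm _ _ c0 hed)⟩,
          ⟨hed, by rintro rfl; exact h5 he⟩⟩
      · rw [Finset.mem_filter, hs] at hf
        exact (mem_L1.1 (h.inf_small h5 he hed e0 hf.2.1.1 hf.2.2.1)).resolve_left hf.1.2

theorem rigid1 {g : G} {a b : V} (hb : b ∈ W a) (h0 : b ≠ 0) (h2 : b ≠ a)
    (hg : ∀ v ∈ W a ⊔ W b, g • v = v) {d : V} (hd : d ∈ W2 W a) : g • d + d ∈ L1 a := by
  by_cases hd' : d ∈ W a ⊔ W b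
  · rw [hg d hd', aa]; exact zero_mem _
  have key : ∀ c ∈ W a, c ∉ L2 a b → g • d + d ∈ W c := fun c hc hc' => by
    obtain ⟨e, he, he'⟩ := h.exists_out hb h0 h2 hc hc'
    have h3 := hg _ ((h.idx_W2 hb h0 h2).add d hd e (le_W2 hc he) hd' he')
    have h4 := h.eqv g _ _ he
    rw [hg c (AddSubgroup.mem_sup_left hc)] at h4
    refine mem_of_eq (add_mem h4 he) ?_
    rw [← add_eq_zero, smul_add] at h3
    rw [← add_eq_zero, ← h3]
    simp only [c2]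
  obtain ⟨c, hc, hc'⟩ := (h.idx_L2 hb h0 h2).ex
  have hc2 : c + b ∉ L2 a b := fun h' => hc' (mem_of_add' (l2_right _ _) h')
  have a0 := h.ne_zero hb h0
  have c0 : c ≠ 0 := by rintro rfl; exact hc' (zero_mem _)
  refine h.inf_small (a := c) (z := c + b) (fun h' => hc' ?_) (h.symm _ _ c0 hc)
    (h.symm _ _ (fun h' => hc2 (h' ▸ zero_mem _)) (add_mem hc hb)) a0 (key c hc hc')
    (key _ (add_mem hc hb) hc2)
  exact (h.inf_eq hb h0 h2).le ⟨hc, h.symm _ _ h0 (mem_of_add (h.self c) h')⟩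

theorem rigid2 {g : G} {a b : V} (hb : b ∈ W a) (hg : ∀ v ∈ W2 W a, g • v = v) :
    ∀ v ∈ W2 W b, g • v = v := by
  by_cases h0 : b = 0
  · intro v hv
    have := W2_le (U := ⊥) (fun c hc => by
      rw [h0, h.zero, AddSubgroup.mem_bot] at hc
      rw [hc, h.zero]) hv
    rw [AddSubgroup.mem_bot.1 this, smul_zero]
  by_cases h2 : b = a
  · rwa [h2]
  have a0 := h.ne_zero hb h0
  have key : ∀ c ∈ W a, c ≠ 0 → c ≠ a → ∀ d ∈ W2 W c, g • d + d ∈ L1 c := fun c hc c0 ca d hd =>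
    h.rigid1 (h.symm _ _ c0 hc) a0 ca.symm (fun v hv => hg v (h.sup_le_W2 hc (by rwa [sup_comm]))) hd
  have hab := add_mem (h.self a) hb
  have n0 : a + b ≠ 0 := fun h' => h2 (add_eq_zero.1 h').symm
  have na : a + b ≠ a := by simpa using h0
  obtain ⟨d, hd, hd'⟩ := SetLike.not_le_iff_exists.1 (h.W2_ne hab n0 na)
  obtain ⟨u, hu, e, he, rfl⟩ := AddSubgroup.mem_sup.1 (h.W2_lin a b hd)
  have h3 := key _ hab n0 na _ hd
  rw [smul_add, hg u hu, show u + g • e + (u + e) = g • e + e by simp only [c2]] at h3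
  have h4 : g • e = e := by
    rcases mem_L1.1 (key b hb h0 h2 e he) with h5 | h5
    · exact add_eq_zero.1 h5
    · rw [h5, mem_L1] at h3
      exact (h3.elim h0 fun h' => a0 (by simpa using h')).elim
  have hba := h.symm _ _ h0 hb
  have h5 : W b ⊔ W a ≤ W2 W a := sup_comm (W a) _ ▸ h.sup_le_W2 hb
  intro v hv
  rcases ((h.idx_W2 hba a0 (Ne.symm h2)).eq_adj he fun h' => hd' (add_mem hu (h5 h'))).le hv
    with h6 | h6
  · exact hg v (h5 h6)
  · have := hg _ (h5 h6)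
    rwa [smul_add, h4, add_left_inj] at this

theorem rigid3 {g : G} {a : V} (hg : ∀ v ∈ W2 W a, g • v = v) : ∀ v ∈ Cl W a, g • v = v := by
  intro v hv
  refine cl_le (U := mkSub {u | ∀ v ∈ W2 W u, g • v = v} (h.rigid2 (zero_mem _) hg) ?_) hg
    (fun u hu b hb => h.rigid2 hb hu) hv v (h.W2_self v)
  intro b hb c hc v hv
  obtain ⟨u, hu, e, he, rfl⟩ := AddSubgroup.mem_sup.1 (h.W2_lin b c hv)
  rw [smul_add, hb u hu, hc e he]

theorem exists_R [Finite G] : ∃ R : Subgroup G, R.relIndex T ≤ 64 ∧ ∀ r ∈ R, ∀ v ∈ Cl W x, r • v = v := by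
  have i1 := h.idx_L2 h.ymem h.y0 h.yx
  have i2 := h.isup h.ymem h.y0 h.yx
  have i3 := h.idx_W2 h.ymem h.y0 h.yx
  obtain ⟨b, hb, hb'⟩ := i1.ex
  obtain ⟨c, hc, hc'⟩ := (h.idx_inf' h.h1 h.ymem h.y0 h.yx).ex
  replace hc' : c ∉ W x := fun h' => hc' ⟨h', hc⟩
  obtain ⟨d, hd, hd'⟩ := i3.ex
  have fx : ∀ {A : AddSubgroup V} {v : V} {g : G}, (∀ u ∈ A, g • u = u) → g • v = v →
      ∀ u ∈ adj A v, g • u = u := by
    rintro A v g h1 h2 u (hu | hu)
    · exact h1 u hu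
    · have := h1 _ hu
      rwa [smul_add, h2, add_left_inj] at this
  have mv : ∀ {A B : AddSubgroup V} {v : V} {g : G}, Idx2 A B → (∀ u ∈ A, g • u = u) → v ∈ B →
      v ∉ A → g • v ∈ B → g • v + v ∈ A := fun i h1 h2 h3 h4 =>
    i.add _ h4 _ h2 (fun h' => h3 (smul_inj (h1 _ h') ▸ h')) h3
  let T1 := T ⊓ stabilizer G y
  let T2 := T1 ⊓ stabilizer G b
  let T3 := T2 ⊓ stabilizer G c
  let T4 := T3 ⊓ stabilizer G d
  have f1 : ∀ t ∈ T1, ∀ u ∈ L2 x y, t • u = u := fun t ht =>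
    fx (fx (fun u hu => by rw [AddSubgroup.mem_bot.1 hu, smul_zero]) (h.fixx t ht.1)) ht.2
  have f2 : ∀ t ∈ T2, ∀ u ∈ W x, t • u = u := fun t ht => i1.eq_adj hb hb' ▸ fx (f1 t ht.1) ht.2
  have f3 : ∀ t ∈ T3, ∀ u ∈ W x ⊔ W y, t • u = u := fun t ht =>
    i2.eq_adj (AddSubgroup.mem_sup_right hc) hc' ▸ fx (f2 t ht.1) ht.2
  have f4 : ∀ t ∈ T4, ∀ u ∈ W2 W x, t • u = u := fun t ht => i3.eq_adj hd hd' ▸ fx (f3 t ht.1) ht.2
  have e1 : T1.relIndex T ≤ 2 := (idx_le T y (L1 x) fun t ht => by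
    rcases h.fixy t ht with h' | h' <;> simp only [h', c2, mem_L1, true_or, or_true]).trans
    (card_L1_le x)
  have e2 : T2.relIndex T1 ≤ 4 := (idx_le T1 b (L2 x y) fun t ht =>
    mv i1 (f1 t ht) hb hb' (h.fixx t ht.1 ▸ h.eqv t _ _ hb)).trans (card_L2_le x y)
  have e3 : T3.relIndex T2 ≤ 4 := (idx_le T2 c (L2 x y) fun t ht => by
    have h1 : t • c ∈ W y := (show t • y = y from ht.1.2) ▸ h.eqv t _ _ hc
    exact (h.inf_eq h.ymem h.y0 h.yx).le ⟨mv i2 (f2 t ht) (AddSubgroup.mem_sup_right hc) hc'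
      (AddSubgroup.mem_sup_right h1), add_mem h1 hc⟩).trans (card_L2_le x y)
  have e4 : T4.relIndex T3 ≤ 2 := (idx_le T3 d (L1 x) fun t ht =>
    h.rigid1 h.ymem h.y0 h.yx (f3 t ht) hd).trans (card_L1_le x)
  refine ⟨T4, ?_, fun r hr => h.rigid3 (f4 r hr)⟩
  rw [← Subgroup.relIndex_mul_relIndex T4 T3 T inf_le_left (inf_le_left.trans
    (inf_le_left.trans inf_le_left)), ← Subgroup.relIndex_mul_relIndex T3 T2 T inf_le_left
    (inf_le_left.trans inf_le_left), ← Subgroup.relIndex_mul_relIndex T2 T1 T inf_le_left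
    inf_le_left]
  exact Nat.mul_le_mul e4 (Nat.mul_le_mul e3 (Nat.mul_le_mul e2 e1))

theorem card64 [Finite G] : Nat.card V = 64 ∧ Cl W x = ⊤ := by
  obtain ⟨R, hR, hR'⟩ := h.exists_R
  obtain ⟨h1, h2⟩ := act_bound (T := T) (cl_self W x) h.x0 hR' h.trA
  have hW : ∀ a b, b ∈ Cl W a → W2 W b ≤ Cl W a := fun a b hb =>
    W2_le fun c hc => cl_closed (cl_closed hb hc)
  have h3 : Nat.card (Cl W x) ≠ 128 := fun he => by
    obtain ⟨m, hm⟩ := reg_sq h.pg (D := Cl W x) (x := x)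
      (fun t ht d hd => h.fixx t ht ▸ (h.cl_eqv t _ _).2 hd) (h2 (by omega)) (fun t ht v hv v0 hv' => by
        obtain ⟨k, hk, hk'⟩ := h.conj (Subgroup.zpowers t)
          (h.pg.to_le ((Subgroup.zpowers_le).2 ht)) v v0
          ((Subgroup.zpowers_le (H := stabilizer G v)).2 hv')
        exact ⟨k, hk, fun d => by
          rw [← h.par_cl.eq x v hv v0, ← h.cl_eqv k, hk, h.par_cl.eq x v hv v0],
          hk' t (Subgroup.mem_zpowers t)⟩) (by
        obtain ⟨t, ht, ht'⟩ := h.sw1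
        exact ⟨t, ht, y, cl_closed (cl_self W x) h.ymem, by simpa [ht'] using h.x0⟩)
    rw [he] at hm
    have : m ≤ 12 := by nlinarith
    interval_cases m <;> omega
  obtain ⟨v, hv, hv'⟩ := SetLike.not_le_iff_exists.1 (h.W2_ne h.ymem h.y0 h.yx)
  have h4 := AddSubgroup.card_le_of_le (adj_le (hW x x (cl_self W x))
    (hW x y (cl_closed (cl_self W x) h.ymem) hv))
  rw [card_adj hv', h.card32 h.x0] at h4
  obtain ⟨k, hk⟩ := card_pow (Cl W x)
  have h5 : Nat.card (Cl W x) = 64 := by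
    rw [hk] at h1 h3 h4 ⊢
    have : k < 7 := (Nat.pow_lt_pow_iff_right one_lt_two).1 (by omega)
    interval_cases k <;> omega
  have h6 := h.par_cl.sympl (H := W2 W) (fun a ha => Idx2.of_card (hW a a (cl_self W a)) (by
    rw [h.par_cl.card a x ha h.x0, h5, h.card32 ha])) h.W2_self h.W2_symm h.W2_lin h.x0 (by omega)
  rw [h6, AddSubgroup.card_top] at h5
  exact ⟨h5, h6⟩

end Hex

/-- the cases of the antiflag-transitive theory -/
theorem Geo.cases [Finite G] {T : Subgroup G} {x y : V} {W : V → AddSubgroup V} (h : Geo T x y W) :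
    Par W ∨ (∀ a, a ≠ 0 → Idx2 (W a) ⊤) ∨
      (Nat.card V = 64 ∧ ∃ R : Subgroup G, R.relIndex T ≤ 64 ∧ ∀ r ∈ R, ∀ v : V, r • v = v) := by
  by_cases h1 : W y ≤ W x
  · exact Or.inl (h.par_of_le h1)
  by_cases h2 : ∀ a b c, b ∈ W a → b ≠ 0 → b ≠ a → c ∈ W a → c ≠ 0 → c ≠ a →
    W a ⊔ W b = W a ⊔ W c
  · exact Or.inr (Or.inl fun a ha => h.sympl_case h1 h2 ha)
  have h3 : Hex T x y W := ⟨h, h1, fun a b b' hb b0 ba hb' he => h.hex_case h1 h2 hb b0 ba hb' he⟩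
  obtain ⟨R, hR, hR'⟩ := h3.exists_R
  exact Or.inr (Or.inr ⟨h3.card64.1, R, hR, fun r hr v => hR' r hr v (h3.card64.2 ▸ trivial)⟩)

end Cfsg.Agent.H29.CK
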