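import Cfsg.Agent.H29.CKMain
import Cfsg.Agent.H27.TvBasic
import Cfsg.Agent.H81.SmallDeg
import Cfsg.Agent.S5947
import Cfsg.Agent.S5738

/-! Doubly transitive linear groups over `F₂` and linear groups of Mersenne prime degree. -/

set_option autoImplicit false
set_option linter.unusedSectionVars false

namespace Cfsg.Agent.H29.CK

open MulAction

variable {V : Type*} [AddCommGroup V] [Module (ZMod 2) V] [Finite V]

theorem ex2_of_module (V : Type*) [AddCommGroup V] [Module (ZMod 2) V] : Ex2 V :=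
  ⟨fun v => by rw [← two_smul (ZMod 2) v, show (2 : ZMod 2) = 0 from rfl, zero_smul]⟩

theorem finite_linearEquiv (V : Type*) [AddCommGroup V] [Module (ZMod 2) V] [Finite V] :
    Finite (V ≃ₗ[ZMod 2] V) :=
  Finite.of_injective (fun f => (f : V → V)) DFunLike.coe_injective

/-- **Cameron–Kantor**: a doubly transitive subgroup of `GL(V)`, `V` over `F₂` not of order 16,
is all of `GL(V)`. -/
theorem eq_top_of_two_trans (H : Subgroup (V ≃ₗ[ZMod 2] V)) (h4 : 4 ≤ Nat.card V)
    (h16 : Nat.card V ≠ 16) (h : ∀ a b a' b' : V, a ≠ 0 → b ≠ 0 → b ≠ a → a' ≠ 0 → b' ≠ 0 →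
      b' ≠ a' → ∃ g ∈ H, g a = a' ∧ g b = b') : H = ⊤ := by
  haveI := ex2_of_module V
  haveI := finite_linearEquiv V
  have hT : TT H V := fun a b a' b' h1 h2 h3 h5 h6 h7 => by
    obtain ⟨g, hg, hg'⟩ := h a b a' b' h1 h2 h3 h5 h6 h7
    exact ⟨⟨g, hg⟩, hg'⟩
  have ht := (cameron_kantor _ H V rfl hT h4).resolve_right h16
  refine eq_top_iff.2 fun g _ => H27.SLV_le (fun v φ hφ => ?_) (Subsingleton.elim _ _)
  by_cases hv : v = 0
  · exact (H27.has_id H).congr fun x => by simp [hv]
  by_cases h0 : ∃ w, φ w = 1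
  · obtain ⟨g, hg⟩ := hT.tv_all h4 ht (ψ' := φ.toAddMonoidHom) hv hφ h0
    refine ⟨g, g.2, fun x => ?_⟩
    rcases z01 (φ x) with h1 | h1
    · simp only [h1, zero_smul, add_zero]; exact (hg x).1 h1
    · simp only [h1, one_smul]; exact (hg x).2 h1
  · push Not at h0
    exact (H27.has_id H).congr fun x => by simp [z_ne1.1 (h0 x)]

/-- the non-zero vectors -/
def nz (H : Subgroup (V ≃ₗ[ZMod 2] V)) : SubMulAction H V where
  carrier := {v | v ≠ 0}
  smul_mem' g _ hv := (g : V ≃ₗ[ZMod 2] V).map_ne_zero_iff.2 hv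

theorem faithful_nz (H : Subgroup (V ≃ₗ[ZMod 2] V)) : FaithfulSMul H (nz H) :=
  ⟨fun {g g'} h => Subtype.ext (LinearEquiv.ext fun v => by
    by_cases hv : v = 0
    · simp [hv]
    · exact congrArg Subtype.val (h ⟨v, hv⟩))⟩

theorem card_nz (H : Subgroup (V ≃ₗ[ZMod 2] V)) [Fintype (nz H)] :
    Fintype.card (nz H) = 2 ^ Module.finrank (ZMod 2) V - 1 := by
  classical
  letI := Fintype.ofFinite V
  rw [Fintype.card_congr (show nz H ≃ {v : V // ¬ v = 0} from Equiv.refl _),
    Fintype.card_subtype_compl, Fintype.card_subtype_eq, Module.card_eq_pow_finrank (K := ZMod 2),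
    ZMod.card]

theorem card_dvd_of_normal {n : ℕ} (hn : Module.finrank (ZMod 2) V = n) (h2 : 2 ≤ n) (h6 : n ≠ 6)
    {H C : Subgroup (V ≃ₗ[ZMod 2] V)} (hC : H ≤ Subgroup.normalizer C) (hc : IsCyclic C)
    (hcard : Nat.card C = 2 ^ n - 1) : Nat.card H ∣ n * (2 ^ n - 1) := by
  haveI : Fact (Nat.Prime 2) := ⟨Nat.prime_two⟩
  letI := Fintype.ofFinite (GaloisField 2 n)
  have hK := GaloisField.finrank 2 (show n ≠ 0 by omega)
  have hcK : Fintype.card (GaloisField 2 n) = 2 ^ n := by
    rw [← Nat.card_eq_fintype_card, GaloisField.card 2 n (by omega)]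
  let e : V ≃ₗ[ZMod 2] GaloisField 2 n := LinearEquiv.ofFinrankEq _ _ (hn.trans hK.symm)
  let f : (V ≃ₗ[ZMod 2] V) ≃* (Module.End (ZMod 2) (GaloisField 2 n))ˣ :=
    (LinearMap.GeneralLinearGroup.generalLinearEquiv (ZMod 2) V).symm.trans
      (Units.mapEquiv e.conjRingEquiv.toMulEquiv)
  have hc' : IsCyclic (C.map f.toMonoidHom) :=
    isCyclic_of_surjective _ (f.subgroupMap C).surjective
  obtain ⟨g, hg⟩ := S5947.result n h2 hK (fun h => h6 h.1) (by
    rintro ⟨-, -, a, ha⟩
    rw [ZMod.card] at ha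
    have : a ≤ 1 := by
      by_contra h
      have := Nat.pow_le_pow_right two_pos (show 2 ≤ a by omega)
      omega
    interval_cases a <;> omega) (C.map f.toMonoidHom) inferInstance (by
    rw [Subgroup.card_map_of_injective f.injective, hcard, hcK])
  rw [← hcK, ← S5738.result n h2 hK, ← hg, ← Subgroup.card_map_of_injective (f := f.toMonoidHom)
    f.injective, ← Subgroup.card_map_of_injective (f := (MulAut.conj g).toMonoidHom)
    (MulAut.conj g).injective]
  exact Subgroup.card_dvd_of_le ((Subgroup.map_mono ((Subgroup.map_mono hC).trans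
    (Subgroup.le_normalizer_map _))).trans (Subgroup.le_normalizer_map _))

theorem mersenne (n : ℕ) (hn : Module.finrank (ZMod 2) V = n) (hprime : (2 ^ n - 1).Prime)
    (H : Subgroup (V ≃ₗ[ZMod 2] V)) :
    (∀ v w : V, v ≠ 0 → w ≠ 0 → ∃ h ∈ H, h v = w) ↔
      ((IsCyclic H ∧ Nat.card H = 2 ^ n - 1) ∨
       (Nat.card H = n * (2 ^ n - 1) ∧ ∃ C : Subgroup (V ≃ₗ[ZMod 2] V), C ≤ H ∧
          (C.subgroupOf H).Normal ∧ IsCyclic C ∧ Nat.card C = 2 ^ n - 1) ∨ H = ⊤) := by
  haveI := ex2_of_module V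
  haveI := finite_linearEquiv V
  haveI := faithful_nz H
  haveI := Fact.mk hprime
  letI := Fintype.ofFinite (nz H)
  have hz := card_nz H
  rw [hn] at hz
  have hnp : n.Prime := (Nat.prime_of_pow_sub_one_prime (by rintro rfl; norm_num at hprime)
    hprime).2
  have hV : Nat.card V = 2 ^ n := by
    rw [Module.natCard_eq_pow_finrank (K := ZMod 2), hn, Nat.card_zmod]
  constructor
  · intro h
    haveI : IsPretransitive H (nz H) := ⟨fun a b => by
      obtain ⟨g, hg, hg'⟩ := h a b a.2 b.2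
      exact ⟨⟨g, hg⟩, Subtype.ext hg'⟩⟩
    rcases H81.card_or_two_trans (G := H) hprime hz with ⟨k, hk, hH⟩ | h2
    · obtain ⟨P⟩ : Nonempty (Sylow (2 ^ n - 1) H) := inferInstance
      have hP := H24.card_sylow_eq hz P
      have h1 := hprime.two_le
      have hi : P.1.index = k := by
        have := P.1.card_mul_index
        rw [hP, hH] at this
        exact Nat.eq_of_mul_eq_mul_left hprime.pos this
      have hs : Nat.card (Sylow (2 ^ n - 1) H) = 1 := by
        have h3 := Nat.le_of_dvd (by omega) ((hi ▸ P.card_dvd_index).trans hk)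
        exact Nat.ModEq.eq_of_lt_of_lt (card_sylow_modEq_one _ H) (by omega) (by omega)
      haveI := (Nat.card_eq_one_iff_unique.1 hs).1
      have hN := P.normal_of_subsingleton
      have hC : Nat.card (P.1.map H.subtype) = 2 ^ n - 1 := by
        rw [Subgroup.card_map_of_injective H.subtype_injective, hP]
      have hC' : ((P.1.map H.subtype).subgroupOf H).Normal := by
        rwa [Subgroup.subgroupOf, Subgroup.comap_map_eq_self_of_injective H.subtype_injective]
      have hcyc : IsCyclic (P.1.map H.subtype) := isCyclic_of_prime_card hC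
      have h3 := card_dvd_of_normal hn hnp.two_le (by rintro rfl; norm_num at hnp)
        ((Subgroup.normal_subgroupOf_iff_le_normalizer (Subgroup.map_subtype_le _)).1 hC') hcyc hC
      rw [hH, mul_comm n] at h3
      rcases (Nat.dvd_prime hnp).1 (Nat.dvd_of_mul_dvd_mul_left hprime.pos h3) with rfl | rfl
      · rw [mul_one] at hH
        exact Or.inl ⟨isCyclic_of_prime_card hH, hH⟩
      · exact Or.inr (Or.inl ⟨by rw [hH, mul_comm], _, Subgroup.map_subtype_le _, hC', hcyc, hC⟩)
    · refine Or.inr (Or.inr (eq_top_of_two_trans H ?_ ?_ fun a b a' b' h1 h3 h4 h5 h6 h7 => ?_))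
      · rw [hV]; exact Nat.pow_le_pow_right two_pos hnp.two_le
      · rw [hV]; intro h'; rw [h'] at hprime; norm_num at hprime
      · rw [is_two_pretransitive_iff] at h2
        obtain ⟨g, hg, hg'⟩ := @h2 ⟨a, h1⟩ ⟨b, h3⟩
          ⟨a', h5⟩ ⟨b', h6⟩ (fun h => h4 (congrArg Subtype.val h).symm)
          fun h => h7 (congrArg Subtype.val h).symm
        exact ⟨g, g.2, congrArg Subtype.val hg, congrArg Subtype.val hg'⟩
  · intro h v w hv hw
    have key : 2 ^ n - 1 ∣ Nat.card H → ∃ h ∈ H, h v = w := fun hd => by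
      obtain ⟨g, hg⟩ := (H81.transitive_of_prime_dvd hprime hz hd).exists_smul_eq ⟨v, hv⟩ ⟨w, hw⟩
      exact ⟨g, g.2, congrArg Subtype.val hg⟩
    rcases h with ⟨-, h⟩ | ⟨h, -⟩ | rfl
    · exact key (h ▸ dvd_rfl)
    · exact key (h ▸ dvd_mul_left _ _)
    · obtain ⟨φ, h1, h2⟩ := sep11 hv hw
      refine ⟨H27.tv (v + w) (φ.toZModLinearMap 2) (by
        change φ (v + w) = 0
        rw [map_add, h1, h2, aa]), trivial, ?_⟩
      rw [H27.tv_apply]
      change v + φ v • (v + w) = w
      rw [h1, one_smul]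
      simp only [c2]

end Cfsg.Agent.H29.CK
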