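import Cfsg.Agent.H29.CKAct

/-! Antiflag-transitive groups over `F₂`: the local structure at a Sylow 2-subgroup. -/

set_option autoImplicit false
set_option linter.unusedSectionVars false

namespace Cfsg.Agent.H29.CK

open MulAction

variable {G : Type*} [Group G] {V : Type*} [AddCommGroup V] [Ex2 V] [DistribMulAction G V]

variable (G V) in
/-- antiflag transitivity -/
def AF : Prop := ∀ (x x' : V) (φ φ' : V →+ ZMod 2), φ x = 1 → φ' x' = 1 →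
  ∃ g : G, g • x = x' ∧ ∀ v, φ' (g • v) = φ v

/-- the local data of an antiflag-transitive group -/
structure Loc (T : Subgroup G) (x y : V) : Prop where
  pg : IsPGroup 2 T
  x0 : x ≠ 0
  y0 : y ≠ 0
  yx : y ≠ x
  fixx : ∀ t ∈ T, t • x = x
  fixy : ∀ t ∈ T, t • y = y ∨ t • y = y + x
  trA : ∀ φ φ' : V →+ ZMod 2, φ x = 1 → φ' x = 1 → ∃ t ∈ T, ∀ v, φ' (t • v) = φ v
  conj : ∀ P : Subgroup G, IsPGroup 2 P → ∀ v : V, v ≠ 0 → (∀ p ∈ P, p • v = v) →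
    ∃ k : G, k • v = x ∧ ∀ p ∈ P, k * p * k⁻¹ ∈ T
  trans : ∀ a : V, a ≠ 0 → ∃ g : G, g • x = a
  cls : ∀ φ φ' : V →+ ZMod 2, φ x = φ' x → φ y = φ' y → (φ x = 1 ∨ φ y = 1) →
    ∃ t ∈ T, t • y = y ∧ ∀ v, φ' (t • v) = φ v
  p1 : ∀ z, z ∉ L2 x y → ∀ u ∈ L2 x y, ∃ t ∈ T, t • y = y ∧ t • z = z + u
  sw1 : ∃ t ∈ T, t • y = y + x
  sw2 : ∃ g : G, g • y = y ∧ g • x = x + y

theorem AF.trans (h : AF G V) {a b : V} (ha : a ≠ 0) (hb : b ≠ 0) : ∃ g : G, g • a = b := by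
  obtain ⟨φ, h1⟩ := sep0 ha
  obtain ⟨φ', h2⟩ := sep0 hb
  obtain ⟨g, hg, -⟩ := h a b φ φ' h1 h2
  exact ⟨g, hg⟩

variable [Finite G] [Finite V]

theorem conj_of_trans (T : Sylow 2 G) {x : V} (hx : ∀ t ∈ T, t • x = x)
    {P : Subgroup G} (hP : IsPGroup 2 P) {v : V} (hv : ∀ p ∈ P, p • v = v) {k0 : G}
    (hk0 : k0 • v = x) : ∃ k : G, k • v = x ∧ ∀ p ∈ P, k * p * k⁻¹ ∈ T := by
  obtain ⟨g, hg, hg'⟩ := syl_conj T (S := stabilizer G x) hx
    (hP.map (MulAut.conj k0).toMonoidHom) (by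
      rintro _ ⟨p, hp, rfl⟩
      change (k0 * p * k0⁻¹) • x = x
      rw [← hk0, mul_smul, inv_smul_smul, mul_smul, hv p hp])
  refine ⟨g * k0, by rw [mul_smul, hk0]; exact hg, fun p hp => ?_⟩
  have := hg' _ ⟨p, hp, rfl⟩
  simpa [mul_assoc] using this

theorem trA_of_AF (h : AF G V) (T : Sylow 2 G) {x : V} (hx : ∀ t ∈ T, t • x = x)
    (φ φ' : V →+ ZMod 2) (h1 : φ x = 1) (h2 : φ' x = 1) : ∃ t ∈ T, ∀ v, φ' (t • v) = φ v := by
  obtain ⟨t, ht, ht'⟩ := syl_trA (G := stabilizer G x) (T.subtype hx) (x := x) (fun g => g.2)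
    (fun ψ ψ' h1 h2 => by
      obtain ⟨g, hg, hg'⟩ := h x x ψ ψ' h1 h2
      exact ⟨⟨g, hg⟩, hg'⟩) φ φ' h1 h2
  exact ⟨t, ht, ht'⟩

theorem fix_of_trA {T : Subgroup G} {x : V} (x0 : x ≠ 0)
    (trA : ∀ φ φ' : V →+ ZMod 2, φ x = 1 → φ' x = 1 → ∃ t ∈ T, ∀ v, φ' (t • v) = φ v)
    {v : V} (h0 : v ≠ 0) (h1 : v ≠ x) : ∃ t ∈ T, t • v ≠ v := by
  by_contra h
  push Not at h
  obtain ⟨φ, ha, hb⟩ := sep11 x0 h0
  obtain ⟨ψ, hc, hd⟩ := sep1 h0 h1
  obtain ⟨t, ht, ht'⟩ := trA φ (φ + ψ) ha (by rw [AddMonoidHom.add_apply, ha, hc, add_zero])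
  have := ht' v
  rw [h t ht, AddMonoidHom.add_apply, hd, hb] at this
  exact absurd this (by decide)

theorem exists_loc (h : AF G V) (h4 : 4 ≤ Nat.card V) (T : Sylow 2 G) :
    ∃ x y : V, Loc (T : Subgroup G) x y := by
  have hV : ∃ v : V, v ≠ 0 := by
    obtain ⟨v, -, hv⟩ := exists_notMem (A := (⊥ : AddSubgroup V)) (B := ⊤) (by simp; omega)
    exact ⟨v, by simpa using hv⟩
  obtain ⟨x, x0, hx⟩ := fix_ne_zero (G := (T : Subgroup G)) T.isPGroup' hV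
  have fixx : ∀ t ∈ T, t • x = x := fun t ht => hx ⟨t, ht⟩
  have trA := trA_of_AF h T fixx
  have conj : ∀ P : Subgroup G, IsPGroup 2 P → ∀ v : V, v ≠ 0 → (∀ p ∈ P, p • v = v) →
      ∃ k : G, k • v = x ∧ ∀ p ∈ P, k * p * k⁻¹ ∈ T := fun P hP v hv hv' => by
    obtain ⟨k0, hk0⟩ := h.trans hv x0
    exact conj_of_trans T fixx hP hv' hk0
  obtain ⟨y, -, hy, hy'⟩ := fix_coset (P := (T : Subgroup G)) T.isPGroup' (A := L1 x) (B := ⊤)
    (fun g hg v hv => by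
      rcases mem_L1.1 hv with rfl | rfl
      · rw [smul_zero]; exact zero_mem _
      · rw [fixx g hg]; exact hv)
    (fun _ _ _ _ => trivial) (exists_notMem (by have := card_L1_le x; simp; omega))
  have y0 : y ≠ 0 := fun h => hy (mem_L1.2 (Or.inl h))
  have yx : y ≠ x := fun h => hy (mem_L1.2 (Or.inr h))
  have fixy : ∀ t ∈ T, t • y = y ∨ t • y = y + x := fun t ht => by
    rcases mem_L1.1 (hy' t ht) with h | h
    · exact Or.inl (add_eq_zero.1 h)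
    · exact Or.inr (eq_add_iff.2 h)
  have easy : ∀ y' : V, (∀ t ∈ T, t • y' = y' ∨ t • y' = y' + x) → ∀ φ φ' : V →+ ZMod 2,
      φ x = 1 → φ' x = 1 → φ y' = φ' y' → ∃ t ∈ T, t • y' = y' ∧ ∀ v, φ' (t • v) = φ v := by
    intro y' hy' φ φ' h1 h2 h3
    obtain ⟨t, ht, ht'⟩ := trA φ φ' h1 h2
    refine ⟨t, ht, (hy' t ht).resolve_right fun h => ?_, ht'⟩
    have := ht' y'
    rw [h, map_add, h2, h3, add_eq_left] at this
    exact one_ne_zero this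
  obtain ⟨t1, ht1, ht1'⟩ := fix_of_trA x0 trA y0 yx
  -- the second Sylow subgroup
  let Y : Subgroup G := T ⊓ stabilizer G y
  obtain ⟨k, hk, hk'⟩ := conj Y (T.isPGroup'.to_inf_left) y y0 (fun p hp => hp.2)
  let Y2 : Subgroup G := Y.map (MulAut.conj k).toMonoidHom
  have hY2 : Y2 ≤ T := by rintro _ ⟨p, hp, rfl⟩; exact hk' p hp
  have hi : Y.relIndex T = 2 := by
    have h1 := idx_le (T : Subgroup G) y (L1 x) hy'
    have h2 : Y.relIndex T ≠ 0 := Subgroup.FiniteIndex.index_ne_zero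
    have h3 : Y.relIndex T ≠ 1 := fun h => ht1' (Subgroup.relIndex_eq_one.1 h ht1).2
    have := card_L1_le x
    change Y.relIndex T ≤ _ at h1
    omega
  have hi2 : (Y2.subgroupOf T).index = 2 := by
    have h1 := (Y2.subgroupOf T).card_mul_index
    have h2 := (Y.subgroupOf T).card_mul_index
    rw [Nat.card_congr (Subgroup.subgroupOfEquivOfLe hY2).toEquiv,
      Subgroup.card_map_of_injective (MulAut.conj k).injective] at h1
    rw [Nat.card_congr (Subgroup.subgroupOfEquivOfLe inf_le_left).toEquiv,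
      show (Y.subgroupOf T).index = 2 from hi, ← h1] at h2
    exact (Nat.eq_of_mul_eq_mul_left Nat.card_pos h2).symm
  have hmul : ∀ a ∈ T, ∀ b ∈ T, a * b ∈ Y2 ↔ (a ∈ Y2 ↔ b ∈ Y2) := fun a ha b hb =>
    Subgroup.mul_mem_iff_of_index_two hi2 (a := ⟨a, ha⟩) (b := ⟨b, hb⟩)
  have hfix : ∀ p ∈ Y2, p • k • x = k • x := by
    rintro _ ⟨p, hp, rfl⟩
    change (k * p * k⁻¹) • k • x = k • x
    rw [mul_smul, inv_smul_smul, mul_smul, fixx p hp.1]
  obtain ⟨t0, ht0, ht0'⟩ := fix_of_trA x0 trA (smul_ne (g := k) x0)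
    (fun h => yx (smul_inj (hk.trans h.symm)))
  have h0Y : t0 ∉ Y2 := fun h => ht0' (hfix _ h)
  have hout : ∀ t ∈ T, t ∉ Y2 → t • k • x = t0 • k • x := fun t ht h => by
    have := hfix _ ((hmul _ (T.1.inv_mem ht0) t ht).2
      (iff_of_false (fun h => h0Y (by simpa using Y2.inv_mem h)) h))
    rwa [mul_smul, inv_smul_eq_iff] at this
  have hs : t0 • k • x = k • x + x := by
    rw [eq_add_iff]
    by_contra hne
    obtain ⟨t, ht, ht'⟩ := fix_of_trA x0 trA (fun h => ht0' (add_eq_zero.1 h)) hne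
    apply ht'
    rw [smul_add, ← mul_smul t t0]
    by_cases h : t ∈ Y2
    · rw [hfix t h, hout _ (T.1.mul_mem ht ht0) (by rw [hmul t ht t0 ht0]; tauto)]
    · rw [hout t ht h, hfix _ ((hmul t ht t0 ht0).2 (iff_of_false h h0Y)), add_comm]
  have cls : ∀ φ φ' : V →+ ZMod 2, φ x = φ' x → φ y = φ' y → (φ x = 1 ∨ φ y = 1) →
      ∃ t ∈ T, t • y = y ∧ ∀ v, φ' (t • v) = φ v := by
    rintro φ φ' h1 h2 (h3 | h3)
    · exact easy y fixy φ φ' h3 (h1 ▸ h3) h2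
    · obtain ⟨t, ht, ht1, ht2⟩ := easy (k • x) (fun t ht => by
        by_cases h : t ∈ Y2
        · exact Or.inl (hfix t h)
        · exact Or.inr ((hout t ht h).trans hs)) (φ.comp (hom k⁻¹)) (φ'.comp (hom k⁻¹))
        (by change φ (k⁻¹ • x) = 1; rw [← hk, inv_smul_smul, h3])
        (by change φ' (k⁻¹ • x) = 1; rw [← hk, inv_smul_smul, ← h2, h3])
        (by change φ (k⁻¹ • k • x) = φ' (k⁻¹ • k • x); rw [inv_smul_smul, h1])
      obtain ⟨p, hp, rfl⟩ : t ∈ Y2 := by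
        by_contra h
        exact ht0' ((hout t ht h).symm.trans ht1)
      refine ⟨p, hp.1, hp.2, fun v => ?_⟩
      have : φ' (k⁻¹ • (k * p * k⁻¹) • k • v) = φ (k⁻¹ • k • v) := ht2 (k • v)
      simpa only [mul_smul, inv_smul_smul] using this
  refine ⟨x, y, T.isPGroup', x0, y0, yx, fixx, fixy, trA, conj, fun a ha => h.trans x0 ha, cls,
    fun z hz u hu => ?_, ⟨t1, ht1, (fixy t1 ht1).resolve_left ht1'⟩, k⁻¹ * t0 * k, ?_, ?_⟩
  · obtain ⟨ψ, hψ, hψ1⟩ := sep hz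
    obtain ⟨g, hg, hg'⟩ := fourier Y (v := z) (v' := z + u) ψ hψ1
      (by rw [map_add, hψ1, hψ u hu, add_zero]) (fun φ hφ => by
        obtain ⟨t, ht, ht1, ht2⟩ := cls φ (φ + ψ)
          (by rw [AddMonoidHom.add_apply, hψ x (l2_left _ _), add_zero])
          (by rw [AddMonoidHom.add_apply, hψ y (l2_right _ _), add_zero]) (by
            by_contra hn
            rw [not_or, ← Ne, ← Ne, z_ne1, z_ne1] at hn
            apply hφ
            rcases mem_L2.1 hu with rfl | rfl | rfl | rfl <;> simp [hn.1, hn.2])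
        exact ⟨t, ⟨ht, ht1⟩, ht2⟩)
    exact ⟨g, hg.1, hg.2, hg'⟩
  · rw [mul_smul, mul_smul, hk, fixx t0 ht0, ← hk, inv_smul_smul]
  · rw [mul_smul, mul_smul, hs, smul_add, inv_smul_smul, ← hk, inv_smul_smul]

end Cfsg.Agent.H29.CK
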