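import Cfsg.Agent.H29.CKCase

/-! The Cameron–Kantor theorem over `F₂`. -/

set_option autoImplicit false
set_option linter.unusedSectionVars false

namespace Cfsg.Agent.H29.CK

open MulAction

universe u v

variable {G : Type u} [Group G] {V : Type v} [AddCommGroup V] [Ex2 V] [DistribMulAction G V]
  [Finite V] [Finite G]

theorem ck_step (ih : ∀ (G' : Type u) [Group G'] [Finite G'] (V' : Type v) [AddCommGroup V']
      [Ex2 V'] [DistribMulAction G' V'] [Finite V'], Nat.card V' < Nat.card V → TT G' V' →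
      4 ≤ Nat.card V' → Tv G' V' ∨ Nat.card V' = 16)
    (h : TT G V) (hn : ¬ Tv G V) (h32 : 32 ≤ Nat.card V) : False := by
  classical
  have h4 : 4 ≤ Nat.card V := by omega
  obtain ⟨s, hs, -⟩ := exists_third h4 0
  have hc := card_quot hs
  obtain ⟨x, y, W, hW⟩ := exists_geo (h.af_quot h4 hs) (by omega) default
  obtain ⟨S, hπ, hS, comm, eqv⟩ := h.exists_S h4 hs hW
  have l2 : ∀ a b, a ≠ 0 → L2 a b ≤ S a b := fun a b ha => by
    obtain ⟨π, -, h1, h2⟩ := hπ a ha
    rw [h2]
    exact L2_le (by rw [AddSubgroup.mem_comap, (h1 a).2 (l1_self a)]; exact zero_mem _) (hW.self _)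
  have icom : ∀ {A B : AddSubgroup (V ⧸ L1 s)} {π : V →+ V ⧸ L1 s}, Function.Surjective π →
      Idx2 A B → Idx2 (A.comap π) (B.comap π) := fun {A B π} h1 h2 => by
    obtain ⟨v, hv⟩ := h2.ex
    obtain ⟨v, rfl⟩ := h1 v
    exact ⟨AddSubgroup.comap_mono h2.le, ⟨v, hv⟩, fun a ha b hb ha' hb' => by
      rw [AddSubgroup.mem_comap, map_add]; exact h2.add _ ha _ hb ha' hb'⟩
  rcases hW.cases with hP | hI | ⟨h64, R, hR, hR'⟩
  · by_cases hx : W x = ⊤
    · have h2 : ∀ a, a ≠ 0 → ∀ b, b ∈ W a := fun a ha b => by rw [hP.eq x a (hx ▸ trivial) ha, hx]; trivial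
      have h3 : TT (stabilizer G s) (V ⧸ L1 s) := fun a b a' b' a0 b0 ba a0' b0' ba' =>
        hW.tr2 (h2 a a0 b) b0 ba (h2 a' a0' b') b0' ba'
      by_cases h5 : Tv (stabilizer G s) (V ⧸ L1 s)
      · exact case_one hn h32 hs h3 h5
      · exact case_one' h hn hs hW.toLoc h5 ((ih _ _ (by omega) h3 (by omega)).resolve_left h5)
    have part : ∀ a b c, a ≠ 0 → c ∈ S a b → c ∉ L1 a → S a c = S a b := fun a b c ha hc hc' => by
      obtain ⟨π, -, h1, h2⟩ := hπ a ha
      rw [h2] at hc
      rw [h2, h2, hP.eq _ _ hc fun h' => hc' ((h1 c).1 h')]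
    induction x using QuotientAddGroup.induction_on with | H x => ?_
    induction y using QuotientAddGroup.induction_on with | H y => ?_
    have hxs : x ∉ L1 s := fun h' => hW.x0 ((QuotientAddGroup.eq_zero_iff x).2 h')
    obtain ⟨z, hz⟩ : ∃ z : V, z ∉ S s x := by
      by_contra h'
      push Not at h'
      refine hx (eq_top_iff.2 fun v _ => ?_)
      induction v using QuotientAddGroup.induction_on with | H v => ?_
      simpa [hS] using h' v
    obtain ⟨k, hk⟩ := card_pow (W x)
    have h5 := hW.four_le hW.x0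
    by_cases h6 : Nat.card (W x) = 4
    · refine no_fano l2 (fun a b ha hb => ?_) comm part (fun a b c ha => ?_) (fun a b ha hb => ?_)
        hs hxs hz
      · obtain ⟨π, -, h1, h2⟩ := hπ a ha
        ext v
        rw [h2, (h1 b).2 hb, hW.zero, AddSubgroup.mem_comap, AddSubgroup.mem_bot, h1]
      · obtain ⟨π, h0, -, h2⟩ := hπ a ha
        rw [h2, h2, h2, AddSubgroup.comap_sup_eq _ _ _ h0, map_add]
        exact AddSubgroup.comap_mono (hW.lin _ _)
      · obtain ⟨π, h0, h1, h2⟩ := hπ a ha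
        have b0 : π b ≠ 0 := fun h' => hb ((h1 b).1 h')
        have := icom h0 (Idx2.of_card (L1_le (hW.self (π b))) (by
          rw [card_L1 b0, hW.card_eq b0 hW.x0, h6]))
        rwa [← h2, show (L1 (π b)).comap π = L2 a b by
          ext v
          rw [AddSubgroup.mem_comap, mem_L1, ← add_eq_zero (w := π b), ← map_add, h1, h1]
          rfl] at this
    have h8 : 8 ≤ Nat.card (W x) := by
      rw [hk] at h5 h6 ⊢
      exact Nat.pow_le_pow_right two_pos (show 3 ≤ k by
        by_contra h'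
        interval_cases k <;> omega)
    by_cases h7 : Nat.card (W x) = 8
    · have i := Idx2.of_card (L2_le (hW.self x) hW.ymem) (by rw [card_L2 hW.x0 hW.y0 hW.yx, h7])
      obtain ⟨w, hw, hw'⟩ := i.ex
      obtain ⟨t, ht, h1, h2⟩ := hW.p1 w hw' _ (l2_left _ _)
      have h3 := fix_adj (fix_L1 (hW.fixx t ht)) h1
      refine hx (hP.no_tv hW.eqv (g := t) (hW.self _) hw h8 (fun v hv => ?_)
        (by simpa [h2] using hW.x0))
      by_cases hv' : v ∈ L2 (x : V ⧸ L1 s) y
      · exact Or.inl (h3 v hv')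
      · have := h3 _ (i.add v hv w hw hv' hw')
        rw [smul_add, h2, ← add_eq_zero] at this
        exact Or.inr (by rw [← add_eq_zero, ← this]; simp only [c2])
    have hB : Nat.card (S s x) = 2 * Nat.card (W x) := by rw [hS, card_comap_mk hs]
    have blk : ∀ a ∈ S s x, a ≠ 0 → ∀ b ∈ S s x, b ∉ L1 a → S a b = S s x := fun a ha a0 b hb hb' => by
      by_cases h' : a = s
      · subst h'; exact part _ _ _ a0 hb hb'
      · have := (comm a s a0 hs).trans (part s x a hs ha (by simp [mem_L1, a0, h']))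
        rw [part a s b a0 (this ▸ hb) hb', this]
    let H : Subgroup G :=
      { carrier := {g | ∀ v, g • v ∈ S s x ↔ v ∈ S s x}
        mul_mem' := fun ha hb v => by rw [mul_smul, ha, hb]
        one_mem' := fun v => by rw [one_smul]
        inv_mem' := fun {g} ha v => by rw [← ha, smul_inv_smul] }
    letI := subAct (G := H) (S s x) fun g v hv => (g.2 v).2 hv
    have hT : TT H (S s x) := fun a b a' b' a0 b0 ba a0' b0' ba' => by
      simp only [ne_eq, Subtype.ext_iff, ZeroMemClass.coe_zero] at a0 b0 ba a0' b0' ba'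
      obtain ⟨g, h1, h2⟩ := h a b a' b' a0 b0 ba a0' b0' ba'
      refine ⟨⟨g, fun v => ?_⟩, Subtype.ext h1, Subtype.ext h2⟩
      have := eqv g a b v a0
      rwa [h1, h2, blk a a.2 a0 b b.2 (by simp [mem_L1, b0, ba]),
        blk a' a'.2 a0' b' b'.2 (by simp [mem_L1, b0', ba'])] at this
    have hlt : Nat.card (S s x) < Nat.card V := by
      by_contra h'
      exact hz (eq_of_le_card le_top (by simpa using h') ▸ trivial)
    have ms : s ∈ S s x := l2 s x hs (l2_left _ _)
    have mx : x ∈ S s x := l2 s x hs (l2_right _ _)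
    have my : y ∈ S s x := by rw [hS]; exact hW.ymem
    obtain ⟨ψ, h1, h2⟩ := sep (V := S s x) (U := L2 ⟨s, ms⟩ ⟨x, mx⟩) (v := ⟨y, my⟩) (by
      intro h'
      have h'' : y ∈ L2 s x := by
        simpa only [mem_L2, Subtype.ext_iff, ZeroMemClass.coe_zero, AddSubgroup.coe_add] using h'
      rcases h'' with h' | h'
      · exact hW.y0 ((QuotientAddGroup.eq_zero_iff y).2 h')
      · exact hW.yx (mk_eq_iff.2 h'))
    obtain ⟨g, hg⟩ := hT.tv_all (by omega) ((ih _ _ hlt hT (by omega)).resolve_right (by omega))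
      (c' := ⟨x, mx⟩) (fun h' => hxs (mem_L1.2 (Or.inl (congrArg Subtype.val h'))))
      (h1 _ (l2_right _ _)) ⟨_, h2⟩
    refine hx (hP.no_tv hW.eqv (g := ⟨g, congrArg Subtype.val ((hg _).1 (h1 _ (l2_left _ _)))⟩)
      (hW.self _) hW.ymem h8 (fun v hv => ?_) ?_)
    · induction v using QuotientAddGroup.induction_on with | H v => ?_
      have hv' : v ∈ S s x := by rw [hS]; exact hv
      refine (z01 (ψ ⟨v, hv'⟩)).imp (fun h' => ?_) fun h' => ?_
      · have : (g : G) • v = v := congrArg Subtype.val ((hg _).1 h')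
        exact congrArg QuotientAddGroup.mk this
      · have : (g : G) • v = v + x := congrArg Subtype.val ((hg _).2 h')
        exact congrArg QuotientAddGroup.mk this
    · have : (g : G) • y = y + x := congrArg Subtype.val ((hg _).2 h2)
      simpa [smul_mk, this] using hW.x0
  · have idx : ∀ a b, a ≠ 0 → b ∉ L1 a → Idx2 (S a b) ⊤ := fun a b ha hb => by
      obtain ⟨π, h0, h1, h2⟩ := hπ a ha
      simpa only [← h2, AddSubgroup.comap_top] using icom h0 (hI (π b) fun h' => hb ((h1 b).1 h'))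
    refine no_trilinear (V := V) (by omega)
      (fun a b c => if a ≠ 0 ∧ b ∉ L1 a ∧ c ∉ S a b then 1 else 0) (fun a b c d => ?_)
      (fun a b c => ?_) (fun a b c => ?_) (fun a b => ?_) fun a b a0 b0 ba => ?_
    · by_cases h1 : a ≠ 0 ∧ b ∉ L1 a
      · have i := idx a b h1.1 h1.2
        by_cases hc : c ∈ S a b <;> by_cases hd : d ∈ S a b
        · simp [hc, hd, add_mem hc hd]
        · simp [h1, hc, hd, show c + d ∉ S a b from fun h' => hd (mem_of_add hc h')]
        · simp [h1, hc, hd, show c + d ∉ S a b from fun h' => hc (mem_of_add' hd h')]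
        · simp [h1, hc, hd, i.add c trivial d trivial hc hd, aa]
      · simp only [← and_assoc, h1, false_and, if_false, add_zero]
    · have key : ∀ a b, a ≠ 0 ∧ b ∉ L1 a ∧ c ∉ S a b → b ≠ 0 ∧ a ∉ L1 b ∧ c ∉ S b a := by
        rintro a b ⟨h1, h2, h3⟩
        rw [mem_L1, not_or] at h2
        exact ⟨h2.1, by simp [mem_L1, h1, Ne.symm h2.2], comm a b h1 h2.1 ▸ h3⟩
      exact if_congr ⟨key a b, key b a⟩ rfl rfl
    · have key : ∀ b c, a ≠ 0 ∧ b ∉ L1 a ∧ c ∉ S a b → a ≠ 0 ∧ c ∉ L1 a ∧ b ∉ S a c := by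
        rintro b c ⟨h1, h2, h3⟩
        refine ⟨h1, fun h' => h3 (l2 a b h1 (Or.inl h')), fun h' => h3 ?_⟩
        obtain ⟨π, -, h5, h6⟩ := hπ a h1
        rw [h6] at h' ⊢
        exact hW.symm _ _ (fun h'' => h2 ((h5 b).1 h'')) h'
      exact if_congr ⟨key b c, key c b⟩ rfl rfl
    · exact if_neg fun h' => h'.2.2 (l2 a b h'.1 (l2_right _ _))
    · have hb : b ∉ L1 a := by simp [mem_L1, b0, ba]
      obtain ⟨v, -, hv⟩ := (idx a b a0 hb).ex
      exact ⟨v, if_pos ⟨a0, hb, hv⟩⟩
  · exact case_four h hn hs hW.toLoc h64 hR hR'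

/-- **Cameron–Kantor over `F₂`.** -/
theorem cameron_kantor (n : ℕ) : ∀ (G : Type u) [Group G] [Finite G] (V : Type v) [AddCommGroup V]
    [Ex2 V] [DistribMulAction G V] [Finite V], Nat.card V = n → TT G V → 4 ≤ Nat.card V →
    Tv G V ∨ Nat.card V = 16 := by
  induction n using Nat.strong_induction_on with | h n ih => ?_
  intro G _ _ V _ _ _ _ hV h h4
  by_contra hn
  rw [not_or] at hn
  refine ck_step (fun G' _ _ V' _ _ _ _ h1 => ih _ (hV ▸ h1) G' V' rfl) h hn.1 ?_
  obtain ⟨k, hk⟩ := card_pow V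
  have h1 := mt h.small hn.1
  rw [hk] at h1 h4 hn ⊢
  exact Nat.pow_le_pow_right two_pos (show 5 ≤ k by
    by_contra h'
    interval_cases k <;> omega)

end Cfsg.Agent.H29.CK
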