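import Cfsg.Agent.H29.CKForm

/-! Linear partitions of an `F₂`-space into subspaces. -/

set_option autoImplicit false
set_option linter.unusedSectionVars false

namespace Cfsg.Agent.H29.CK

variable {V : Type*} [AddCommGroup V] [Ex2 V] [Finite V]

/-- a linear partition into subspaces of equal order -/
structure Par (K : V → AddSubgroup V) : Prop where
  zero : K 0 = ⊥
  self : ∀ a, a ∈ K a
  eq : ∀ a b, b ∈ K a → b ≠ 0 → K b = K a
  lin : ∀ a b, K (a + b) ≤ K a ⊔ K b
  card : ∀ a b, a ≠ 0 → b ≠ 0 → Nat.card (K a) = Nat.card (K b)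

namespace Par

variable {K : V → AddSubgroup V} (h : Par K)
include h

theorem eq_of_mem {a b c : V} (ha : c ∈ K a) (hb : c ∈ K b) (hc : c ≠ 0) : K a = K b :=
  (h.eq a c ha hc).symm.trans (h.eq b c hb hc)

theorem le_of_mem {u a : V} (ha : a ∈ K u) : K a ≤ K u := by
  by_cases h3 : a = 0
  · rw [h3, h.zero]; exact bot_le
  · rw [h.eq u _ ha h3]

theorem swap {u v : V} (hu : u ≠ 0) (hv : v ∉ K u) : u ∉ K v := fun h' =>
  hv (h.eq v u h' hu ▸ h.self v)

theorem ne0 {u v : V} (hv : v ∉ K u) : v ≠ 0 := by rintro rfl; exact hv (zero_mem _)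

theorem disj {u v c : V} (hv : v ∉ K u) (h1 : c ∈ K u) (h2 : c ∈ K v) : c = 0 := by
  by_contra hc
  exact hv (h.eq_of_mem h1 h2 hc ▸ h.self v)

theorem add_notMem {u v : V} (hv : v ∉ K u) : u + v ∉ K u := fun h' => hv (mem_of_add (h.self u) h')

theorem disj_left {u v c : V} (hv : v ∉ K u) (h1 : c ∈ K u) (h2 : c ∈ K (u + v)) : c = 0 :=
  h.disj (h.add_notMem hv) h1 h2

theorem disj_right {u v c : V} (hu : u ≠ 0) (hv : v ∉ K u) (h1 : c ∈ K v) (h2 : c ∈ K (u + v)) :
    c = 0 := h.disj_left (h.swap hu hv) h1 (by rwa [add_comm])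

theorem graph {u v : V} (hu : u ≠ 0) (hv : v ∉ K u) {a : V} (ha : a ∈ K u) :
    ∃ b ∈ K v, a + b ∈ K (u + v) := by
  have : ∀ w : K (u + v), ∃ a : K u, ∃ b ∈ K v, a + b = w.1 := fun w => by
    obtain ⟨a, ha, b, hb, hab⟩ := AddSubgroup.mem_sup.1 (h.lin u v w.2)
    exact ⟨⟨a, ha⟩, b, hb, hab⟩
  choose f hf using this
  have hi : Function.Injective f := by
    intro w w' hw
    obtain ⟨b, hb, h1⟩ := hf w
    obtain ⟨b', hb', h2⟩ := hf w'
    refine Subtype.ext (add_eq_zero.1 (h.disj_right hu hv ?_ (add_mem w.2 w'.2)))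
    exact mem_of_eq (add_mem hb hb') (by rw [← h1, ← h2, hw]; simp only [c2])
  have hb := (Nat.bijective_iff_injective_and_card f).2
    ⟨hi, h.card _ _ (h.ne0 (h.add_notMem hv)) hu⟩
  obtain ⟨w, hw⟩ := hb.2 ⟨a, ha⟩
  obtain ⟨b, hb, h1⟩ := hf w
  rw [hw] at h1
  exact ⟨b, hb, mem_of_eq w.2 h1⟩

theorem graph' {u v : V} (hu : u ≠ 0) (hv : v ∉ K u) {b : V} (hb : b ∈ K v) :
    ∃ a ∈ K u, a + b ∈ K (u + v) := by
  obtain ⟨a, ha, hab⟩ := h.graph (h.ne0 hv) (h.swap hu hv) hb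
  exact ⟨a, ha, by rwa [add_comm a, add_comm u]⟩

/-- symplectic components exhaust the space -/
theorem sympl {H : V → AddSubgroup V} (idx : ∀ a, a ≠ 0 → Idx2 (H a) (K a))
    (self : ∀ a, a ∈ H a) (symm : ∀ a b, b ≠ 0 → b ∈ H a → a ∈ H b)
    (lin : ∀ a b, H (a + b) ≤ H a ⊔ H b) {u : V} (hu : u ≠ 0) (h8 : 4 < Nat.card (K u)) :
    K u = ⊤ := by
  classical
  by_contra hne
  obtain ⟨v0, hv0⟩ : ∃ v0, v0 ∉ K u := by
    by_contra h'
    push Not at h'
    exact hne (eq_top_iff.2 fun v _ => h' v)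
  obtain ⟨u2, hu2, hu2'⟩ := (idx u hu).ex
  have hK : ∀ v : K v0, v ≠ 0 → K v = K v0 := fun v hv =>
    h.eq _ _ v.2 fun h' => hv (Subtype.ext h')
  have hout : ∀ v : K v0, v ≠ 0 → v.1 ∉ K u := fun v hv h' =>
    hv (Subtype.ext (h.disj hv0 h' v.2))
  have hσ : ∀ v : K v0, ∃ w : K v0, (v = 0 → w = 0) ∧ (v ≠ 0 → u2 + w ∈ K (u + v)) := fun v => by
    by_cases hv : v = 0
    · exact ⟨0, fun _ => rfl, fun h => (h hv).elim⟩
    · obtain ⟨b, hb, hb'⟩ := h.graph hu (hout v hv) hu2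
      exact ⟨⟨b, hK v hv ▸ hb⟩, fun h => (hv h).elim, fun _ => hb'⟩
  choose σ σ0 hσ using hσ
  have dec : ∀ v : K v0, v ≠ 0 → ∀ a ∈ K u, ∀ b ∈ K v0, a + b ∈ H (u + v) →
      a ∈ H u ∧ b ∈ H v := by
    intro v hv a ha b hb hab
    obtain ⟨a', ha', b', hb', h1⟩ := AddSubgroup.mem_sup.1 (lin _ _ hab)
    have h2 : a + a' = 0 := h.disj hv0 (add_mem ha ((idx u hu).le ha')) (mem_of_eq
      (add_mem hb (hK v hv ▸ (idx _ fun h' => hv (Subtype.ext h')).le hb')) (by
        rw [← add_eq_zero] at h1 ⊢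
        rw [← h1]; simp only [c2]))
    rw [add_eq_zero] at h2
    subst h2
    exact ⟨ha', add_left_cancel h1 ▸ hb'⟩
  have hnot : ∀ v : K v0, v ≠ 0 → (σ v).1 ∉ H v := by
    intro v hv h1
    have hv' : v.1 ≠ 0 := fun h' => hv (Subtype.ext h')
    have huv := h.ne0 (h.add_notMem (hout v hv))
    obtain ⟨v3, hv3, hv3'⟩ := (idx v hv').ex
    obtain ⟨u3, hu3, h3⟩ := h.graph' hu (hout v hv) hv3
    rw [hK v hv] at hv3
    have h4 := (idx _ huv).add _ (hσ v hv) _ h3 (fun h' => hu2' (dec v hv _ hu2 _ (σ v).2 h').1)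
      fun h' => hv3' (dec v hv _ hu3 _ hv3 h').2
    exact hv3' (mem_of_add h1 (dec v hv _ (add_mem hu2 hu3) _ (add_mem (σ v).2 hv3)
      (mem_of_eq h4 (by simp only [c2]))).2)
  have hinj : ∀ τ : K v0 → K v0, τ 0 = 0 → (∀ v, v ≠ 0 → τ v ≠ 0) → ∀ a ∈ K u,
      (∀ v : K v0, v ≠ 0 → a + τ v ∈ K (u + v)) → Function.Bijective τ := by
    intro τ τ0 τ1 a ha hτ
    refine Finite.injective_iff_bijective.1 fun v v' hv => ?_
    by_cases h1 : v = 0
    · by_contra h2
      exact τ1 v' (fun h' => h2 (h1.trans h'.symm)) (by rw [← hv, h1, τ0])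
    have h2 : v' ≠ 0 := fun h' => τ1 v h1 (by rw [hv, h', τ0])
    have h3 := h.eq_of_mem (hτ v h1) (hv ▸ hτ v' h2) fun h' =>
      τ1 v h1 (Subtype.ext (h.disj hv0 (add_eq_zero.1 h' ▸ ha) (τ v).2))
    refine Subtype.ext (add_eq_zero.1 (h.disj_right hu (hout v h1) ?_ ?_))
    · rw [hK v h1]; exact add_mem v.2 v'.2
    · exact mem_of_eq (add_mem (h.self _) (h3 ▸ h.self (u + v'))) (by simp only [c2])
  have b1 := hinj σ (σ0 0 rfl) (fun v hv h' => hnot v hv (by rw [h']; exact zero_mem _)) u2 hu2 hσ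
  have b2 := hinj (fun v => v + σ v) (by simp [σ0 0 rfl])
    (fun v hv h' => hnot v hv (add_eq_zero.1 h' ▸ self v)) (u + u2) (add_mem (h.self u) hu2)
    fun v hv => mem_of_eq (add_mem (h.self _) (hσ v hv)) (by
      simp only [AddSubgroup.coe_add, c2])
  let β : K v0 → K v0 → ZMod 2 := fun v w => if v = 0 ∨ w.1 ∈ H v then 0 else 1
  have hadd : ∀ a b c, β a (b + c) = β a b + β a c := by
    intro a b c
    by_cases ha : a = 0
    · simp [β, ha]
    have hi := idx a fun h' => ha (Subtype.ext h')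
    rw [hK a ha] at hi
    by_cases hb : b.1 ∈ H a <;> by_cases hc : c.1 ∈ H a
    · simp [β, hb, hc, add_mem hb hc]
    · simp [β, ha, hb, hc, show b.1 + c.1 ∉ H a from fun h' => hc (mem_of_add hb h')]
    · simp [β, ha, hb, hc, show b.1 + c.1 ∉ H a from fun h' => hb (mem_of_add' hc h')]
    · simp [β, ha, hb, hc, hi.add _ b.2 _ c.2 hb hc, aa]
  have hsymm : ∀ a b, β a b = β b a := by
    intro a b
    refine if_congr ?_ rfl rfl
    have key : ∀ a b : K v0, a = 0 ∨ b.1 ∈ H a → b = 0 ∨ a.1 ∈ H b := by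
      rintro a b (rfl | h1)
      · exact Or.inr (zero_mem _)
      · by_cases hb : b = 0
        · exact Or.inl hb
        · exact Or.inr (symm _ _ (fun h' => hb (Subtype.ext h')) h1)
    exact ⟨key a b, key b a⟩
  obtain ⟨ι, _, l, m, e, e', he⟩ := half (K v0)
  replace he := he β hadd hsymm fun v => if_pos (Or.inr (self v))
  letI := Fintype.ofFinite (K v0)
  have h8' : 4 < Nat.card (K v0) := by rwa [h.card v0 u (h.ne0 hv0) hu]
  let Q : K v0 → ZMod 2 := fun v => ∑ i, l i v * m i v * β (e i) (e' i)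
  have hQ : ∑ v, Q v = 0 := by
    rw [Finset.sum_comm]
    exact Finset.sum_eq_zero fun i _ => sum_two h8' _ _ _
  have hpol : ∀ v w, β v w = Q (v + w) + Q v + Q w := fun v w => by
    rw [he, ← Finset.sum_add_distrib, ← Finset.sum_add_distrib]
    refine Finset.sum_congr rfl fun i _ => ?_
    rw [map_add, map_add]
    generalize l i v = a; generalize l i w = b; generalize m i v = c; generalize m i w = d
    generalize β (e i) (e' i) = f
    revert a b c d f; decide
  have h1 := sum_ne (V := K v0) (by omega) (fun v => β v (σ v)) (if_pos (Or.inl rfl))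
    fun v hv => if_neg (not_or.2 ⟨hv, hnot v hv⟩)
  simp only [hpol, Finset.sum_add_distrib] at h1
  rw [b1.sum_comp Q, b2.sum_comp Q, hQ] at h1
  exact absurd h1 (by decide)

section Act

variable {G : Type*} [Group G] [DistribMulAction G V]
  (eqv : ∀ (g : G) a b, b ∈ K a → g • b ∈ K (g • a))
include eqv

theorem rigid {g : G} {u z : V} (hu : u ≠ 0) (hz : z ∉ K u) (h1 : ∀ v ∈ K u, g • v = v)
    (h2 : g • z = z) : ∀ v ∈ K u ⊔ K z, g • v = v := by
  intro v hv
  obtain ⟨a, ha, b, hb, rfl⟩ := AddSubgroup.mem_sup.1 hv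
  obtain ⟨c, hc, hcb⟩ := h.graph' hu hz hb
  have h3 := eqv g _ _ hcb
  have h4 := eqv g _ _ hb
  rw [smul_add, smul_add, h1 u (h.self u), h2, h1 c hc] at h3
  rw [h2] at h4
  rw [smul_add, h1 a ha, add_eq_zero.1 (h.disj_right hu hz (add_mem h4 hb)
    (mem_of_eq (add_mem h3 hcb) (by simp only [c2])))]

theorem fix_mem {g : G} {u c w : V} (hc : c ∈ K u) (hw : w ∈ K u) (h8 : 8 ≤ Nat.card (K u))
    (h1 : ∀ v ∈ K u, g • v = v ∨ g • v = v + c) (hw' : g • w ≠ w) {z : V} (hz : g • z = z) :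
    z ∈ K u := by
  by_contra hz'
  have hw1 := (h1 w hw).resolve_left hw'
  have c0 : c ≠ 0 := by rintro rfl; exact hw' (by simpa using hw1)
  have hgc : g • c = c := (h1 c hc).resolve_right (by rw [aa]; exact smul_ne c0)
  obtain ⟨c', hc', hc1, hc2⟩ : ∃ c' ∈ K u, c' ∉ L1 c ∧ g • c' = c' := by
    obtain ⟨v, hv, hv'⟩ := exists_notMem (A := L2 c w) (B := K u) (by have := card_L2_le c w; omega)
    rcases h1 v hv with h2 | h2
    · exact ⟨v, hv, fun h' => hv' (le_adj _ _ h'), h2⟩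
    · exact ⟨v + w, add_mem hv hw, fun h' => hv' (Or.inr h'), by
        rw [smul_add, h2, hw1]; simp only [c2]⟩
  have key : ∀ a ∈ K u, a ≠ 0 → g • a = a → ∀ v ∈ K z, g • v = v ∨ c + (g • v + v) ∈ K (a + z) := by
    intro a ha a0 hga v hv
    have e := h.eq u a ha a0
    obtain ⟨b, hb, hbv⟩ := h.graph' a0 (e ▸ hz') hv
    have h3 := eqv g _ _ hbv
    rw [smul_add, smul_add, hga, hz] at h3
    rcases h1 b (e ▸ hb) with h4 | h4
    · refine Or.inl (add_eq_zero.1 (h.disj_right a0 (e ▸ hz') (add_mem (hz ▸ eqv g _ _ hv) hv) ?_))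
      exact mem_of_eq (add_mem h3 hbv) (by rw [h4]; simp only [c2])
    · exact Or.inr (mem_of_eq (add_mem h3 hbv) (by rw [h4]; simp only [c2]))
  have e := h.eq u c hc c0
  obtain ⟨v, hv, hwv⟩ := h.graph c0 (e ▸ hz') (e ▸ hw)
  have hv' : g • v ≠ v := fun h' => by
    have h3 := eqv g _ _ hwv
    rw [smul_add, smul_add, hgc, hz, h', hw1] at h3
    exact c0 (h.disj_left (e ▸ hz') (h.self c) (mem_of_eq (add_mem h3 hwv) (by simp only [c2])))
  have c'0 : c' ≠ 0 := fun h' => hc1 (mem_L1.2 (Or.inl h'))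
  have h5 := h.eq_of_mem ((key c hc c0 hgc v hv).resolve_left hv')
    ((key c' hc' c'0 hc2 v hv).resolve_left hv') fun h' =>
      c0 (h.disj hz' hc (add_eq_zero.1 h' ▸ add_mem (hz ▸ eqv g _ _ hv) hv))
  refine hc1 (mem_L1.2 (Or.inr (add_eq_zero.1 (h.disj_left (e ▸ hz') (e ▸ add_mem hc' hc) ?_))))
  exact mem_of_eq (add_mem (h.self (c + z)) (h5 ▸ h.self (c' + z))) (by simp only [c2])

/-- no element induces a transvection on a component of order at least eight -/
theorem no_tv [Finite G] {g : G} {u c w : V} (hc : c ∈ K u) (hw : w ∈ K u)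
    (h8 : 8 ≤ Nat.card (K u)) (h1 : ∀ v ∈ K u, g • v = v ∨ g • v = v + c) (hw' : g • w ≠ w) :
    K u = ⊤ := by
  by_contra hne
  have hw1 := (h1 w hw).resolve_left hw'
  have c0 : c ≠ 0 := by rintro rfl; exact hw' (by simpa using hw1)
  have u0 : u ≠ 0 := by rintro rfl; rw [h.zero] at hc; exact c0 hc
  have hgc : g • c = c := (h1 c hc).resolve_right (by rw [aa]; exact smul_ne c0)
  have hgg : ∀ v ∈ K u, g • g • v = v := fun v hv => by
    rcases h1 v hv with h2 | h2
    · rw [h2, h2]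
    · rw [h2, smul_add, h2, hgc]; simp only [c2]
  obtain ⟨k, m, hm, hkm⟩ := Nat.exists_eq_two_pow_mul_odd (orderOf_pos g).ne'
  obtain ⟨j, rfl⟩ := hm
  have hodd : ∀ v ∈ K u, g ^ (2 * j + 1) • v = g • v := fun v hv => by
    have : ∀ j : ℕ, ∀ v ∈ K u, g ^ (2 * j) • v = v := fun j => by
      induction j with
      | zero => simp
      | succ j ih =>
        intro v hv
        rw [mul_add, pow_add, mul_smul, mul_one, pow_two, mul_smul, hgg v hv, ih v hv]
    rw [pow_succ', mul_smul, this j v hv]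
  have hP : IsPGroup 2 (Subgroup.zpowers (g ^ (2 * j + 1))) := by
    refine IsPGroup.of_card (n := k) ?_
    rw [Nat.card_zpowers, orderOf_pow' _ (by omega), hkm, Nat.gcd_mul_left_left,
      Nat.mul_div_cancel _ (by omega)]
  have h1' : ∀ v ∈ K u, g ^ (2 * j + 1) • v = v ∨ g ^ (2 * j + 1) • v = v + c := fun v hv => by
    rw [hodd v hv]; exact h1 v hv
  have hw2 : g ^ (2 * j + 1) • w ≠ w := by rwa [hodd w hw]
  have hc2 : g ^ (2 * j + 1) • c = c := by rwa [hodd c hc]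
  generalize g ^ (2 * j + 1) = t at hP h1' hw2 hc2
  clear hodd hgg hkm hgc hw1 hw' h1
  have ht : ∀ v ∈ K u, t • v ∈ K u := fun v hv => by
    rcases h1' v hv with h2 | h2 <;> rw [h2]
    exacts [hv, add_mem hv hc]
  have htt : ∀ v ∈ K u, (t * t) • v = v := fun v hv => by
    rcases h1' v hv with h2 | h2
    · rw [mul_smul, h2, h2]
    · rw [mul_smul, h2, smul_add, h2, hc2]; simp only [c2]
  obtain ⟨z, -, hz, hz'⟩ := fix_coset hP (A := K u) (B := ⊤) (fun p hp v hv => by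
    obtain ⟨n, rfl⟩ := (mem_powers_iff_mem_zpowers.2 hp)
    clear hp
    induction n with
    | zero => simpa using hv
    | succ n ih => rw [show (fun n => t ^ n) (n + 1) = t * t ^ n from pow_succ' _ _, mul_smul]
                   exact ht _ ih) (fun _ _ _ _ => trivial) (by
    by_contra h'
    push Not at h'
    exact hne (eq_top_iff.2 fun v _ => h' v trivial))
  replace hz' := hz' t (Subgroup.mem_zpowers t)
  have fixm := fun z => h.fix_mem eqv hc hw h8 h1' hw2 (z := z)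
  let N : V →+ V := hom t + AddMonoidHom.id V
  have hN : ∀ v, N v = t • v + v := fun v => rfl
  have hNN : ∀ v, N (N v) = (t * t) • v + v := fun v => by
    simp only [hN, smul_add, mul_smul, c2]
  have hπ : ∀ v ∈ K u ⊔ K z, N v ∈ K u ⊔ K z := fun v hv => by
    rw [hN]
    refine add_mem ?_ hv
    obtain ⟨a, ha, b, hb, rfl⟩ := AddSubgroup.mem_sup.1 hv
    rw [smul_add]
    refine add_mem (AddSubgroup.mem_sup_left (ht a ha)) ?_
    have h2 := eqv t _ _ hb
    rw [show t • z = (t • z + z) + z by simp only [c2]] at h2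
    exact (sup_le_sup_right (h.le_of_mem hz') _ : _ ≤ K u ⊔ K z) (h.lin _ _ h2)
  have hcard := h.card z u (h.ne0 hz) u0
  obtain ⟨ψ, hψ, hψ1⟩ := sep (U := N.ker) (v := w) (fun h' => hw2 (add_eq_zero.1 h'))
  have hψ' : ∀ v ∈ K u, ψ v = 0 → N v = 0 := fun v hv h0 => by
    rcases h1' v hv with h2 | h2
    · exact add_eq_zero.2 h2
    · have := hψ (v + w) (by
        rw [AddMonoidHom.mem_ker, hN, smul_add, h2, (h1' w hw).resolve_left hw2]; simp only [c2])
      rw [map_add, h0, hψ1] at this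
      exact absurd this (by decide)
  by_cases h2 : ∀ v ∈ K u ⊔ K z, (t * t) • v = v
  · obtain ⟨v, hv, hv'⟩ := exists_ker (U := (K u ⊓ ψ.ker :))
      ((N.comp (K z).subtype).codRestrict _ fun v => by
        have h3 : N (N v) = 0 := by rw [hNN, h2 _ (AddSubgroup.mem_sup_right v.2), aa]
        exact ⟨fixm _ (add_eq_zero.1 h3), hψ _ h3⟩) (by
        have := (idx2_ker hw hψ1).card
        omega)
    exact hv (Subtype.ext (h.disj hz (fixm _ (add_eq_zero.1 (congrArg Subtype.val hv'))) v.2))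
  · have h3 : ∀ v ∈ K u ⊔ K z, N (N v) = 0 → v ∈ K u := fun v hv h0 => by
      by_contra hv'
      rw [hNN, add_eq_zero] at h0
      suffices hs : K u ⊔ K z ≤ K u ⊔ K v from
        h2 fun a ha => h.rigid eqv u0 hv' htt h0 a (hs ha)
      refine sup_le le_sup_left ?_
      obtain ⟨a, ha, b, hb, rfl⟩ := AddSubgroup.mem_sup.1 hv
      have b0 : b ≠ 0 := by rintro rfl; exact hv' (by simpa using ha)
      have h3 := h.lin a (a + b)
      rw [show a + (a + b) = b by simp only [c2], h.eq z b hb b0] at h3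
      exact h3.trans (sup_le_sup_right (h.le_of_mem ha) _)
    have h4 : ∀ v ∈ K u ⊔ K z, N (N (N (N v))) = 0 := fun v hv => by
      have := h.rigid eqv (g := t * t * (t * t)) u0 hz (fun v hv => by
        rw [mul_smul, htt v hv, htt v hv]) (by
        have h5 : (t * t) • z + z ∈ K u := by rw [← hNN]; exact add_mem (ht _ hz') hz'
        have h7 := htt _ h5
        rw [smul_add, ← mul_smul, add_eq_zero.symm] at h7
        rw [← add_eq_zero, ← h7]
        simp only [c2]) v hv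
      rw [hNN, hNN, smul_add, ← mul_smul, this]
      simp only [c2]
    obtain ⟨v, hv, hv'⟩ := exists_ker (((ψ.comp (N.comp N)).prod (ψ.comp N)).comp (K z).subtype)
      (by simp; omega)
    have hvπ := AddSubgroup.mem_sup_right (S := K u) v.2
    have h5 : N (N (N v)) = 0 := hψ' _ (h3 _ (hπ _ (hπ _ hvπ)) (h4 _ hvπ)) (congrArg Prod.fst hv')
    have h6 : N (N v) = 0 := hψ' _ (h3 _ (hπ _ hvπ) h5) (congrArg Prod.snd hv')
    exact hv (Subtype.ext (h.disj hz (h3 _ hvπ h6) v.2))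

end Act

end Par

end Cfsg.Agent.H29.CK
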