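import Cfsg.Agent.H29.CKGeo
import Cfsg.Agent.H29.CKPar

/-! Antiflag-transitive groups over `F₂`: collinear points, components, the symplectic case. -/

set_option autoImplicit false
set_option linter.unusedSectionVars false

namespace Cfsg.Agent.H29.CK

open MulAction

variable {G : Type*} [Group G] {V : Type*} [AddCommGroup V] [Ex2 V] [DistribMulAction G V]
  [Finite V]

theorem card_eq_of_smul (g : G) {A B : AddSubgroup V} (h : ∀ v, g • v ∈ B ↔ v ∈ A) :
    Nat.card A = Nat.card B :=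
  Nat.card_congr ((MulAction.toPerm g).subtypeEquiv fun v => (h v).symm)

theorem card_coset {s : Finset V} {A : AddSubgroup V} (z : V) (h : ∀ v, v ∈ s ↔ v + z ∈ A) :
    s.card = Nat.card A := by
  rw [← Nat.card_eq_finsetCard]
  exact Nat.card_congr ((Equiv.addRight z).subtypeEquiv h)

theorem card_erase {s : Finset V} {A : AddSubgroup V} (h : ∀ v, v ∈ s ↔ v ∈ A ∧ v ≠ 0) :
    s.card + 1 = Nat.card A := by
  classical
  rw [← Finset.card_insert_of_notMem (a := 0) (by simp [h]), card_coset (A := A) 0]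
  intro v
  by_cases hv : v = 0 <;> simp [h, hv]

/-- the component of a vector -/
def Cl (W : V → AddSubgroup V) (a : V) : AddSubgroup V := sInf {U | a ∈ U ∧ ∀ u ∈ U, W u ≤ U}

theorem cl_self (W : V → AddSubgroup V) (a : V) : a ∈ Cl W a :=
  AddSubgroup.mem_sInf.2 fun _ h => h.1

theorem cl_closed {W : V → AddSubgroup V} {a u : V} (hu : u ∈ Cl W a) : W u ≤ Cl W a :=
  le_sInf fun U hU => hU.2 u (AddSubgroup.mem_sInf.1 hu U hU)

theorem cl_le {W : V → AddSubgroup V} {a : V} {U : AddSubgroup V} (ha : a ∈ U)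
    (h : ∀ u ∈ U, W u ≤ U) : Cl W a ≤ U := sInf_le ⟨ha, h⟩

namespace Geo

variable {T : Subgroup G} {x y : V} {W : V → AddSubgroup V} (h : Geo T x y W)
include h

theorem card_eq {a b : V} (ha : a ≠ 0) (hb : b ≠ 0) : Nat.card (W a) = Nat.card (W b) := by
  obtain ⟨g, rfl⟩ := h.trans2 ha hb
  exact card_eq_of_smul g (h.eqv_iff g a)

theorem card_inf (g : G) (a b : V) :
    Nat.card (W a ⊓ W b :) = Nat.card (W (g • a) ⊓ W (g • b) :) :=
  card_eq_of_smul g fun v => by simp only [AddSubgroup.mem_inf, h.eqv_iff]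

theorem sup_eqv (g : G) {a b v : V} (hv : v ∈ W a ⊔ W b) : g • v ∈ W (g • a) ⊔ W (g • b) := by
  obtain ⟨c, hc, d, hd, rfl⟩ := AddSubgroup.mem_sup.1 hv
  rw [smul_add]
  exact AddSubgroup.add_mem_sup (h.eqv g _ _ hc) (h.eqv g _ _ hd)

theorem lin' (a b : V) : W b ≤ W a ⊔ W (a + b) := by simpa only [c2] using h.lin a (a + b)

theorem sup_add (a b : V) : W a ⊔ W (a + b) = W a ⊔ W b :=
  le_antisymm (sup_le le_sup_left (h.lin a b)) (sup_le le_sup_left (h.lin' a b))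

theorem cl_eqv (g : G) (a v : V) : g • v ∈ Cl W (g • a) ↔ v ∈ Cl W a := by
  have key : ∀ (g : G) a v, v ∈ Cl W a → g • v ∈ Cl W (g • a) := fun g a v hv =>
    cl_le (U := (Cl W (g • a)).comap (hom g)) (cl_self W (g • a))
      (fun u hu w hw => cl_closed (W := W) hu (h.eqv g _ _ hw)) hv
  exact ⟨fun h' => by simpa using key g⁻¹ _ _ h', key g a v⟩

theorem par_cl : Par (Cl W) := by
  have hc : ∀ a b, a ≠ 0 → b ≠ 0 → Nat.card (Cl W a) = Nat.card (Cl W b) := fun a b ha hb => by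
    obtain ⟨g, rfl⟩ := h.trans2 ha hb
    exact card_eq_of_smul g (h.cl_eqv g a)
  have h0 : Cl W 0 = ⊥ := eq_bot_iff.2 (cl_le (zero_mem _) fun u hu => by
    rw [AddSubgroup.mem_bot.1 hu, h.zero])
  refine ⟨h0, cl_self W, fun a b hb b0 => eq_of_le_card (cl_le hb fun u => cl_closed)
    (hc a b (by rintro rfl; exact b0 (by simpa [h0] using hb)) b0).le, fun a b => ?_, hc⟩
  refine cl_le (AddSubgroup.add_mem_sup (cl_self W a) (cl_self W b)) fun u hu => ?_
  obtain ⟨c, hc, d, hd, rfl⟩ := AddSubgroup.mem_sup.1 hu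
  exact (h.lin c d).trans (sup_le_sup (cl_closed hc) (cl_closed hd))

theorem par_of_le (h1 : W y ≤ W x) : Par W := by
  refine ⟨h.zero, h.self, fun a b hb b0 => ?_, h.lin, fun a b => h.card_eq⟩
  by_cases hab : b = a
  · rw [hab]
  obtain ⟨g, rfl, rfl⟩ := h.tr a b hb b0 hab
  refine eq_of_le_card (fun v hv => ?_) (h.card_eq (smul_ne h.x0) b0).le
  rw [← smul_inv_smul g v, h.eqv_iff] at hv ⊢
  exact h1 hv

theorem card_inf_two (h1 : ¬ W y ≤ W x) : Nat.card (W x) = 2 * Nat.card (W x ⊓ W y :) := by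
  classical
  letI := Fintype.ofFinite V
  have hx : ∀ t ∈ T, ∀ v ∈ W x, t • v ∈ W x := fun t ht v hv => h.fixx t ht ▸ h.eqv t _ _ hv
  obtain ⟨z, hz, hz', hT⟩ := fix_coset h.pg (A := W x) (B := W x ⊔ W y) hx (fun t ht v hv => by
    have := h.sup_eqv t hv
    rw [h.fixx t ht] at this
    rcases h.fixy t ht with h2 | h2
    · rwa [h2] at this
    · rwa [h2, add_comm, h.sup_add] at this) (by
    obtain ⟨v, hv, hv'⟩ := SetLike.not_le_iff_exists.1 h1
    exact ⟨v, AddSubgroup.mem_sup_right hv, hv'⟩)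
  let s : Finset V := Finset.univ.filter fun b => b ∈ W x ∧ b ≠ 0
  let t : Finset V := Finset.univ.filter fun v => v + z ∈ W x
  let M : Finset V := s.filter fun b => z ∈ W x ⊔ W b
  have h2 := Finset.sum_card_bipartiteAbove_eq_sum_card_bipartiteBelow (s := s) (t := t)
    fun b v => v ∈ W b
  have h3 : ∀ b ∈ s, (t.bipartiteAbove (fun b v => v ∈ W b) b).card =
      if z ∈ W x ⊔ W b then Nat.card (W x ⊓ W y :) else 0 := fun b hb => by
    simp only [s, Finset.mem_filter, Finset.mem_univ, true_and] at hb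
    split_ifs with h4
    · obtain ⟨c, hc, d, hd, rfl⟩ := AddSubgroup.mem_sup.1 h4
      obtain ⟨g, hg, rfl⟩ := h.tr x b hb.1 hb.2 (by rintro rfl; exact hz' (add_mem hc hd))
      rw [h.card_inf g, hg]
      refine card_coset d fun v => ?_
      simp only [t, Finset.mem_bipartiteAbove, Finset.mem_filter, Finset.mem_univ, true_and,
        AddSubgroup.mem_inf]
      exact ⟨fun h5 => ⟨mem_of_add hc (mem_of_eq h5.1 (by simp only [c2])), add_mem h5.2 hd⟩,
        fun h5 => ⟨mem_of_eq (add_mem hc h5.1) (by simp only [c2]), mem_of_add' hd h5.2⟩⟩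
    · rw [Finset.card_eq_zero, Finset.eq_empty_iff_forall_notMem]
      intro v hv
      simp only [t, Finset.mem_bipartiteAbove, Finset.mem_filter, Finset.mem_univ, true_and] at hv
      exact h4 (mem_of_eq (AddSubgroup.add_mem_sup hv.1 hv.2) (by simp only [c2]))
  have h4 : ∀ v ∈ t, (s.bipartiteBelow (fun b v => v ∈ W b) v).card =
      Nat.card (W x ⊓ W z :) - 1 := fun v hv => by
    simp only [t, Finset.mem_filter, Finset.mem_univ, true_and] at hv
    obtain ⟨g, hg, hg'⟩ := h.cos hz' hv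
    rw [h.card_inf g, hg, hg', show z + (v + z) = v by simp only [c2]]
    refine Nat.eq_sub_of_add_eq (card_erase fun b => ?_)
    have v0 : v ≠ 0 := by rintro rfl; exact hz' (by simpa using hv)
    simp only [s, Finset.mem_bipartiteBelow, Finset.mem_filter, Finset.mem_univ, true_and,
      AddSubgroup.mem_inf]
    exact ⟨fun h5 => ⟨⟨h5.1.1, h.symm _ _ v0 h5.2⟩, h5.1.2⟩,
      fun h5 => ⟨⟨h5.1.1, h5.2⟩, h.symm _ _ h5.2 h5.1.2⟩⟩
  rw [Finset.sum_congr rfl h3, Finset.sum_congr rfl h4, ← Finset.sum_filter, Finset.sum_const,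
    Finset.sum_const, card_coset (s := t) (A := W x) z (by simp [t]), smul_eq_mul,
    smul_eq_mul] at h2
  have hM : ∀ b, b ∈ M ↔ b ∈ W x ∧ b ≠ 0 ∧ z ∈ W x ⊔ W b := fun b => by simp [M, s, and_assoc]
  have h5 : 4 ∣ (M.filter fun b => b ∉ L2 x y).card := by
    rw [← card_L2 h.x0 h.y0 h.yx, ← Set.ncard_coe_finset]
    refine card_dvd_of_closed _ _ fun b hb u hu => ?_
    rw [Finset.mem_coe, Finset.mem_filter, hM] at hb ⊢
    have h6 : b + u ∉ L2 x y := fun h' => hb.2 (mem_of_add' hu h')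
    obtain ⟨g, hg, -, hg'⟩ := h.p1 b hb.2 u hu
    have h7 := h.sup_eqv g hb.1.2.2
    rw [h.fixx g hg, hg'] at h7
    exact ⟨⟨add_mem hb.1.1 (L2_le (h.self x) h.ymem hu), fun h' => h6 (h' ▸ zero_mem _),
      mem_of_add h7 (AddSubgroup.mem_sup_left (hT g hg))⟩, h6⟩
  have h6 : M.filter (fun b => b ∈ L2 x y) = {y, x + y} := by
    ext b
    rw [Finset.mem_filter, hM, mem_L2, Finset.mem_insert, Finset.mem_singleton]
    constructor
    · rintro ⟨⟨-, h7, h8⟩, rfl | rfl | h9⟩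
      · exact (h7 rfl).elim
      · exact (hz' (by simpa using h8)).elim
      · exact h9
    · rintro (rfl | rfl)
      · exact ⟨⟨h.ymem, h.y0, hz⟩, by simp⟩
      · exact ⟨⟨add_mem (h.self x) h.ymem, fun h' => h.yx (add_eq_zero.1 h').symm,
          by rwa [h.sup_add]⟩, by simp⟩
  have h7 := Finset.card_filter_add_card_filter_not (s := M) fun b => b ∈ L2 x y
  rw [h6, Finset.card_pair (by simpa using h.x0)] at h7
  obtain ⟨a, ha⟩ := card_pow (W x)
  obtain ⟨b, hb⟩ := card_pow (W x ⊓ W y :)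
  have h8 : b < a := by
    rw [← Nat.pow_lt_pow_iff_right one_lt_two, ← ha, ← hb]
    by_contra h9
    have h10 := eq_of_le_card (inf_le_left : W x ⊓ W y ≤ _) (not_lt.1 h9)
    exact h1 (eq_of_le_card (inf_eq_left.1 h10) (h.card_eq h.y0 h.x0).le).ge
  by_contra h9
  obtain ⟨c, rfl⟩ : ∃ c, a = b + 2 + c := by
    refine Nat.exists_eq_add_of_le ?_
    by_contra h10
    exact h9 (by rw [ha, hb, show a = b + 1 by omega, pow_succ'])
  rw [ha, hb, mul_comm, pow_add, pow_add, mul_assoc, mul_assoc] at h2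
  have := Nat.eq_of_mul_eq_mul_left (by positivity) h2
  change M.card = _ at this
  omega

section One

variable (h1 : ¬ W y ≤ W x)
include h1

theorem idx_inf {a b : V} (hb : b ∈ W a) (h0 : b ≠ 0) (h2 : b ≠ a) : Idx2 (W a ⊓ W b) (W a) := by
  obtain ⟨g, rfl, rfl⟩ := h.tr a b hb h0 h2
  refine Idx2.of_card inf_le_left ?_
  rw [← h.card_inf, ← h.card_inf_two h1, h.card_eq (smul_ne h.x0) h.x0]

theorem idx_inf' {a b : V} (hb : b ∈ W a) (h0 : b ≠ 0) (h2 : b ≠ a) : Idx2 (W a ⊓ W b) (W b) := by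
  rw [inf_comm]
  exact h.idx_inf h1 (h.symm _ _ h0 hb) (h.ne_zero hb h0) h2.symm

theorem idx_sup {a b : V} (hb : b ∈ W a) (h0 : b ≠ 0) (h2 : b ≠ a) : Idx2 (W a) (W a ⊔ W b) := by
  have h3 := h.idx_inf' h1 hb h0 h2
  obtain ⟨v, hv, hv'⟩ := h3.ex
  refine ⟨le_sup_left, ⟨v, AddSubgroup.mem_sup_right hv, fun h' => hv' ⟨h', hv⟩⟩,
    fun u hu w hw hu' hw' => ?_⟩
  obtain ⟨c, hc, d, hd, rfl⟩ := AddSubgroup.mem_sup.1 hu
  obtain ⟨c', hc', d', hd', rfl⟩ := AddSubgroup.mem_sup.1 hw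
  have := h3.add d hd d' hd' (fun h' => hu' (add_mem hc h'.1)) fun h' => hw' (add_mem hc' h'.1)
  exact mem_of_eq (add_mem (add_mem hc hc') this.1) (by simp only [c2])

omit h1 in
theorem exists_mid {a b z : V} (b0 : b ≠ 0) (hb : b ∈ W a) (hz : z ∈ W a ⊔ W b) (hz' : z ∉ W a) :
    ∃ c ∈ W a, c ≠ 0 ∧ c ∈ W z := by
  obtain ⟨c, hc, d, hd, rfl⟩ := AddSubgroup.mem_sup.1 hz
  have hd' : d ∉ W a := fun h' => hz' (add_mem hc h')
  obtain ⟨g, hg, hg'⟩ := h.cos hd' hc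
  refine ⟨g • b, hg ▸ h.eqv g _ _ hb, smul_ne b0, ?_⟩
  rw [add_comm, ← hg']
  exact h.eqv g _ _ (h.symm _ _ (by rintro rfl; exact hd' (zero_mem _)) hd)

omit h1 in
theorem col_of_mem {a b z : V} (hz : z ∈ W a ⊔ W b) (hz' : z ∉ W a) : b ≠ 0 ∧ b ≠ a :=
  ⟨by rintro rfl; exact hz' (by simpa [h.zero] using hz), by
    rintro rfl; exact hz' (by simpa using hz)⟩

theorem add_mem_sup {a b b' p p' : V} (hb : b ∈ W a) (hb' : b' ∈ W a) (hp : p ∈ W a ⊔ W b)
    (hp' : p' ∈ W a ⊔ W b') (h2 : p ∉ W a) (h3 : p' ∉ W a) (hne : W a ⊔ W b ≠ W a ⊔ W b') :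
    p + p' ∈ W a ⊔ W (b + b') ∧ b + b' ≠ 0 ∧ b + b' ≠ a := by
  obtain ⟨b0, ba⟩ := h.col_of_mem hp h2
  obtain ⟨b0', ba'⟩ := h.col_of_mem hp' h3
  have i1 := h.idx_sup h1 hb b0 ba
  have i2 := h.idx_sup h1 hb' b0' ba'
  have n0 : b + b' ≠ 0 := fun h' => hne (by rw [add_eq_zero.1 h'])
  have na : b + b' ≠ a := fun h' => hne (by rw [← h.sup_add a b, ← h']; simp only [c2])
  have i3 := h.idx_sup h1 (add_mem hb hb') n0 na
  obtain ⟨r, hr, hr'⟩ := i3.ex
  have e1 : r ∉ W a ⊔ W b := fun h' => hne (i1.eq_of_mem i2 (v := p') ?_ hp' h3)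
  have e2 : r ∉ W a ⊔ W b' := fun h' => hne (i1.eq_of_mem i2 (v := p) hp ?_ h2)
  · have h4 : W a ⊔ W (b + b') ≤ adj (adj (W a) p) p' := by
      refine sup_le ((le_adj _ _).trans (le_adj _ _)) ((h.lin _ _).trans (sup_le ?_ ?_))
      · exact le_sup_right.trans ((i1.eq_adj hp h2).le.trans (le_adj _ _))
      · exact le_sup_right.trans ((i2.eq_adj hp' h3).le.trans
          (adj_le ((le_adj _ _).trans (le_adj _ _)) (self_mem_adj _ _)))
    refine ⟨?_, n0, na⟩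
    rcases h4 hr with h5 | h5 | h5
    · exact (e1 (i1.eq_adj hp h2 ▸ h5)).elim
    · exact (e2 (mem_of_add' hp' (AddSubgroup.mem_sup_left h5))).elim
    · exact mem_of_add hr (AddSubgroup.mem_sup_left (mem_of_eq h5 (by simp only [c2])))
  · refine (sup_le le_sup_left ?_ : W a ⊔ W b ≤ W a ⊔ W b') hp
    have h4 := h.lin' b' b
    rw [add_comm b' b] at h4
    exact h4.trans (sup_le le_sup_right (le_sup_right.trans (i3.eq_of_mem i2 hr h' hr').le))
  · refine (sup_le le_sup_left ?_ : W a ⊔ W b' ≤ W a ⊔ W b) hp'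
    exact (h.lin' b b').trans
      (sup_le le_sup_right (le_sup_right.trans (i3.eq_of_mem i1 hr h' hr').le))

theorem four_group {a b b' c : V} (hb : b ∈ W a) (hb' : b' ∈ W a) (hc : c ∈ W a) (b0 : b ≠ 0)
    (ba : b ≠ a) (c0 : c ≠ 0) (ca : c ≠ a) (he : W a ⊔ W b = W a ⊔ W b')
    (hne : W a ⊔ W b ≠ W a ⊔ W c) : b + b' ∈ L1 a := by
  by_contra hn
  rw [mem_L1, not_or] at hn
  have i1 := h.idx_sup h1 hb b0 ba
  have i2 := h.idx_sup h1 hc c0 ca
  obtain ⟨p, hp, hp'⟩ := i1.ex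
  obtain ⟨q, hq, hq'⟩ := i2.ex
  obtain ⟨e1, n1, n2⟩ := h.add_mem_sup h1 hb hc hp hq hp' hq' hne
  obtain ⟨e2, n3, n4⟩ := h.add_mem_sup h1 hb' hc (he ▸ hp) hq hp' hq' (he ▸ hne)
  have hpq : p + q ∉ W a ⊔ W b := fun h' => hne (i1.eq_of_mem i2 (mem_of_add hp h') hq hq')
  have i3 := h.idx_sup h1 (add_mem hb hc) n1 n2
  have e3 := i3.eq_of_mem (h.idx_sup h1 (add_mem hb' hc) n3 n4) e1 e2
    fun h' => hpq (AddSubgroup.mem_sup_left h')
  obtain ⟨r, hr, hr'⟩ := (h.idx_inf' h1 (add_mem hb hb') hn.1 hn.2).ex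
  have h2 : r ∈ W a ⊔ W b := (sup_le le_sup_right (he ▸ le_sup_right) : _ ≤ W a ⊔ W b) (h.lin _ _ hr)
  have h3 := h.lin (b + c) (b' + c)
  rw [show b + c + (b' + c) = b + b' by simp only [c2]] at h3
  have h4 : r ∈ W a ⊔ W (b + c) :=
    (sup_le le_sup_right (e3 ▸ le_sup_right) : _ ≤ W a ⊔ W (b + c)) (h3 hr)
  exact hpq (i3.eq_of_mem i1 h4 h2 (fun h' => hr' ⟨h', hr⟩) ▸ e1)

/-- the symplectic case -/
theorem sympl_case (h2 : ∀ a b c, b ∈ W a → b ≠ 0 → b ≠ a → c ∈ W a → c ≠ 0 → c ≠ a →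
    W a ⊔ W b = W a ⊔ W c) {a : V} (ha : a ≠ 0) : Idx2 (W a) ⊤ := by
  have key : ∀ a, a ≠ 0 → Idx2 (W a) (Cl W a) := fun a ha => by
    obtain ⟨b, hb, b0, ba⟩ := h.exists_col ha
    have h3 : ∀ z ∈ W a, W z ≤ W a ⊔ W b := fun z hz => by
      by_cases z0 : z = 0
      · rw [z0, h.zero]; exact bot_le
      by_cases za : z = a
      · rw [za]; exact le_sup_left
      · exact h2 a z b hz z0 za hb b0 ba ▸ le_sup_right
    have : Cl W a = W a ⊔ W b := by
      refine le_antisymm (cl_le (AddSubgroup.mem_sup_left (h.self a)) fun z hz => ?_)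
        (sup_le (cl_closed (cl_self W a)) (cl_closed (cl_closed (cl_self W a) hb)))
      by_cases hz' : z ∈ W a
      · exact h3 z hz'
      · obtain ⟨c, hc, c0, hcz⟩ := h.exists_mid b0 hb hz hz'
        have z0 : z ≠ 0 := by rintro rfl; exact hz' (zero_mem _)
        have hzc := h.symm _ _ c0 hcz
        have ca : a ≠ c := by rintro rfl; exact hz' hzc
        have := h2 c z a hzc z0 (by rintro rfl; exact hz' hc) (h.symm _ _ c0 hc) ha ca
        exact le_sup_right.trans (this.le.trans (sup_le (h3 c hc) le_sup_left))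
    rw [this]
    exact h.idx_sup h1 hb b0 ba
  rw [← h.par_cl.sympl key h.self h.symm h.lin ha (by
    have := (key a ha).card
    have := h.four_le ha
    omega)]
  exact key a ha

theorem hex_case (h2 : ¬ ∀ a b c, b ∈ W a → b ≠ 0 → b ≠ a → c ∈ W a → c ≠ 0 → c ≠ a →
    W a ⊔ W b = W a ⊔ W c) {a b b' : V} (hb : b ∈ W a) (b0 : b ≠ 0) (ba : b ≠ a) (hb' : b' ∈ W a)
    (he : W a ⊔ W b = W a ⊔ W b') : b + b' ∈ L1 a := by
  push Not at h2
  obtain ⟨a1, c, d, hc, c0, ca, hd, d0, da, hne⟩ := h2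
  obtain ⟨g, rfl⟩ := h.trans2 (h.ne_zero hc c0) (h.ne_zero hb b0)
  have h3 : W (g • a1) ⊔ W (g • c) ≠ W (g • a1) ⊔ W (g • d) := fun h' => hne (by
    refine le_antisymm (fun v hv => ?_) fun v hv => ?_
    · have h3 := h.sup_eqv g hv
      rw [h'] at h3
      simpa only [inv_smul_smul] using h.sup_eqv g⁻¹ h3
    · have h3 := h.sup_eqv g hv
      rw [← h'] at h3
      simpa only [inv_smul_smul] using h.sup_eqv g⁻¹ h3)
  by_cases h4 : W (g • a1) ⊔ W b = W (g • a1) ⊔ W (g • c)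
  · exact h.four_group h1 hb hb' (h.eqv g _ _ hd) b0 ba (smul_ne d0)
      (fun h' => da (smul_inj h')) he (h4 ▸ h3)
  · exact h.four_group h1 hb hb' (h.eqv g _ _ hc) b0 ba (smul_ne c0)
      (fun h' => ca (smul_inj h')) he h4

end One

end Geo

end Cfsg.Agent.H29.CK
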