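import Cfsg.Agent.H29.ClsPS

/-! Counting families of graded objects with determinant one, and the splitting of classes in the
kernel of a homomorphism to a cyclic group. -/

set_option autoImplicit false

namespace Cfsg.Agent.H29

open PowerSeries Finset

theorem card_le_mul_of_fiber {Y Z : Type*} [Finite Y] [Finite Z] (f : Y → Z) (e : ℕ)
    (h : ∀ y, Nat.card {y' // f y' = f y} ≤ e) : Nat.card Y ≤ e * Nat.card Z := by
  classical
  haveI := Fintype.ofFinite Y
  haveI := Fintype.ofFinite Z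
  rw [Nat.card_eq_fintype_card, Nat.card_eq_fintype_card]
  refine (card_le_mul_card_image (f := f) univ e fun z hz => ?_).trans
    (Nat.mul_le_mul_left _ (card_le_univ _))
  obtain ⟨y, -, rfl⟩ := mem_image.1 hz
  have := h y
  rwa [Nat.card_eq_fintype_card, Fintype.card_subtype] at this

/-- counting families without a determinant condition -/
theorem card_le_coeff' {Y α : Type*} [Finite Y] (N n : ℕ) (φ : Y → ℕ → α) (deg : α → ℕ)
    (A : ℕ → Set α) (S : ℕ → ℝ⟦X⟧) (hφ : ∀ y i, φ y i ∈ A i)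
    (hsum : ∀ y, ∑ i ∈ range N, (i + 1) * deg (φ y i) = n)
    (hA : ∀ i m, {a ∈ A i | deg a = m}.Finite)
    (hS : ∀ i m, ({a ∈ A i | deg a = m}.ncard : ℝ) ≤ coeff m (S i))
    (hinj : ∀ y y', (∀ i < N, φ y i = φ y' i) → y = y') :
    (Nat.card Y : ℝ) ≤ coeff n (PP S N) := by
  refine card_le_coeff N n (fun y i => deg (φ y i)) hsum S
    (fun i m => (Nat.cast_nonneg _).trans (hS i m)) fun x => ?_
  have := card_le_prod (Y := {y // ∀ i < N, deg (φ y i) = deg (φ x i)}) N (fun y => φ y.1)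
    (fun i => {a ∈ A i | deg a = deg (φ x i)}) (fun i _ => hA i _)
    (fun y i hi => ⟨hφ y i, y.2 i hi⟩) fun y y' h => Subtype.ext (hinj _ _ h)
  refine (Nat.cast_le.2 this).trans ?_
  rw [Nat.cast_prod]
  exact prod_le_prod (fun _ _ => Nat.cast_nonneg _) fun i _ => hS i _

/-- classes of a normal subgroup inside one class -/
theorem card_split_le {G N μ : Type*} [Group G] [Group N] [Group μ] [Finite μ] (j : N →* G)
    (hj : Function.Injective j) (δ : G →* μ) (hker : ∀ x, δ x = 1 → x ∈ j.range) (H : Subgroup μ)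
    (g : G) (hH : ∀ h ∈ H, ∃ c, c * g = g * c ∧ δ c = h) {Y : Type*} (ρ : Y → N)
    (hρ : ∀ y, IsConj g (j (ρ y))) (hinj : ∀ y y', IsConj (ρ y) (ρ y') → y = y') :
    Nat.card Y ≤ H.index := by
  choose x hx using fun y => isConj_iff.1 (hρ y)
  refine Nat.card_le_card_of_injective (fun y => (δ (x y) : μ ⧸ H)) fun y y' e => hinj y y' ?_
  obtain ⟨c, hc, e'⟩ := hH _ (QuotientGroup.eq.1 e)
  obtain ⟨w, hw⟩ := hker (x y' * c⁻¹ * (x y)⁻¹) (by
    rw [map_mul, map_mul, map_inv, map_inv, e']; group)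
  refine isConj_iff.2 ⟨w, hj ?_⟩
  have : c⁻¹ * g * c = g := by rw [mul_assoc, ← hc, inv_mul_cancel_left]
  rw [map_mul, map_mul, map_inv, hw, ← hx, ← hx]
  calc _ = x y' * (c⁻¹ * g * c) * (x y')⁻¹ := by group
    _ = _ := by rw [this]

variable {μ : Type*} [CommGroup μ]

variable (μ) in
/-- the subgroup generated by the powers belonging to the levels that occur -/
def Hpow (N : ℕ) (m : ℕ → ℕ) : Subgroup μ :=
  Subgroup.closure {x | ∃ i < N, m i ≠ 0 ∧ ∃ c, c ^ (i + 1) = x}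

theorem index_Hpow_dvd [Finite μ] [IsCyclic μ] {N : ℕ} {m : ℕ → ℕ} {i : ℕ} (hi : i < N)
    (h : m i ≠ 0) : (Hpow μ N m).index ∣ i + 1 := by
  haveI := isCyclic_of_surjective _ (QuotientGroup.mk'_surjective (Hpow μ N m))
  rw [Subgroup.index, ← IsCyclic.exponent_eq_card]
  refine Monoid.exponent_dvd_of_forall_pow_eq_one fun g => ?_
  obtain ⟨c, rfl⟩ := QuotientGroup.mk_surjective g
  rw [← QuotientGroup.mk_pow, QuotientGroup.eq_one_iff]
  exact Subgroup.subset_closure ⟨i, hi, h, c, rfl⟩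

/-- the coefficients of Macdonald's formula, estimated from above -/
noncomputable def aa (e : ℕ) : ℝ := if e = 1 then 1 else (e : ℝ) ^ 2 - 1

theorem aa_nonneg {e : ℕ} (h : e ≠ 0) : 0 ≤ aa e := by
  have : (1 : ℝ) ≤ e := Nat.one_le_cast.2 (Nat.pos_of_ne_zero h)
  unfold aa; split_ifs; exacts [zero_le_one, by nlinarith]

theorem card_det_one [Finite μ] (N : ℕ) (m : ℕ → ℕ) :
    Nat.card μ * Nat.card {a : Fin N → μ // (∀ i : Fin N, m i = 0 → a i = 1) ∧
      ∏ i, a i ^ ((i : ℕ) + 1) = 1} ≤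
      (Hpow μ N m).index * ∏ i ∈ range N, if m i = 0 then 1 else Nat.card μ := by
  classical
  let B : Fin N → Subgroup μ := fun i => if m i = 0 then ⊥ else ⊤
  let ψ : (∀ i, B i) →* μ :=
    ∏ i : Fin N, (powMonoidHom ((i : ℕ) + 1)).comp ((B i).subtype.comp (Pi.evalMonoidHom _ i))
  have hψ : ∀ a, ψ a = ∏ i, (a i : μ) ^ ((i : ℕ) + 1) := fun a => by
    simp [ψ, MonoidHom.finsetProd_apply]
  have h1 : Hpow μ N m ≤ ψ.range := (Subgroup.closure_le _).2 (by
    rintro _ ⟨i, hi, h, c, rfl⟩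
    refine ⟨Pi.mulSingle ⟨i, hi⟩ ⟨c, by simp [B, h]⟩, ?_⟩
    rw [hψ, prod_eq_single ⟨i, hi⟩ (fun b _ hb => by simp [hb]) (by simp)]
    simp)
  have h2 : Nat.card {a : Fin N → μ // (∀ i : Fin N, m i = 0 → a i = 1) ∧
      ∏ i, a i ^ ((i : ℕ) + 1) = 1} ≤ Nat.card ψ.ker :=
    Nat.card_le_card_of_injective (fun a => ⟨fun i => ⟨a.1 i, by
      by_cases h : m i = 0 <;> simp [B, h, a.2.1 i]⟩, by rw [MonoidHom.mem_ker, hψ]; exact a.2.2⟩)
      fun a b e => Subtype.ext (funext fun i =>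
        congrArg Subtype.val (congrFun (congrArg Subtype.val e) i))
  have h3 := ψ.ker.card_mul_index
  rw [Subgroup.index_ker, Nat.card_pi] at h3
  have h4 : ∏ i, Nat.card (B i) = ∏ i ∈ range N, if m i = 0 then 1 else Nat.card μ := by
    rw [← Fin.prod_univ_eq_prod_range (fun i => if m i = 0 then 1 else Nat.card μ)]
    exact prod_congr rfl fun i _ => by by_cases h : m i = 0 <;> simp [B, h]
  rw [← h4, ← h3, ← (Hpow μ N m).index_mul_card, mul_assoc, mul_comm (Nat.card ψ.ker)]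
  exact Nat.mul_le_mul_left _ (Nat.mul_le_mul (Subgroup.card_le_of_le h1) h2)

/-- counting families with determinant one and their splitting -/
theorem card_le_det [Finite μ] [IsCyclic μ] {Y α : Type*} [Finite Y] (N n : ℕ) (φ : Y → ℕ → α)
    (deg : α → ℕ) (ν : α → μ) (A : Set α) (t : ℕ → ℕ) (S : ℝ⟦X⟧) (hφ : ∀ y i, φ y i ∈ A)
    (hsum : ∀ y, ∑ i ∈ range N, (i + 1) * deg (φ y i) = n)
    (hν : ∀ a ∈ A, deg a = 0 → ν a = 1) (hA : ∀ m, {a ∈ A | deg a = m}.Finite)
    (ht : ∀ m c, {a ∈ A | deg a = m ∧ ν a = c}.ncard ≤ t m) (ht0 : t 0 = 1) (hS0 : coeff 0 S = 1)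
    (hS : ∀ m, (Nat.card μ * t (m + 1) : ℝ) ≤ coeff (m + 1) S)
    (hdet : ∀ y, ∏ i ∈ range N, ν (φ y i) ^ (i + 1) = 1)
    (hsplit : ∀ y, Nat.card {y' // ∀ i < N, φ y' i = φ y i} ≤
      (Hpow μ N fun i => deg (φ y i)).index) :
    (Nat.card μ : ℝ) * Nat.card Y ≤ ∑ e ∈ (Nat.card μ).divisors,
      aa e * coeff n (PP (fun i => if e ∣ i + 1 then S else 1) N) := by
  classical
  have hnn : NN S := fun m => by
    rcases m with _ | m
    exacts [hS0 ▸ zero_le_one, le_trans (by positivity) (hS m)]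
  have hnn' : ∀ e i, NN (if e ∣ i + 1 then S else 1) := fun e i => by
    split_ifs; exacts [hnn, nn_one]
  refine card_le_sum_coeff N n (fun y i => deg (φ y i)) hsum _ aa _
    (fun e he => aa_nonneg (Nat.pos_of_mem_divisors he).ne') hnn' _ fun x => ?_
  set m : ℕ → ℕ := fun i => deg (φ x i) with hm
  set e := (Hpow μ N m).index with he
  let Z := {f : Fin N → α // (∀ i : Fin N, f i ∈ {a ∈ A | deg a = m i}) ∧
    ∏ i, ν (f i) ^ ((i : ℕ) + 1) = 1}
  haveI : Finite Z := (Set.Finite.pi' fun i : Fin N => hA (m i)).subset (t := _) fun _ h => h.1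
  have h1 : Nat.card {y // ∀ i < N, deg (φ y i) = m i} ≤ e * Nat.card Z := by
    refine card_le_mul_of_fiber (fun y => (⟨fun i => φ y.1 i, fun i => ⟨hφ _ _, y.2 i i.2⟩, by
      rw [Fin.prod_univ_eq_prod_range (fun i => ν (φ y.1 i) ^ (i + 1)), hdet]⟩ : Z)) e fun y => ?_
    have e1 : Hpow μ N (fun i => deg (φ y.1 i)) = Hpow μ N m := by
      unfold Hpow; congr 1; ext a
      exact exists_congr fun i => and_congr_right fun hi => by rw [← y.2 i hi]
    rw [he, ← e1]
    refine le_trans (Nat.card_le_card_of_injective (fun y' => ⟨y'.1.1, fun i hi =>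
      congrFun (congrArg Subtype.val y'.2) ⟨i, hi⟩⟩) fun a b h => ?_) (hsplit y.1)
    exact Subtype.ext (Subtype.ext (Subtype.mk.inj h))
  have h2 := card_le_mul_of_fiber (fun f : Z => (⟨fun i => ν (f.1 i),
      fun i h => hν _ (f.2.1 i).1 ((f.2.1 i).2.trans h), f.2.2⟩ : {a : Fin N → μ //
      (∀ i : Fin N, m i = 0 → a i = 1) ∧ ∏ i, a i ^ ((i : ℕ) + 1) = 1}))
      (∏ i ∈ range N, t (m i)) fun f => by
    refine (card_le_prod N (fun f' i => if h : i < N then f'.1.1 ⟨i, h⟩ else φ x i)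
      (fun i => {a ∈ A | deg a = m i ∧ ν a = if h : i < N then ν (f.1 ⟨i, h⟩) else 1})
      (fun i _ => (hA (m i)).subset fun _ h => ⟨h.1, h.2.1⟩) (fun f' i hi => ?_)
      fun a b h => ?_).trans (prod_le_prod' fun i _ => ht _ _)
    · simp only [dif_pos hi]
      exact ⟨(f'.1.2.1 _).1, (f'.1.2.1 _).2, congrFun (congrArg Subtype.val f'.2) ⟨i, hi⟩⟩
    · refine Subtype.ext (Subtype.ext (funext fun i => ?_))
      simpa only [dif_pos i.2] using h i i.2
  have h3 := card_det_one (μ := μ) N m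
  have h4 : Nat.card μ * Nat.card {y // ∀ i < N, deg (φ y i) = m i} ≤
      e ^ 2 * ∏ i ∈ range N, (if m i = 0 then 1 else Nat.card μ) * t (m i) := by
    rw [prod_mul_distrib]
    calc _ ≤ Nat.card μ * (e * ((∏ i ∈ range N, t (m i)) * _)) :=
          Nat.mul_le_mul_left _ (h1.trans (Nat.mul_le_mul_left _ h2))
      _ = e * (∏ i ∈ range N, t (m i)) * (Nat.card μ * _) := by ring
      _ ≤ e * (∏ i ∈ range N, t (m i)) * _ := Nat.mul_le_mul_left _ h3
      _ = _ := by ring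
  have h5 : ((∏ i ∈ range N, (if m i = 0 then 1 else Nat.card μ) * t (m i) : ℕ) : ℝ) ≤
      ∏ i ∈ range N, coeff (m i) S := by
    rw [Nat.cast_prod]
    refine prod_le_prod (fun _ _ => Nat.cast_nonneg _) fun i _ => ?_
    rcases m i with _ | k
    · simp [ht0, hS0]
    · simpa using hS k
  have h6 : ∏ i ∈ range N, coeff (m i) (if e ∣ i + 1 then S else 1) =
      ∏ i ∈ range N, coeff (m i) S := prod_congr rfl fun i hi => by
    split_ifs with h
    · rfl
    · rw [not_not.1 (mt (index_Hpow_dvd (μ := μ) (mem_range.1 hi)) h), hS0, coeff_zero_one]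
  have h7 : (Nat.card μ : ℝ) * Nat.card {y // ∀ i < N, deg (φ y i) = m i} ≤
      (e : ℝ) ^ 2 * ∏ i ∈ range N, coeff (m i) S :=
    le_trans (by exact_mod_cast h4) (mul_le_mul_of_nonneg_left h5 (by positivity))
  refine h7.trans (le_trans ?_ (sum_le_sum_of_subset_of_nonneg (s := {1, e}) ?_ fun e he _ =>
    mul_nonneg (aa_nonneg (Nat.pos_of_mem_divisors he).ne') (prod_nonneg fun i _ => hnn' e i _)))
  · by_cases h : e = 1
    · simp [h, aa, hm]
    · rw [sum_pair (Ne.symm h), h6]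
      simp only [aa, if_neg h, one_dvd, if_true]
      linarith
  · simp [insert_subset_iff, Nat.card_pos.ne', he, Subgroup.index_dvd_card]

theorem coeff_PP_dvd {e : ℕ} (he : e ≠ 0) (S : ℝ⟦X⟧) (N n : ℕ) :
    coeff n (PP (fun i => if e ∣ i + 1 then S else 1) N) =
      if e ∣ n then coeff (n / e) (PP (fun _ => S) (N / e)) else 0 := by
  rw [PP_dvd e he, coeff_expand]

end Cfsg.Agent.H29
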