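import Cfsg.Agent.H29.ClsDet

/-! Numerical estimates for the class numbers of `SL` and `PSL`. -/

set_option autoImplicit false

namespace Cfsg.Agent.H29

open PowerSeries Finset

/-- upper bound for the class number of `GL k q` -/
noncomputable def uu (q : ℝ) (k : ℕ) : ℝ := q ^ k - q ^ ((k - 1) / 2)

/-- upper bound for `q - 1` times the class number of `SL m q` -/
noncomputable def KS (q m : ℕ) : ℝ :=
  ∑ e ∈ (q - 1).divisors, if e ∣ m then aa e * uu q (m / e) else 0

theorem coeff_PP_SG_le' {q : ℝ} (hq : 1 ≤ q) (K : ℕ) {k : ℕ} (hk : k ≠ 0) :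
    coeff k (PP (fun _ => SG q) K) ≤ uu q k := by
  obtain ⟨k, rfl⟩ := Nat.exists_eq_succ_of_ne_zero hk
  exact coeff_PP_SG_le hq K k

theorem sum_le_KS {q : ℕ} (hq : 1 ≤ q) {e₀ n : ℕ} (he : e₀ ≠ 0) (hn : n ≠ 0) (h : e₀ ∣ n) (N : ℕ) :
    ∑ e ∈ (q - 1).divisors, aa e * coeff n
      (PP (fun i => if e ∣ i + 1 then expand e₀ he (SG q) else 1) N) ≤ KS q (n / e₀) := by
  refine sum_le_sum fun e hd => ?_
  have h0 := (Nat.pos_of_mem_divisors hd).ne'
  obtain ⟨m, rfl⟩ := h
  rw [coeff_PP_dvd h0, PP_expand e₀ he fun _ => SG q, coeff_expand,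
    Nat.mul_div_cancel_left _ (Nat.pos_of_ne_zero he)]
  by_cases h1 : e ∣ m
  · obtain ⟨k, rfl⟩ := h1
    have h2 : e₀ * (e * k) / e = e₀ * k := by
      rw [mul_left_comm, Nat.mul_div_cancel_left _ (Nat.pos_of_ne_zero h0)]
    rw [if_pos (Dvd.intro _ (mul_left_comm _ _ _)), h2, if_pos (dvd_mul_right _ _),
      if_pos (dvd_mul_right _ _), Nat.mul_div_cancel_left _ (Nat.pos_of_ne_zero he),
      Nat.mul_div_cancel_left _ (Nat.pos_of_ne_zero h0)]
    exact mul_le_mul_of_nonneg_left (coeff_PP_SG_le' (Nat.one_le_cast.2 hq) _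
      fun hk => hn (by simp [hk])) (aa_nonneg h0)
  · rw [if_neg h1]
    split_ifs with h2 h3
    · obtain ⟨k, hk⟩ := h3
      rw [Nat.div_eq_iff_eq_mul_right (Nat.pos_of_ne_zero h0) h2, mul_left_comm] at hk
      exact absurd ⟨k, Nat.eq_of_mul_eq_mul_left (Nat.pos_of_ne_zero he) hk⟩ h1
    all_goals simp

theorem uu_le {q : ℝ} (hq : 0 ≤ q) (k : ℕ) : uu q k ≤ q ^ k :=
  sub_le_self _ (pow_nonneg hq _)

theorem uu_nonneg {q : ℝ} (hq : 1 ≤ q) (k : ℕ) : 0 ≤ uu q k :=
  sub_nonneg.2 (pow_le_pow_right₀ hq (by omega))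

theorem KS_eq {q : ℕ} (hq : 2 ≤ q) {m : ℕ} (hm : m ≠ 0) :
    KS q m = ∑ e ∈ m.divisors, if e ∣ q - 1 then aa e * uu q (m / e) else 0 := by
  rw [KS, ← sum_filter, ← sum_filter]
  congr 1
  ext e
  simp only [mem_filter, Nat.mem_divisors]
  exact ⟨fun h => ⟨⟨h.2, hm⟩, h.1.1⟩, fun h => ⟨⟨h.2, by omega⟩, h.1.1⟩⟩

theorem KS_one {q : ℕ} (hq : 2 ≤ q) : KS q 1 = q - 1 := by
  simp [KS_eq hq, aa, uu]

theorem KS_two {q : ℕ} (hq : 2 ≤ q) :
    KS q 2 = (q - 1) * (q + 1 + if 2 ∣ q - 1 then 3 else 0) := by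
  rw [KS_eq hq two_ne_zero, show Nat.divisors 2 = {1, 2} by decide]
  by_cases h : 2 ∣ q - 1 <;> simp [aa, uu, h] <;> ring

theorem three_mul_sum_sq (q : ℕ) : 3 * ∑ e ∈ range q, (e : ℝ) ^ 2 ≤ (q : ℝ) ^ 3 := by
  induction q with
  | zero => simp
  | succ q ih =>
    have : (0 : ℝ) ≤ q := Nat.cast_nonneg q
    rw [sum_range_succ]; push_cast; nlinarith

theorem KS_le {q : ℕ} (hq : 2 ≤ q) {m : ℕ} (hm : 3 ≤ m) :
    KS q m ≤ (q - 1) * (q ^ (m - 1) + 3 * q ^ (m - 2)) := by
  have h2 : (2 : ℝ) ≤ q := by exact_mod_cast hq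
  have hd : ∀ e : ℕ, e ∣ q - 1 → (e : ℝ) + 1 ≤ q := fun e h => by
    have := Nat.le_of_dvd (by omega) h
    exact_mod_cast (by omega : e + 1 ≤ q)
  obtain rfl | rfl | hm : m = 3 ∨ m = 4 ∨ 5 ≤ m := by omega
  · rw [KS_eq hq (by decide), show Nat.divisors 3 = {1, 3} by decide]
    by_cases h : 3 ∣ q - 1 <;> simp [aa, uu, h]
    · have := hd 3 h
      push_cast at this; nlinarith
    · nlinarith
  · rw [KS_eq hq (by decide), show Nat.divisors 4 = {1, 2, 4} by decide]
    by_cases h : 4 ∣ q - 1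
    · have := hd 4 h
      simp [aa, uu, h, (by decide : 2 ∣ 4).trans h]
      push_cast at this; nlinarith
    · by_cases h' : 2 ∣ q - 1 <;> simp [aa, uu, h, h']
      · have := hd 2 h'
        push_cast at this; nlinarith
      · nlinarith
  · obtain ⟨k, rfl⟩ := Nat.exists_eq_add_of_le' (show 4 ≤ m by omega)
    have hx : (0 : ℝ) < q ^ k := by positivity
    have e1 : ∀ j, (q : ℝ) ^ (k + j) = q ^ k * q ^ j := fun j => pow_add _ _ _
    rw [show k + 4 - 1 = k + 3 by omega, show k + 4 - 2 = k + 2 by omega]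
    rcases hq.eq_or_lt with rfl | hq3
    · simp only [KS, Nat.add_one_sub_one, Nat.divisors_one, sum_singleton, one_dvd, if_true, aa,
        Nat.div_one, one_mul]
      refine (uu_le (by positivity) _).trans ?_
      rw [e1, e1, e1]; push_cast at hx ⊢; nlinarith
    have h3 : (3 : ℝ) ≤ q := by exact_mod_cast hq3
    have h4 : KS q (k + 4) ≤ ∑ e ∈ range q, ((if e = 1 then (q : ℝ) ^ (k + 4) else 0) +
        (if e = 2 then 3 * (q : ℝ) ^ (k + 1) else 0) + (e : ℝ) ^ 2 * q ^ k) := by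
      refine le_trans (sum_le_sum fun e he => ?_) (sum_le_sum_of_subset_of_nonneg
        (s := (q - 1).divisors) (fun e he => mem_range.2 (by
          have := Nat.divisor_le he; omega)) fun e _ _ => by positivity)
      have h0 := Nat.pos_of_mem_divisors he
      have hp : (0 : ℝ) ≤ (e : ℝ) ^ 2 * q ^ k := by positivity
      by_cases h : e ∣ k + 4
      · rw [if_pos h]
        obtain rfl | rfl | h5 : e = 1 ∨ e = 2 ∨ 3 ≤ e := by omega
        · have := uu_le (q := q) (by positivity) (k + 4)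
          simp only [aa, if_true, Nat.div_one, one_mul, OfNat.one_ne_ofNat, if_false]
          linarith
        · have := (uu_le (q := q) (by positivity) ((k + 4) / 2)).trans
            (pow_le_pow_right₀ (by linarith) (show (k + 4) / 2 ≤ k + 1 by omega))
          simp only [aa, OfNat.ofNat_ne_one, if_false, if_true]
          push_cast at hp ⊢; linarith
        · have h6 : (k + 4) / e ≤ k := by
            rcases (show k = 1 ∨ 2 ≤ k by omega) with rfl | h7
            · exact (Nat.div_le_div_left h5 (by decide)).trans (by decide)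
            · exact (Nat.div_le_div_left h5 (by decide)).trans (by omega)
          have := (uu_le (q := q) (by positivity) ((k + 4) / e)).trans
            (pow_le_pow_right₀ (by linarith) h6)
          rw [if_neg (by omega), if_neg (by omega), zero_add, zero_add, aa, if_neg (by omega)]
          exact mul_le_mul (by linarith) this (uu_nonneg (by linarith) _) (by positivity)
      · rw [if_neg h]; positivity
    refine h4.trans ?_
    rw [sum_add_distrib, sum_add_distrib, sum_ite_eq', sum_ite_eq', if_pos (mem_range.2 (by omega)),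
      if_pos (mem_range.2 (by omega)), ← sum_mul, e1, e1, e1, e1]
    have h5 := mul_le_mul_of_nonneg_right (three_mul_sum_sq q) hx.le
    have h6 : (0 : ℝ) ≤ q ^ k * (5 * q ^ 3 - 9 * q ^ 2 - 9 * q) := mul_nonneg hx.le (by nlinarith)
    nlinarith

theorem KS_le' {q : ℕ} (hq : 2 ≤ q) {m : ℕ} (hm : m ≠ 0) :
    2 * KS q m ≤ (q - 1) * (5 * q ^ (m - 1)) := by
  have h2 : (2 : ℝ) ≤ q := by exact_mod_cast hq
  obtain rfl | rfl | hm : m = 1 ∨ m = 2 ∨ 3 ≤ m := by omega
  · rw [KS_one hq]; simp; linarith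
  · rw [KS_two hq]
    split_ifs with h
    · have : (3 : ℝ) ≤ q := by exact_mod_cast (by omega : 3 ≤ q)
      simp; nlinarith
    · simp; nlinarith
  · have := KS_le hq hm
    obtain ⟨k, rfl⟩ := Nat.exists_eq_add_of_le' (show 2 ≤ m by omega)
    rw [show k + 2 - 1 = k + 1 by omega, Nat.add_sub_cancel, pow_succ] at *
    have hx : (0 : ℝ) ≤ (q - 1) * q ^ k * (q - 2) :=
      mul_nonneg (mul_nonneg (by linarith) (by positivity)) (by linarith)
    nlinarith

end Cfsg.Agent.H29
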