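import Mathlib

/-! Power series with non-negative coefficients and the counting of families of graded objects
(generating functions of class numbers). -/

set_option autoImplicit false

namespace Cfsg.Agent.H29

open PowerSeries Finset

/-- all coefficients are non-negative -/
def NN (f : ℝ⟦X⟧) : Prop := ∀ n, 0 ≤ coeff n f

theorem NN.add {f g : ℝ⟦X⟧} (hf : NN f) (hg : NN g) : NN (f + g) := fun n => by
  rw [map_add]; exact add_nonneg (hf n) (hg n)

theorem NN.mul {f g : ℝ⟦X⟧} (hf : NN f) (hg : NN g) : NN (f * g) := fun n => by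
  rw [coeff_mul]; exact sum_nonneg fun _ _ => mul_nonneg (hf _) (hg _)

theorem nn_one : NN 1 := fun n => by rw [coeff_one]; split_ifs <;> norm_num
theorem nn_zero : NN 0 := fun n => by simp
theorem nn_X : NN X := fun n => by rw [coeff_X]; split_ifs <;> norm_num
theorem nn_C {c : ℝ} (h : 0 ≤ c) : NN (C c) := fun n => by rw [coeff_C]; split_ifs <;> simp [h]
theorem nn_mk {s : ℕ → ℝ} (h : ∀ n, 0 ≤ s n) : NN (mk s) := fun n => by rw [coeff_mk]; exact h n

theorem NN.pow {f : ℝ⟦X⟧} (hf : NN f) (k : ℕ) : NN (f ^ k) := by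
  induction k with
  | zero => rw [pow_zero]; exact nn_one
  | succ k ih => rw [pow_succ]; exact ih.mul hf

theorem nn_prod {ι : Type*} {s : Finset ι} {f : ι → ℝ⟦X⟧} (h : ∀ i ∈ s, NN (f i)) :
    NN (∏ i ∈ s, f i) :=
  prod_induction f NN (fun _ _ => NN.mul) nn_one h

theorem NN.coeff_le {f g : ℝ⟦X⟧} (h : NN (g - f)) (n : ℕ) : coeff n f ≤ coeff n g := by
  have := h n
  rwa [map_sub, sub_nonneg] at this

/-- the substitution of `X ^ (i + 1)` -/
noncomputable abbrev ex (i : ℕ) : ℝ⟦X⟧ →ₐ[ℝ] ℝ⟦X⟧ := expand (i + 1) i.succ_ne_zero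

theorem NN.ex {f : ℝ⟦X⟧} (hf : NN f) (i : ℕ) : NN (ex i f) := fun n => by
  rw [coeff_expand]; split_ifs; exacts [hf _, le_rfl]

theorem ex_zero (f : ℝ⟦X⟧) : ex 0 f = f := expand_one_apply f

/-- the generating function of families with levels `1, …, N` -/
noncomputable def PP (S : ℕ → ℝ⟦X⟧) (N : ℕ) : ℝ⟦X⟧ := ∏ i ∈ range N, ex i (S i)

theorem nn_PP {S : ℕ → ℝ⟦X⟧} (h : ∀ i, NN (S i)) (N : ℕ) : NN (PP S N) :=
  nn_prod fun i _ => (h i).ex i

theorem PP_succ (S : ℕ → ℝ⟦X⟧) (N : ℕ) : PP S (N + 1) = PP S N * ex N (S N) := prod_range_succ _ _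

theorem PP_succ' (S : ℕ → ℝ⟦X⟧) (N : ℕ) :
    PP S (N + 1) = S 0 * ∏ i ∈ range N, ex (i + 1) (S (i + 1)) := by
  rw [PP, prod_range_succ', ex_zero, mul_comm]

/-- counting through the degree vectors -/
theorem card_le_sum_coeff {Y ι : Type*} [Finite Y] (N n : ℕ) (δ : Y → ℕ → ℕ)
    (hδ : ∀ x, ∑ i ∈ range N, (i + 1) * δ x i = n) (E : Finset ι) (a : ι → ℝ)
    (S : ι → ℕ → ℝ⟦X⟧) (ha : ∀ e ∈ E, 0 ≤ a e) (hS : ∀ e i, NN (S e i)) (c : ℝ)
    (h : ∀ x, c * Nat.card {y // ∀ i < N, δ y i = δ x i} ≤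
      ∑ e ∈ E, a e * ∏ i ∈ range N, coeff (δ x i) (S e i)) :
    c * Nat.card Y ≤ ∑ e ∈ E, a e * coeff n (PP (S e) N) := by
  classical
  haveI := Fintype.ofFinite Y
  let D : Y → ℕ →₀ ℕ := fun x => Finsupp.onFinset (range N)
    (fun i => if i < N then (i + 1) * δ x i else 0) fun i hi => by
      by_contra h; exact hi (if_neg (by simpa using h))
  have hD : ∀ x i, i < N → D x i = (i + 1) * δ x i := fun x i hi => if_pos hi
  have h1 : (univ : Finset Y).card = _ := card_eq_sum_card_fiberwise (f := D)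
    (t := (range N).finsuppAntidiag n) fun x _ => mem_finsuppAntidiag.2
      ⟨(sum_congr rfl fun i hi => hD x i (mem_range.1 hi)).trans (hδ x),
        Finsupp.support_onFinset_subset⟩
  simp only [PP, coeff_prod, mul_sum]
  rw [Nat.card_eq_fintype_card, ← card_univ, h1, Nat.cast_sum, mul_sum, sum_comm]
  refine sum_le_sum fun l _ => ?_
  rcases (univ.filter fun x => D x = l).eq_empty_or_nonempty with h0 | ⟨x, hx⟩
  · rw [h0, card_empty, Nat.cast_zero, mul_zero]
    exact sum_nonneg fun e he => mul_nonneg (ha e he)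
      (prod_nonneg fun i _ => (hS e i).ex i _)
  · obtain rfl := (mem_filter.1 hx).2
    have h2 : (univ.filter fun y => D y = D x).card =
        Nat.card {y // ∀ i < N, δ y i = δ x i} := by
      rw [Nat.card_eq_fintype_card, Fintype.card_subtype]
      congr 1
      refine filter_congr fun y _ => ⟨fun e i hi => ?_, fun e => Finsupp.ext fun i => ?_⟩
      · have := DFunLike.congr_fun e i
        rw [hD y i hi, hD x i hi] at this
        exact Nat.eq_of_mul_eq_mul_left i.succ_pos this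
      · by_cases hi : i < N
        · rw [hD y i hi, hD x i hi, e i hi]
        · exact (if_neg hi).trans (if_neg hi).symm
    rw [h2]
    refine (h x).trans_eq (sum_congr rfl fun e _ => ?_)
    congr 1
    exact prod_congr rfl fun i hi => by rw [hD x i (mem_range.1 hi), coeff_expand_mul]

theorem card_le_coeff {Y : Type*} [Finite Y] (N n : ℕ) (δ : Y → ℕ → ℕ)
    (hδ : ∀ x, ∑ i ∈ range N, (i + 1) * δ x i = n) (S : ℕ → ℝ⟦X⟧) (hS : ∀ i, NN (S i))
    (h : ∀ x, (Nat.card {y // ∀ i < N, δ y i = δ x i} : ℝ) ≤ ∏ i ∈ range N, coeff (δ x i) (S i)) :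
    (Nat.card Y : ℝ) ≤ coeff n (PP S N) := by
  simpa using card_le_sum_coeff N n δ hδ {()} (fun _ => 1) (fun _ => S) (by simp)
    (fun _ => hS) 1 (by simpa using h)

/-- an injection into a product of finite sets -/
theorem card_le_prod {Y α : Type*} (N : ℕ) (φ : Y → ℕ → α) (A : ℕ → Set α)
    (hA : ∀ i < N, (A i).Finite) (hφ : ∀ y, ∀ i < N, φ y i ∈ A i)
    (hinj : ∀ y y', (∀ i < N, φ y i = φ y' i) → y = y') :
    Nat.card Y ≤ ∏ i ∈ range N, (A i).ncard := by
  haveI : ∀ i : Fin N, Finite (A i) := fun i => hA i i.2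
  have := Nat.card_le_card_of_injective (fun y (i : Fin N) => (⟨φ y i, hφ y i i.2⟩ : A i))
    fun y y' e => hinj y y' fun i hi => congrArg Subtype.val (congrFun e ⟨i, hi⟩)
  rwa [Nat.card_pi, Fin.prod_univ_eq_prod_range (fun i => Nat.card (A i))] at this

/-! ### partial sums -/

/-- partial sum of a series at `x` -/
noncomputable def ps (x : ℝ) (n : ℕ) (f : ℝ⟦X⟧) : ℝ := ∑ j ∈ range (n + 1), coeff j f * x ^ j

variable {x : ℝ} {n : ℕ} {f g : ℝ⟦X⟧}

theorem ps_nonneg (hx : 0 ≤ x) (hf : NN f) : 0 ≤ ps x n f :=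
  sum_nonneg fun j _ => mul_nonneg (hf j) (pow_nonneg hx j)

theorem ps_add : ps x n (f + g) = ps x n f + ps x n g := by
  simp only [ps, map_add, add_mul, sum_add_distrib]

theorem ps_one : ps x n 1 = 1 := by
  simp [ps, coeff_one]

theorem ps_mono (hx : 0 ≤ x) (h : NN (g - f)) : ps x n f ≤ ps x n g :=
  sum_le_sum fun j _ => mul_le_mul_of_nonneg_right (h.coeff_le j) (pow_nonneg hx j)

theorem ps_monomial (hx : 0 ≤ x) {c : ℝ} (hc : 0 ≤ c) (k : ℕ) :
    ps x n (C c * X ^ k) ≤ c * x ^ k := by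
  simp only [ps, coeff_C_mul, coeff_X_pow, mul_ite, ite_mul, mul_one, mul_zero, zero_mul,
    sum_ite_eq']
  split_ifs
  exacts [le_rfl, mul_nonneg hc (pow_nonneg hx k)]

theorem coeff_mul_pow (f g : ℝ⟦X⟧) (x : ℝ) (m : ℕ) : coeff m (f * g) * x ^ m =
    ∑ k ∈ range (m + 1), coeff k f * x ^ k * (coeff (m - k) g * x ^ (m - k)) := by
  rw [coeff_mul, Nat.sum_antidiagonal_eq_sum_range_succ_mk, sum_mul]
  refine sum_congr rfl fun k hk => ?_
  conv_lhs => rw [← Nat.add_sub_cancel' (Nat.lt_succ_iff.1 (mem_range.1 hk)), pow_add]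
  rw [Nat.add_sub_cancel_left]; ring

theorem ps_mul_le (hx : 0 ≤ x) (hf : NN f) (hg : NN g) : ps x n (f * g) ≤ ps x n f * ps x n g := by
  simp only [ps, coeff_mul_pow]
  rw [sum_range_diag_flip (n + 1) fun a b => coeff a f * x ^ a * (coeff b g * x ^ b), sum_mul]
  refine sum_le_sum fun a _ => ?_
  rw [← mul_sum]
  exact mul_le_mul_of_nonneg_left (sum_le_sum_of_subset_of_nonneg (range_mono (Nat.sub_le _ _))
    fun j _ _ => mul_nonneg (hg j) (pow_nonneg hx j)) (mul_nonneg (hf a) (pow_nonneg hx a))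

theorem ps_mul_le' (hx : 0 ≤ x) (hf : NN f) (hg : NN g) {A B : ℝ} (hA : ps x n f ≤ A)
    (hB : ps x n g ≤ B) : ps x n (f * g) ≤ A * B :=
  (ps_mul_le hx hf hg).trans (mul_le_mul hA hB (ps_nonneg hx hg) ((ps_nonneg hx hf).trans hA))

theorem ps_pow_le (hx : 0 ≤ x) (hf : NN f) {A : ℝ} (hA : ps x n f ≤ A) (k : ℕ) :
    ps x n (f ^ k) ≤ A ^ k := by
  induction k with
  | zero => rw [pow_zero, pow_zero, ps_one]
  | succ k ih => rw [pow_succ, pow_succ]; exact ps_mul_le' hx (hf.pow k) hf ih hA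

theorem ps_prod_le (hx : 0 ≤ x) {ι : Type*} (s : Finset ι) {f : ι → ℝ⟦X⟧} {B : ι → ℝ}
    (hf : ∀ i ∈ s, NN (f i)) (hB : ∀ i ∈ s, ps x n (f i) ≤ B i) :
    ps x n (∏ i ∈ s, f i) ≤ ∏ i ∈ s, B i := by
  classical
  induction s using Finset.induction_on with
  | empty => rw [prod_empty, prod_empty, ps_one]
  | insert a s ha ih =>
    rw [prod_insert ha, prod_insert ha]
    exact ps_mul_le' hx (hf a (mem_insert_self _ _))
      (nn_prod fun i hi => hf i (mem_insert_of_mem hi)) (hB a (mem_insert_self _ _))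
      (ih (fun i hi => hf i (mem_insert_of_mem hi)) fun i hi => hB i (mem_insert_of_mem hi))

theorem ps_one_add (hx : 0 ≤ x) (k : ℕ) : ps x n (1 + X ^ k) ≤ 1 + x ^ k := by
  have := ps_monomial (n := n) hx zero_le_one k
  rw [map_one, one_mul, one_mul] at this
  rw [ps_add, ps_one]; linarith

/-- the pole of the generating function -/
theorem coeff_mul_le (hx : 0 ≤ x) (hg : NN g) {A : ℝ} (hA : ∀ m ≤ n, coeff m f * x ^ m ≤ A) :
    coeff n (f * g) * x ^ n ≤ A * ps x n g := by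
  rw [mul_comm f, coeff_mul_pow, ps, mul_sum]
  exact sum_le_sum fun k _ => by
    rw [mul_comm A]
    exact mul_le_mul_of_nonneg_left (hA _ (Nat.sub_le _ _)) (mul_nonneg (hg k) (pow_nonneg hx k))

/-- the geometric series -/
noncomputable def geo (q : ℝ) : ℝ⟦X⟧ := mk fun n => q ^ n

theorem coeff_geo (q : ℝ) (n : ℕ) : coeff n (geo q) = q ^ n := coeff_mk _ _
theorem nn_geo {q : ℝ} (hq : 0 ≤ q) : NN (geo q) := nn_mk fun n => pow_nonneg hq n

theorem geo_eq (q : ℝ) : (1 - C q * X) * geo q = 1 := by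
  ext n
  rw [sub_mul, one_mul, map_sub, mul_assoc, coeff_C_mul, coeff_one]
  rcases n with _ | n
  · simp [coeff_geo]
  · rw [coeff_succ_X_mul, coeff_geo, coeff_geo, if_neg n.succ_ne_zero]; ring

theorem ex_geo_eq (q : ℝ) (i : ℕ) : (1 - C q * X ^ (i + 1)) * ex i (geo q) = 1 := by
  have := congrArg (ex i) (geo_eq q)
  rwa [map_mul, map_sub, map_one, map_mul, expand_C, expand_X] at this

theorem ps_ex_geo (hx : 0 ≤ x) {q : ℝ} (hq : 0 ≤ q) (i : ℕ) (h : q * x ^ (i + 1) < 1) :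
    ps x n (ex i (geo q)) ≤ (1 - q * x ^ (i + 1))⁻¹ := by
  have h1 : ex i (geo q) = 1 + C q * X ^ (i + 1) * ex i (geo q) := by
    linear_combination ex_geo_eq q i
  have h2 := ps_mul_le' (n := n) hx ((nn_C hq).mul (nn_X.pow (i + 1))) ((nn_geo hq).ex i)
    (ps_monomial hx hq (i + 1)) le_rfl
  have h3 := congrArg (ps x n) h1
  rw [ps_add, ps_one] at h3
  rw [← one_div, le_div_iff₀ (by linarith)]
  linarith

theorem PP_expand (e : ℕ) (he : e ≠ 0) (S : ℕ → ℝ⟦X⟧) (N : ℕ) :
    PP (fun i => expand e he (S i)) N = expand e he (PP S N) := by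
  rw [PP, PP, map_prod]
  exact prod_congr rfl fun i _ => by
    rw [← expand_mul, ← expand_mul]
    simp only [mul_comm]

theorem PP_dvd (e : ℕ) (he : e ≠ 0) (S : ℝ⟦X⟧) (N : ℕ) :
    PP (fun i => if e ∣ i + 1 then S else 1) N = expand e he (PP (fun _ => S) (N / e)) := by
  induction N with
  | zero => simp [PP]
  | succ N ih =>
    rw [PP_succ, ih, Nat.succ_div]
    split_ifs with h
    · have h1 : N + 1 = e * (N / e + 1) := by
        have := Nat.succ_div_of_dvd h
        rw [← this, Nat.mul_div_cancel' h]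
      rw [PP_succ, map_mul, ← expand_mul]
      simp only [← h1]
    · rw [map_one, mul_one, add_zero]

/-! ### the general linear group -/

/-- generating function of the monic polynomials with non-zero constant term -/
noncomputable def SG (q : ℝ) : ℝ⟦X⟧ := (1 - X) * geo q

theorem coeff_SG_zero (q : ℝ) : coeff 0 (SG q) = 1 := by simp [SG, geo]

theorem coeff_SG_succ (q : ℝ) (m : ℕ) : coeff (m + 1) (SG q) = (q - 1) * q ^ m := by
  rw [SG, sub_mul, one_mul, map_sub, coeff_succ_X_mul, coeff_geo, coeff_geo]; ring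

theorem nn_SG {q : ℝ} (hq : 1 ≤ q) : NN (SG q) := fun m => by
  rcases m with _ | m
  · rw [coeff_SG_zero]; exact zero_le_one
  · rw [coeff_SG_succ]; exact mul_nonneg (by linarith) (pow_nonneg (by linarith) _)

theorem ex_SG (q : ℝ) (i : ℕ) : ex i (SG q) = (1 - X ^ (i + 1)) * ex i (geo q) := by
  rw [SG, map_mul, map_sub, map_one, expand_X]

theorem nn_PP_SG_aux {q : ℝ} (hq : 1 ≤ q) (K : ℕ) :
    NN (geo q - (X + X ^ 2) * ex 1 (geo q) -
      SG q * ∏ i ∈ range (K + 1), ex (i + 1) (SG q) - C (q - 1) * X ^ (K + 3) *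
        (∏ i ∈ range K, ex (i + 1) (SG q)) * ex (K + 1) (geo q) * geo q) := by
  have hg := geo_eq q
  have h0 : (0 : ℝ) ≤ q := by linarith
  induction K with
  | zero =>
    have h1 := ex_geo_eq q 1
    convert nn_zero using 1
    rw [prod_range_one, prod_range_zero, ex_SG, SG, map_sub, map_one]
    linear_combination (-geo q) * h1 + (X + X ^ 2) * ex 1 (geo q) * hg
  | succ K ih =>
    have hb := ex_geo_eq q (K + 2)
    convert ih.add ((((nn_C (sub_nonneg.2 hq)).mul (nn_X.pow (2 * K + 5))).mul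
      (nn_prod (s := range K) fun i _ => (nn_SG hq).ex (i + 1))).mul
      (((nn_geo h0).ex (K + 1)).mul ((nn_geo h0).ex (K + 2)))) using 1
    rw [prod_range_succ _ (K + 1), prod_range_succ _ K, ex_SG, ex_SG, SG, map_sub, map_one]
    generalize (∏ i ∈ range K, ex (i + 1) ((1 - X) * geo q)) = P
    generalize ex (K + 1) (geo q) = a
    generalize ex (K + 2) (geo q) = b at hb ⊢
    linear_combination (-(P * a * ((1 - X) * geo q * (1 - X ^ (K + 2)) +
      (C q - 1) * X ^ (K + 3) * geo q))) * hb + (P * a * (C q - 1) * X ^ (2 * K + 5) * b) * hg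

theorem coeff_PP_le_succ {S : ℕ → ℝ⟦X⟧} (h : ∀ i, NN (S i)) (h0 : ∀ i, coeff 0 (S i) = 1)
    (K n : ℕ) : coeff n (PP S K) ≤ coeff n (PP S (K + 1)) := by
  refine NN.coeff_le ?_ n
  rw [PP_succ, ← mul_sub_one]
  refine (nn_PP h K).mul fun m => ?_
  rw [map_sub, coeff_one]
  split_ifs with hm
  · rw [hm, coeff_expand, if_pos (dvd_zero _), Nat.zero_div, h0, sub_self]
  · rw [sub_zero]; exact (h K).ex K m

/-- the bound for the class number of the general linear group -/
theorem coeff_PP_SG_le {q : ℝ} (hq : 1 ≤ q) (K n : ℕ) :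
    coeff (n + 1) (PP (fun _ => SG q) K) ≤ q ^ (n + 1) - q ^ (n / 2) := by
  have h0 : (0 : ℝ) ≤ q := by linarith
  have h1 := fun K => coeff_PP_le_succ (fun _ => nn_SG hq) (fun _ => coeff_SG_zero q) K (n + 1)
  refine (h1 K).trans ((h1 (K + 1)).trans ?_)
  have h2 := (nn_PP_SG_aux hq K).add (((((nn_C (sub_nonneg.2 hq)).mul (nn_X.pow (K + 3))).mul
      (nn_prod (s := range K) fun i _ => (nn_SG hq).ex (i + 1))).mul
      ((nn_geo h0).ex (K + 1))).mul (nn_geo h0))
  rw [sub_add_cancel, ← PP_succ' (fun _ => SG q)] at h2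
  refine (h2.coeff_le _).trans_eq ?_
  rw [map_sub, coeff_geo, add_mul, map_add, coeff_succ_X_mul, pow_two, mul_assoc, coeff_succ_X_mul]
  congr 1
  rcases n with _ | n
  · simp [geo]
  · rw [coeff_succ_X_mul, coeff_expand, coeff_expand, coeff_geo, coeff_geo]
    by_cases h : 2 ∣ n
    · rw [if_pos h, if_neg (by omega), zero_add]; congr 1; omega
    · rw [if_neg h, if_pos (by omega), add_zero]

end Cfsg.Agent.H29
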