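import Cfsg.Agent.H29.ClsSL

/-! Self-reciprocal polynomials (with respect to an involution of the field). -/

set_option autoImplicit false

namespace Cfsg.Agent.H29

open Polynomial Module Finset H67

variable {F : Type*} [Field F] {V : Type*} [AddCommGroup V] [Module F V]

theorem aeval_reflect {R : Type*} [Ring R] [Algebra F R] {a b : R} (h : a * b = 1) {g : F[X]}
    {N : ℕ} (hN : g.natDegree ≤ N) : aeval a (reflect N g) = a ^ N * aeval b g := by
  rw [aeval_eq_sum_range' (Nat.lt_succ_of_le hN), aeval_eq_sum_range'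
    (Nat.lt_succ_of_le (natDegree_reflect_le.trans (max_le le_rfl hN))), mul_sum,
    ← sum_flip]
  refine sum_congr rfl fun k hk => ?_
  have hk := Nat.le_of_lt_succ (mem_range.1 hk)
  rw [coeff_reflect, revAt_le (Nat.sub_le _ _), Nat.sub_sub_self hk, mul_smul_comm]
  congr 1
  conv_rhs => rw [← Nat.sub_add_cancel hk, pow_add, mul_assoc, pow_mul_pow_eq_one k h, mul_one]

theorem ker_aeval_mirror {T S : End F V} (h : T * S = 1) (h' : S * T = 1) (g : F[X]) :
    LinearMap.ker (aeval T g.mirror) = LinearMap.ker (aeval S g) := by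
  have hT : IsUnit T := ⟨⟨T, S, h, h'⟩, rfl⟩
  rw [mirror, mul_comm, map_mul, reverse, aeval_reflect h le_rfl, ← mul_assoc,
    Module.End.mul_eq_comp, LinearMap.ker_comp_of_ker_eq_bot _ (LinearMap.ker_eq_bot.2
      ((Module.End.isUnit_iff _).1 (by simpa using (hT.pow _).mul (hT.pow _))).1)]

/-- monic polynomials that are self-reciprocal with respect to `σ` -/
def RA (σ : F →+* F) : Set F[X] := {f | f.Monic ∧ C (f.coeff 0) * (f.map σ).reverse = f}

variable {σ : F →+* F}

theorem mem_RA {f : F[X]} : f ∈ RA σ ↔ f.Monic ∧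
    ∀ k ≤ f.natDegree, f.coeff k = f.coeff 0 * σ (f.coeff (f.natDegree - k)) := by
  refine and_congr_right fun _ => ⟨fun h k hk => ?_, fun h => Polynomial.ext fun k => ?_⟩
  · conv_lhs => rw [← h]
    rw [coeff_C_mul, coeff_reverse, natDegree_map, revAt_le hk, coeff_map]
  · rw [coeff_C_mul, coeff_reverse, natDegree_map, coeff_map]
    rcases le_or_gt k f.natDegree with hk | hk
    · rw [revAt_le hk, ← h k hk]
    · rw [revAt_eq_self_of_lt hk, coeff_eq_zero_of_natDegree_lt hk, map_zero, mul_zero]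

theorem RA_norm {f : F[X]} (h : f ∈ RA σ) : f.coeff 0 * σ (f.coeff 0) = 1 := by
  have := (mem_RA.1 h).2 _ le_rfl
  rw [Nat.sub_self, coeff_natDegree, h.1] at this
  exact this.symm

theorem RA_ne_zero {f : F[X]} (h : f ∈ RA σ) : f.coeff 0 ≠ 0 :=
  left_ne_zero_of_mul_eq_one (RA_norm h)

theorem RA_mul {f g : F[X]} (hf : f ∈ RA σ) (hg : g ∈ RA σ) : f * g ∈ RA σ :=
  ⟨hf.1.mul hg.1, by
    rw [mul_coeff_zero, Polynomial.map_mul, reverse_mul_of_domain, C_mul, mul_mul_mul_comm, hf.2,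
      hg.2]⟩

theorem RA_of_mul {f g : F[X]} (hf : f ∈ RA σ) (hg : f * g ∈ RA σ) : g ∈ RA σ :=
  ⟨hf.1.of_mul_monic_left hg.1, mul_left_cancel₀ hf.1.ne_zero (by
    have := hg.2
    rwa [mul_coeff_zero, Polynomial.map_mul, reverse_mul_of_domain, C_mul, mul_mul_mul_comm, hf.2]
      at this)⟩

theorem RA_one : (1 : F[X]) ∈ RA σ := ⟨monic_one, by
  rw [Polynomial.map_one, coeff_one_zero, C_1, one_mul]; exact reverse_C 1⟩

theorem RA_pow {f : F[X]} (hf : f ∈ RA σ) (k : ℕ) : f ^ k ∈ RA σ := by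
  induction k with
  | zero => rw [pow_zero]; exact RA_one
  | succ k ih => rw [pow_succ]; exact RA_mul ih hf

theorem RA_X_add {c : F} (h : c * σ c = 1) : X + C c ∈ RA σ :=
  mem_RA.2 ⟨monic_X_add_C c, fun k hk => by
    rw [natDegree_X_add_C] at hk ⊢
    interval_cases k <;> simp [h]⟩

theorem finite_RA [Finite F] (m : ℕ) : {f ∈ RA σ | f.natDegree = m}.Finite :=
  (finite_monic m).subset fun _ h => ⟨h.1.1, h.2⟩

theorem Dec.lv_mem_RA [FiniteDimensional F V] {T S : End F V} (D : Dec T) (h : T * S = 1)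
    (hσ : ∀ x, σ (σ x) = x) (hk : ∀ g : F[X], finrank F (LinearMap.ker (aeval S (g.map σ))) =
      finrank F (LinearMap.ker (aeval T g))) (i : ℕ) : D.lv i ∈ RA σ := by
  have hm : ∀ g : F[X], (g.map σ).map σ = g := fun g => Polynomial.ext fun k => by simp [hσ]
  have h0 := D.coeff_zero_ne (left_ne_zero_of_mul_eq_one
    (by rw [← map_mul, h, map_one] : LinearMap.det T * LinearMap.det S = 1)) i
  obtain ⟨u, hu⟩ := D.associated_lv
    { toFun := fun g => (g.map σ).mirror
      invFun := fun g => g.mirror.map σ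
      left_inv := fun g => by simp only [mirror_mirror, hm]
      right_inv := fun g => by simp only [mirror_mirror, hm]
      map_mul' := fun f g => by rw [Polynomial.map_mul, mirror_mul_of_domain] }
    (fun P => (mirror_natDegree _).trans (natDegree_map σ))
    (fun g => by rw [← hk g, ← ker_aeval_mirror h (mul_eq_one_comm.1 h)]; rfl) i
  obtain ⟨c, -, hc⟩ := isUnit_iff.1 u.isUnit
  have h1 : ((D.lv i).map σ).natTrailingDegree = 0 :=
    natTrailingDegree_eq_zero.2 (.inr (by simpa using h0))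
  simp only [MulEquiv.coe_mk, Equiv.coe_fn_mk, mirror, h1, pow_zero, mul_one, ← hc] at hu
  have h2 := congrArg (coeff · 0) hu
  simp only [coeff_mul_C, coeff_zero_reverse, ((D.lv_monic i).map σ).leadingCoeff, one_mul] at h2
  exact ⟨D.lv_monic i, by rw [← h2, mul_comm, hu]⟩

/-- the middle coefficients -/
theorem card_RA {c : F} (hc : c * σ c = 1) (m : ℕ) :
    {f ∈ RA σ | f.natDegree = m + 1 ∧ f.coeff 0 = c}.ncard =
      Nat.card {v : Fin m → F // ∀ i, v i = c * σ (v i.rev)} := by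
  classical
  refine Nat.card_congr (Equiv.ofBijective (fun f => ⟨fun i => f.1.coeff (i + 1), fun i => ?_⟩)
    ⟨fun f g e => Subtype.ext (Polynomial.ext fun k => ?_), fun v => ?_⟩)
  · beta_reduce
    rw [(mem_RA.1 f.2.1).2 (i + 1) (by rw [f.2.2.1]; omega), f.2.2.1, f.2.2.2, Fin.val_rev]
    congr 3; omega
  · rcases k with _ | k
    · rw [f.2.2.2, g.2.2.2]
    rcases lt_trichotomy k m with h | rfl | h
    · exact congrFun (congrArg Subtype.val e) ⟨k, h⟩
    · exact (f.2.2.1 ▸ f.2.1.1.coeff_natDegree).trans (g.2.2.1 ▸ g.2.1.1.coeff_natDegree).symm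
    · rw [coeff_eq_zero_of_natDegree_lt (by rw [f.2.2.1]; omega),
        coeff_eq_zero_of_natDegree_lt (by rw [g.2.2.1]; omega)]
  · let f : F[X] := X * (X ^ m + ofFn m v.1) + C c
    have h0 : f.coeff 0 = c := by simp [f]
    have h1 : ∀ k, f.coeff (k + 1) = (if k = m then 1 else 0) + (ofFn m v.1).coeff k := fun k => by
      simp [f, coeff_X_pow, coeff_C]
    have h2 : ∀ i : Fin m, f.coeff (i + 1) = v.1 i := fun i => by
      rw [h1, if_neg i.2.ne, zero_add, ofFn_coeff_eq_val_of_lt _ i.2]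
    have h3 : f.coeff (m + 1) = 1 := by rw [h1, if_pos rfl, ofFn_coeff_eq_zero_of_ge _ le_rfl, add_zero]
    have h4 : f.natDegree = m + 1 := natDegree_eq_of_le_of_coeff_ne_zero
      (natDegree_le_iff_coeff_eq_zero.2 fun N hN => by
        obtain ⟨k, rfl⟩ := Nat.exists_eq_succ_of_ne_zero (show N ≠ 0 by omega)
        rw [h1, if_neg (by omega), ofFn_coeff_eq_zero_of_ge _ (by omega), add_zero])
      (h3 ▸ one_ne_zero)
    refine ⟨⟨f, mem_RA.2 ⟨by rw [Monic, leadingCoeff, h4, h3], fun k hk => ?_⟩, h4, h0⟩,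
      Subtype.ext (funext h2)⟩
    rw [h4] at hk ⊢
    rcases k with _ | k
    · rw [Nat.sub_zero, h3, map_one, mul_one]
    rcases (Nat.le_of_succ_le_succ hk).eq_or_lt with rfl | h
    · rw [Nat.sub_self, h3, h0, hc]
    · rw [h2 ⟨k, h⟩, h0, v.2, ← h2, Fin.val_rev]
      congr 3; simp only; omega

/-- fixed points of a semilinear involution -/
theorem card_fixed_sq [Finite V] (θ : V →+ V) (h1 : ∀ v, θ (θ v) = v)
    (h2 : ∀ (c : F) v, θ (c • v) = σ c • θ v) (hσ : ∀ x, σ (σ x) = x) {l : F} (hl : σ l ≠ l) :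
    Nat.card {v // θ v = v} ^ 2 = Nat.card V := by
  have h0 : l - σ l ≠ 0 := sub_ne_zero.2 hl.symm
  rw [sq, ← Nat.card_prod]
  refine Nat.card_congr (Equiv.ofBijective (fun p => p.1.1 + l • p.2.1) ⟨fun p p' e => ?_, fun w => ?_⟩)
  · have e' := congrArg θ e
    simp only [map_add, h2, p.1.2, p.2.2, p'.1.2, p'.2.2] at e e'
    have h3 : p.2.1 = p'.2.1 := smul_right_injective V h0 (by
      simp only [sub_smul]; linear_combination (norm := abel) e - e')
    rw [h3, add_left_inj] at e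
    exact Prod.ext (Subtype.ext e) (Subtype.ext h3)
  · have h3 : θ ((l - σ l)⁻¹ • (w - θ w)) = (l - σ l)⁻¹ • (w - θ w) := by
      rw [h2, map_sub, h1, map_inv₀, map_sub, hσ, ← neg_sub l, ← neg_sub w, inv_neg, neg_smul_neg]
    refine ⟨(⟨w - l • ((l - σ l)⁻¹ • (w - θ w)), ?_⟩, ⟨_, h3⟩), sub_add_cancel _ _⟩
    have h4 := smul_inv_smul₀ h0 (w - θ w)
    rw [sub_smul] at h4
    rw [map_sub, h2, h3]
    linear_combination (norm := abel) h4

variable {ι : Type*} [Fintype ι] [DecidableEq ι]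

theorem charpoly_inv_of_RA {B : Matrix ι ι F} {f : F[X]} (hf : f ∈ RA σ)
    (hB : B.charpoly = f.map σ) : IsUnit B ∧ B⁻¹.charpoly = f := by
  have h1 := RA_norm hf
  have h2 : B.det * ((-1) ^ Fintype.card ι * f.coeff 0) = 1 := by
    rw [Matrix.det_eq_sign_charpoly_coeff, hB, coeff_map, mul_mul_mul_comm, ← mul_pow, mul_comm (σ _),
      h1]; simp
  have h3 : IsUnit B := (Matrix.isUnit_iff_isUnit_det _).2 (.of_mul_eq_one _ h2)
  refine ⟨h3, ?_⟩
  rw [Matrix.charpoly_inv B h3, ← Matrix.reverse_charpoly, hB, Ring.inverse_eq_inv,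
    ← eq_inv_of_mul_eq_one_right h2, C_mul, ← mul_assoc, C_pow, ← mul_pow]
  simpa using hf.2

end Cfsg.Agent.H29
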