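import Cfsg.Agent.H67.Regular
import Cfsg.Agent.H66.Semisimple

/-! The type of an endomorphism: for every `i` the product `lv i` of the irreducible polynomials
`p` with elementary divisor `p ^ (i + 1)`. -/

set_option autoImplicit false

namespace Cfsg.Agent.H29

open Polynomial Module Finset H67

variable {F : Type*} [Field F] {V W : Type*} [AddCommGroup V] [Module F V] [AddCommGroup W]
  [Module F W]

/-- a primary cyclic decomposition -/
structure Dec (T : End F V) where
  t : ℕ
  p : Fin t → F[X]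
  e : Fin t → ℕ
  irr : ∀ k, Irreducible (p k)
  mon : ∀ k, (p k).Monic
  pos : ∀ k, 0 < e k
  sim : Sim T (modT fun k => p k ^ e k)

/-- a chosen decomposition -/
noncomputable def dec [FiniteDimensional F V] (T : End F V) : Dec T :=
  Classical.choice (by
    obtain ⟨t, p, e, h1, h2, h3, h4⟩ := exists_sim_modT T
    exact ⟨⟨t, p, e, h1, h2, h3, h4⟩⟩)

theorem multiset_eq_of_prod {s t : Multiset F[X]} (hs : ∀ p ∈ s, Irreducible p ∧ p.Monic)
    (ht : ∀ p ∈ t, Irreducible p ∧ p.Monic) (h : s.prod = t.prod) : s = t := by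
  classical
  have k : ∀ s : Multiset F[X], (∀ p ∈ s, Irreducible p ∧ p.Monic) →
      UniqueFactorizationMonoid.normalizedFactors s.prod = s := fun s hs => by
    rw [UniqueFactorizationMonoid.normalizedFactors_prod_eq s fun p hp => (hs p hp).1]
    exact (Multiset.map_congr rfl fun p hp => (hs p hp).2.normalize_eq_self).trans (Multiset.map_id s)
  rw [← k s hs, h, k t ht]

theorem ker_aeval_of_associated (T : End F V) {f g : F[X]} (h : Associated f g) :
    LinearMap.ker (aeval T f) = LinearMap.ker (aeval T g) := by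
  obtain ⟨u, rfl⟩ := h
  rw [mul_comm, map_mul, Module.End.mul_eq_comp, LinearMap.ker_comp_of_ker_eq_bot _
    (LinearMap.ker_eq_bot.2 ((Module.End.isUnit_iff _).1 (u.isUnit.map (aeval T))).1)]

/-- the determinant of a companion matrix -/
def nu (f : F[X]) : F := (-1) ^ f.natDegree * f.coeff 0

namespace Dec

variable {T : End F V} {S : End F W} (D : Dec T)

/-- the irreducible polynomials of level `i + 1` -/
def ms (i : ℕ) : Multiset F[X] := (univ.filter fun k => D.e k = i + 1).val.map D.p

/-- their product -/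
noncomputable def lv (i : ℕ) : F[X] := (D.ms i).prod

theorem lv_eq (i : ℕ) : D.lv i = ∏ k with D.e k = i + 1, D.p k := rfl

theorem lv_monic (i : ℕ) : (D.lv i).Monic := monic_prod_of_monic _ _ fun k _ => D.mon k

theorem mem_ms {i : ℕ} {P : F[X]} : P ∈ D.ms i ↔ ∃ k, D.e k = i + 1 ∧ D.p k = P := by
  simp [ms]

theorem ms_irr (i : ℕ) : ∀ P ∈ D.ms i, Irreducible P ∧ P.Monic := fun P hP => by
  obtain ⟨k, -, rfl⟩ := D.mem_ms.1 hP
  exact ⟨D.irr k, D.mon k⟩

theorem count_ms (i : ℕ) (P : F[X]) [DecidableEq F[X]] :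
    (D.ms i).count P = (univ.filter fun k => D.p k = P ∧ D.e k = i + 1).card := by
  rw [ms, Multiset.count_map, ← filter_val, filter_filter]
  exact congrArg card (filter_congr fun k _ => by rw [and_comm, eq_comm])

theorem finrank_eq : finrank F V = ∑ k, D.e k * (D.p k).natDegree := by
  rw [D.sim.finrank_eq, finrank_model fun k => pow_ne_zero _ (D.irr k).ne_zero]
  exact sum_congr rfl fun k _ => natDegree_pow _ _

theorem e_le (k : Fin D.t) : D.e k ≤ finrank F V := by
  rw [D.finrank_eq]
  exact (Nat.le_mul_of_pos_right _ (D.irr k).natDegree_pos).trans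
    (single_le_sum (f := fun k => D.e k * (D.p k).natDegree) (fun _ _ => Nat.zero_le _) (mem_univ k))

theorem prod_fiber {M : Type*} [CommMonoid M] {N : ℕ} (hN : finrank F V ≤ N) (g : Fin D.t → M) :
    ∏ k, g k ^ D.e k = ∏ i ∈ range N, (∏ k with D.e k = i + 1, g k) ^ (i + 1) := by
  rw [← prod_fiberwise_of_maps_to (t := range N) (g := fun k => D.e k - 1) fun k _ =>
    mem_range.2 (by have := D.e_le k; have := D.pos k; omega)]
  refine prod_congr rfl fun i _ => ?_
  rw [← prod_pow]
  refine prod_congr (filter_congr fun k _ => by have := D.pos k; omega) fun k hk => ?_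
  rw [(mem_filter.1 hk).2]

theorem natDegree_lv (i : ℕ) :
    (D.lv i).natDegree = ∑ k with D.e k = i + 1, (D.p k).natDegree :=
  natDegree_prod_of_monic _ _ fun k _ => D.mon k

theorem sum_lv {N : ℕ} (hN : finrank F V ≤ N) :
    ∑ i ∈ range N, (i + 1) * (D.lv i).natDegree = finrank F V := by
  have := D.prod_fiber hN fun k => Multiplicative.ofAdd (D.p k).natDegree
  simp only [← ofAdd_nsmul, ← ofAdd_sum, smul_eq_mul, EmbeddingLike.apply_eq_iff_eq] at this
  simp only [natDegree_lv, D.finrank_eq, this]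

theorem lv_eq_one {i : ℕ} (h : finrank F V ≤ i) : D.lv i = 1 := by
  rw [lv_eq, filter_eq_empty_iff.2 fun k _ => by have := D.e_le k; omega, prod_empty]

theorem exists_of_lv {i : ℕ} (h : (D.lv i).natDegree ≠ 0) : ∃ k, D.e k = i + 1 := by
  by_contra hc
  rw [lv_eq, filter_eq_empty_iff.2 fun k _ e => hc ⟨k, e⟩, prod_empty, natDegree_one] at h
  exact h rfl

theorem charpoly_eq [FiniteDimensional F V] {N : ℕ} (hN : finrank F V ≤ N) :
    T.charpoly = ∏ i ∈ range N, D.lv i ^ (i + 1) := by
  obtain ⟨E, hE⟩ := D.sim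
  rw [H66.IsCycModel.charpoly (fun k => (D.mon k).pow _) (E := E) hE, D.prod_fiber hN]
  rfl

theorem det_eq [FiniteDimensional F V] {N : ℕ} (hN : finrank F V ≤ N) :
    LinearMap.det T = ∏ i ∈ range N, nu (D.lv i) ^ (i + 1) := by
  rw [LinearMap.det_eq_sign_charpoly_coeff, D.charpoly_eq hN, ← D.sum_lv hN, ← constantCoeff_apply,
    map_prod, ← prod_pow_eq_pow_sum, ← prod_mul_distrib]
  exact prod_congr rfl fun i _ => by rw [nu, mul_pow, map_pow, mul_comm (i + 1), pow_mul]; rfl

theorem coeff_zero_ne [FiniteDimensional F V] (h : LinearMap.det T ≠ 0) (i : ℕ) :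
    (D.lv i).coeff 0 ≠ 0 := fun h0 => by
  rw [D.det_eq (N := finrank F V + i + 1) (by omega)] at h
  exact h (prod_eq_zero (mem_range.2 (by omega : i < _)) (by rw [nu, h0, mul_zero, zero_pow i.succ_ne_zero]))

theorem sim_of_lv (D' : Dec S) (h : ∀ i, D.lv i = D'.lv i) : Sim T S := by
  classical
  obtain ⟨σ, hσ⟩ := exists_equiv_of_card_fiber_eq (fun k => (D.p k, D.e k))
    (fun k => (D'.p k, D'.e k)) (by
      rintro ⟨P, _ | i⟩
      · rw [filter_eq_empty_iff.2 fun k _ e => (D.pos k).ne' (congrArg Prod.snd e),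
          filter_eq_empty_iff.2 fun k _ e => (D'.pos k).ne' (congrArg Prod.snd e)]
        rfl
      · simp only [Prod.mk.injEq]
        rw [← D.count_ms, ← D'.count_ms, multiset_eq_of_prod (D.ms_irr i) (D'.ms_irr i) (h i)])
  refine D.sim.trans ((sim_modT_of_equiv _ _ σ fun k => ?_).trans D'.sim.symm)
  have := hσ k
  simp only [Prod.mk.injEq] at this
  rw [this.1, this.2]

theorem sim_of_lv_lt (D' : Dec S) {N : ℕ} (h1 : finrank F V ≤ N) (h2 : finrank F W ≤ N)
    (h : ∀ i < N, D.lv i = D'.lv i) : Sim T S :=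
  D.sim_of_lv D' fun i => (lt_or_ge i N).elim (h i) fun hi => by
    rw [D.lv_eq_one (h1.trans hi), D'.lv_eq_one (h2.trans hi)]

theorem count_eq {P Q : F[X]} (hP : Irreducible P) (hP' : P.Monic) (hQ : Irreducible Q)
    (hQ' : Q.Monic) (hd : Q.natDegree = P.natDegree) (h : ∀ l,
      finrank F (LinearMap.ker (aeval T (Q ^ l))) = finrank F (LinearMap.ker (aeval T (P ^ l))))
    (i : ℕ) [DecidableEq F[X]] : (D.ms i).count Q = (D.ms i).count P := by
  rw [count_ms, count_ms]
  refine card_filter_eq_of_sum_min _ _ D.e D.e (fun l => ?_) _ i.succ_pos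
  have h5 := h l
  rw [(D.sim.aeval _).finrank_ker, (D.sim.aeval _).finrank_ker,
    finrank_ker_aeval_modT_pow D.e D.irr D.mon hQ hQ',
    finrank_ker_aeval_modT_pow D.e D.irr D.mon hP hP', hd] at h5
  convert Nat.eq_of_mul_eq_mul_right hP.natDegree_pos h5

/-- the level polynomials are invariant under a symmetry of the kernel dimensions -/
theorem associated_lv (τ : F[X] ≃* F[X]) (hd : ∀ P, (τ P).natDegree = P.natDegree)
    (h : ∀ g, finrank F (LinearMap.ker (aeval T (τ g))) = finrank F (LinearMap.ker (aeval T g)))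
    (i : ℕ) : Associated (τ (D.lv i)) (D.lv i) := by
  classical
  obtain ⟨ρ, hρ⟩ : ∃ ρ : F[X] → F[X], ∀ P, Irreducible P → Associated (τ P) (ρ P) ∧ (ρ P).Monic :=
    ⟨fun P => normalize (τ P), fun P hP =>
      ⟨associated_normalize _, monic_normalize (hP.map τ).ne_zero⟩⟩
  have hc : ∀ P ∈ D.ms i, (D.ms i).count (ρ P) = (D.ms i).count P := fun P hP => by
    obtain ⟨h1, h2⟩ := D.ms_irr i P hP
    obtain ⟨h3, h4⟩ := hρ P h1
    refine D.count_eq h1 h2 (h3.irreducible (h1.map τ)) h4
      ((natDegree_eq_of_degree_eq (degree_eq_degree_of_associated h3)).symm.trans (hd P))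
      (fun l => ?_) i
    rw [← h (P ^ l), map_pow τ, ker_aeval_of_associated T h3.pow_pow]
  have hinj : Set.InjOn ρ {P | P ∈ D.ms i} := fun P hP Q hQ e => by
    obtain ⟨h1, h2⟩ := D.ms_irr i P hP
    obtain ⟨h3, h4⟩ := D.ms_irr i Q hQ
    have := ((hρ P h1).1.trans (e ▸ (hρ Q h3).1.symm)).map τ.symm
    rw [τ.symm_apply_apply, τ.symm_apply_apply] at this
    exact eq_of_monic_of_associated h2 h4 this
  have h1 : (D.ms i).map ρ = D.ms i := by
    refine Multiset.eq_of_le_of_card_le (Multiset.le_iff_count.2 fun Q => ?_)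
      (Multiset.card_map _ _).ge
    by_cases hQ : Q ∈ (D.ms i).map ρ
    · obtain ⟨P, hP, rfl⟩ := Multiset.mem_map.1 hQ
      rw [Multiset.count_map_eq_count _ _ hinj _ hP, hc P hP]
    · rw [Multiset.count_eq_zero.2 hQ]; exact Nat.zero_le _
  have h2 : ∀ s : Multiset F[X], (∀ P ∈ s, Irreducible P) →
      Associated (τ s.prod) (s.map ρ).prod := fun s => by
    induction s using Multiset.induction_on with
    | empty => intro _; rw [Multiset.map_zero, Multiset.prod_zero, map_one]
    | cons a s ih =>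
      intro hs
      rw [Multiset.map_cons, Multiset.prod_cons, Multiset.prod_cons, map_mul]
      exact (hρ a (hs a (Multiset.mem_cons_self _ _))).1.mul_mul
        (ih fun P hP => hs P (Multiset.mem_cons_of_mem hP))
  have := h2 _ fun P hP => (D.ms_irr i P hP).1
  rwa [h1] at this

end Dec

/-! ### determinants in the centraliser -/

variable {ι κ : Type*} [Fintype ι] [DecidableEq ι] [Fintype κ] [DecidableEq κ]

theorem det_aeval_of_charpoly_pow {A : Matrix ι ι F} {B : Matrix κ κ F} {e : ℕ}
    (h : A.charpoly = B.charpoly ^ e) (r : F[X]) : (aeval A r).det = (aeval B r).det ^ e := by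
  let φ := algebraMap F (AlgebraicClosure F)
  have hn : Fintype.card ι = e * Fintype.card κ := by
    rw [← Matrix.charpoly_natDegree_eq_dim A, h, natDegree_pow, Matrix.charpoly_natDegree_eq_dim]
  have h' : (A.map φ).charpoly = (B.map φ).charpoly ^ e := by
    rw [Matrix.charpoly_map, Matrix.charpoly_map, h, Polynomial.map_pow]
  have k : ∀ s : (AlgebraicClosure F)[X],
      (aeval (A.map φ) s).det = (aeval (B.map φ) s).det ^ e := fun s => by
    induction IsAlgClosed.splits s using Submonoid.closure_induction with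
    | one => simp
    | mul a b _ _ h1 h2 => rw [map_mul, map_mul, Matrix.det_mul, Matrix.det_mul, h1, h2, mul_pow]
    | mem s hs =>
      rcases hs with ⟨a, rfl⟩ | ⟨a, rfl⟩
      · simp only [aeval_C, Algebra.algebraMap_eq_smul_one, Matrix.det_smul, Matrix.det_one,
          mul_one, hn, ← pow_mul, mul_comm]
      · have k : ∀ {m : Type _} [Fintype m] [DecidableEq m] (M : Matrix m m (AlgebraicClosure F)),
            (aeval M (X + C a)).det = (-1) ^ Fintype.card m * M.charpoly.eval (-a) := fun M => by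
          rw [Matrix.eval_charpoly, ← Matrix.det_neg, map_add, aeval_X, aeval_C, map_neg]
          congr 1
          rw [neg_sub, sub_neg_eq_add]; rfl
        have k' : ∀ {m : Type _} [Fintype m] [DecidableEq m] (M : Matrix m m (AlgebraicClosure F)),
            (aeval M (X + C a)).det = (-1) ^ Fintype.card m * M.charpoly.eval (-a) := fun M => by
          rw [Matrix.eval_charpoly, ← Matrix.det_neg, map_add, aeval_X, aeval_C, map_neg]
          congr 1
          rw [neg_sub, sub_neg_eq_add]; rfl
        rw [k, k', h', eval_pow, mul_pow, hn, ← pow_mul, mul_comm e]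
  apply φ.injective
  rw [map_pow, RingHom.map_det, RingHom.map_det,
    map_aeval_eq_aeval_map (φ := φ) (by ext; simp [Matrix.algebraMap_matrix_apply, apply_ite φ]),
    map_aeval_eq_aeval_map (φ := φ) (by ext; simp [Matrix.algebraMap_matrix_apply, apply_ite φ])]
  exact k _

theorem det_aeval_of_charpoly_pow' [FiniteDimensional F V] [FiniteDimensional F W] {T : End F V}
    {S : End F W} {e : ℕ} (h : T.charpoly = S.charpoly ^ e) (r : F[X]) :
    LinearMap.det (aeval T r) = LinearMap.det (aeval S r) ^ e := by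
  classical
  let b := finBasis F V
  let c := finBasis F W
  rw [← LinearMap.charpoly_toMatrix T b, ← LinearMap.charpoly_toMatrix S c] at h
  have := det_aeval_of_charpoly_pow h r
  rw [← LinearMap.det_toMatrix b, ← LinearMap.det_toMatrix c]
  exact (congrArg Matrix.det (aeval_algHom_apply (LinearMap.toMatrixAlgEquiv b) T r).symm).trans
    (this.trans (congrArg (fun M => Matrix.det M ^ e)
      (aeval_algHom_apply (LinearMap.toMatrixAlgEquiv c) S r)))

theorem norm_mk_pow {P : F[X]} (hP : P.Monic) (e : ℕ) (r : F[X]) :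
    Algebra.norm F (AdjoinRoot.mk (P ^ e) r) = Algebra.norm F (AdjoinRoot.mk P r) ^ e := by
  haveI := H66.adjoinRoot_finite hP
  haveI := H66.adjoinRoot_finite (hP.pow e)
  have := det_aeval_of_charpoly_pow' (T := LinearMap.mulLeft F (AdjoinRoot.root (P ^ e)))
    (S := LinearMap.mulLeft F (AdjoinRoot.root P)) (e := e)
    (by rw [H66.charpoly_mul_root (hP.pow e), H66.charpoly_mul_root hP]) r
  rwa [aeval_mulLeft, aeval_mulLeft, AdjoinRoot.aeval_eq, AdjoinRoot.aeval_eq] at this

/-- the centraliser has all `e`-th powers as determinants for every level `e` -/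
theorem Dec.exists_comm_det [Finite F] {A : Matrix ι ι F} (D : Dec (Matrix.toLin' A))
    (k : Fin D.t) {a : F} (ha : a ≠ 0) :
    ∃ C : GL ι F, (C : Matrix ι ι F) * A = A * C ∧ (C : Matrix ι ι F).det = a ^ D.e k := by
  classical
  obtain ⟨E, hE⟩ := D.sim
  haveI := Fact.mk (D.irr k)
  haveI := H66.adjoinRoot_finite (D.mon k)
  haveI : Finite (AdjoinRoot (D.p k)) := Module.finite_of_finite F
  obtain ⟨x, hx⟩ := FiniteField.norm_surjective F (AdjoinRoot (D.p k)) a
  obtain ⟨r, rfl⟩ := AdjoinRoot.mk_surjective x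
  obtain ⟨y, hy⟩ := (isUnit_mk_pow_iff (D.irr k) (D.pos k) r).2 fun h => ha (by
    rw [← hx, AdjoinRoot.mk_eq_zero.2 h, Algebra.norm_zero])
  obtain ⟨C, hC, hd, -⟩ := H66.exists_GL_commute_of_model (fun k => (D.mon k).pow _) (E := E) hE
    (MulEquiv.piUnits.symm (Function.update 1 k y))
  refine ⟨C, hC, ?_⟩
  rw [hd, prod_eq_single k (fun i _ hi => by simp [hi]) (by simp), ← hx, ← norm_mk_pow (D.mon k),
    ← hy]
  simp

end Cfsg.Agent.H29
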