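import Cfsg.Agent.H29.ClsNum
import Cfsg.Agent.H29.ClsTy
import Cfsg.Agent.H67.UnitaryEig
import Cfsg.Agent.H9.SLBasic

/-! Bounds for the class numbers of `GL`, `SL` and `PSL`. -/

set_option autoImplicit false

namespace Cfsg.Agent.H29

open Polynomial Module Finset H67

section Grp

variable {G : Type*} [Group G]

/-- a representative of a class -/
noncomputable def rep (C : ConjClasses G) : G := Quotient.out C

theorem mk_rep (C : ConjClasses G) : ConjClasses.mk (rep C) = C := Quotient.out_eq C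

theorem rep_inj {C D : ConjClasses G} (h : IsConj (rep C) (rep D)) : C = D := by
  rw [← mk_rep C, ← mk_rep D, ConjClasses.mk_eq_mk_iff_isConj.2 h]

/-- a class invariant -/
theorem card_le_of_inv [Finite G] {β : Type*} (f : G → β) (hf : ∀ a b, IsConj a b → f a = f b)
    (S : Set β) (hS : ∀ s ∈ S, ∃ g, f g = s) : Nat.card S ≤ Nat.card (ConjClasses G) := by
  choose g hg using fun s : S => hS s s.2
  exact Nat.card_le_card_of_injective (fun s => ConjClasses.mk (g s)) fun s t e =>
    Subtype.ext (by rw [← hg, ← hg, hf _ _ (ConjClasses.mk_eq_mk_iff_isConj.1 e)])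

/-- multiplication of classes by central elements -/
@[reducible] def cenAct : MulAction (Subgroup.center G) (ConjClasses G) where
  smul z := Quotient.map (fun g => (z : G) * g) fun a b h => by
    obtain ⟨c, rfl⟩ := isConj_iff.1 h
    exact isConj_iff.2 ⟨c, by rw [← mul_assoc, Subgroup.mem_center_iff.1 z.2 c]; group⟩
  one_smul := by rintro ⟨a⟩; exact congrArg ConjClasses.mk (one_mul a)
  mul_smul := by rintro z w ⟨a⟩; exact congrArg ConjClasses.mk (mul_assoc _ _ a)

theorem card_conj_quot_center [Finite G] [Fintype (Subgroup.center G)] :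
    Nat.card (Subgroup.center G) * Nat.card (ConjClasses (G ⧸ Subgroup.center G)) =
      ∑ z : Subgroup.center G, Nat.card {C : ConjClasses G // IsConj (z * rep C) (rep C)} := by
  classical
  letI := cenAct (G := G)
  haveI := Fintype.ofFinite (Quotient (MulAction.orbitRel (Subgroup.center G) (ConjClasses G)))
  haveI := fun z : Subgroup.center G => Fintype.ofFinite (MulAction.fixedBy (ConjClasses G) z)
  have h := MulAction.sum_card_fixedBy_eq_card_orbits_mul_card_group (Subgroup.center G)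
    (ConjClasses G)
  simp only [← Nat.card_eq_fintype_card] at h
  have e : MulAction.orbitRel (Subgroup.center G) (ConjClasses G) =
      Setoid.ker (ConjClasses.map (QuotientGroup.mk' (Subgroup.center G))) := by
    ext ⟨a⟩ ⟨b⟩
    change (∃ z : Subgroup.center G, ConjClasses.mk (z * b) = ConjClasses.mk a) ↔
      ConjClasses.mk (a : G ⧸ Subgroup.center G) = ConjClasses.mk (b : G ⧸ Subgroup.center G)
    simp only [ConjClasses.mk_eq_mk_iff_isConj, isConj_iff]
    constructor
    · rintro ⟨z, c, rfl⟩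
      exact ⟨(c : G ⧸ Subgroup.center G)⁻¹, by
        simp [(QuotientGroup.eq_one_iff _).2 z.2, mul_assoc]⟩
    · rintro ⟨⟨c⟩, hc⟩
      have : (c * a * c⁻¹)⁻¹ * b ∈ Subgroup.center G := QuotientGroup.eq.1 hc
      refine ⟨⟨_, inv_mem this⟩, c⁻¹, ?_⟩
      rw [← Subgroup.mem_center_iff.1 (inv_mem this) b]
      group
  rw [mul_comm, ← Nat.card_congr (Setoid.quotientKerEquivOfSurjective _
    (ConjClasses.map_surjective (QuotientGroup.mk'_surjective _))), ← e, ← h]
  refine sum_congr rfl fun z _ => Nat.card_congr (Equiv.subtypeEquivRight fun C => ?_)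
  rw [← ConjClasses.mk_eq_mk_iff_isConj, mk_rep, MulAction.mem_fixedBy]
  exact Eq.congr_left (congrArg _ (mk_rep C).symm)

end Grp

variable {F : Type*} [Field F] {ι : Type*} [Fintype ι] [DecidableEq ι]

theorem finite_monic [Finite F] (m : ℕ) : {f : F[X] | f.Monic ∧ f.natDegree = m}.Finite :=
  Finite.of_equiv _ ((monicEquivDegreeLT m).trans (degreeLTEquiv F m).toEquiv).symm

variable (F) in
/-- the monic polynomials in `X ^ e` with non-zero constant term -/
def MA (e : ℕ) : Set F[X] := {f | f.Monic ∧ f.coeff 0 ≠ 0 ∧ f ∈ (expand F e).range}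

theorem finite_MA [Finite F] (e m : ℕ) : {f ∈ MA F e | f.natDegree = m}.Finite :=
  (finite_monic m).subset fun _ h => ⟨h.1.1, h.2⟩

theorem ncard_MA [Fintype F] {e m : ℕ} (he : e ≠ 0) (hm : m ≠ 0) (P : F → Prop) :
    {f ∈ MA F e | f.natDegree = m ∧ P (f.coeff 0)}.ncard ≤
      if e ∣ m then Nat.card {a // P a} * Fintype.card F ^ (m / e - 1) else 0 := by
  have h0 := Nat.pos_of_ne_zero he
  split_ifs with h
  · obtain ⟨k, rfl⟩ := h
    rw [Nat.mul_div_cancel_left _ h0, ← H66.card_monic_coeff_zero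
      (Nat.pos_of_ne_zero fun hk => hm (by simp [hk])) P]
    refine le_trans (Set.ncard_le_ncard (t := expand F e ''
      {f | (f.Monic ∧ f.natDegree = k) ∧ P (f.coeff 0)}) ?_
      (((finite_monic k).subset fun _ h => h.1).image _))
      (Set.ncard_image_le ((finite_monic k).subset fun _ h => h.1))
    rintro _ ⟨⟨h1, -, g, rfl⟩, h2, h3⟩
    simp only [AlgHom.toRingHom_eq_coe, RingHom.coe_coe] at h1 h2 h3
    rw [natDegree_expand, mul_comm] at h2
    rw [coeff_expand h0, if_pos (dvd_zero _), Nat.zero_div] at h3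
    exact ⟨g, ⟨⟨(monic_expand_iff h0).1 h1, Nat.eq_of_mul_eq_mul_left h0 h2⟩, h3⟩, rfl⟩
  · rw [Set.eq_empty_of_forall_notMem (s := {f ∈ MA F e | _}), Set.ncard_empty]
    rintro _ ⟨⟨-, -, g, rfl⟩, h2, -⟩
    exact h ⟨g.natDegree, by rw [← h2, mul_comm]; exact natDegree_expand e g⟩

theorem eq_one_of_monic {f : F[X]} (h : f.Monic) (h0 : f.natDegree = 0) : f = 1 :=
  h.natDegree_eq_zero.1 h0

/-- the levels of a matrix -/
noncomputable def lvl (A : Matrix ι ι F) (i : ℕ) : F[X] := (dec (Matrix.toLin' A)).lv i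

theorem sum_lvl (A : Matrix ι ι F) :
    ∑ i ∈ range (Fintype.card ι), (i + 1) * (lvl A i).natDegree = Fintype.card ι :=
  ((dec (Matrix.toLin' A)).sum_lv (by simp)).trans (by simp)

theorem lvl_coeff_zero {A : Matrix ι ι F} (h : A.det ≠ 0) (i : ℕ) : (lvl A i).coeff 0 ≠ 0 :=
  Dec.coeff_zero_ne _ (by rwa [LinearMap.det_toLin']) i

theorem isConj_of_lvl {A B : Matrix ι ι F} (h : ∀ i < Fintype.card ι, lvl A i = lvl B i) :
    IsConj A B :=
  (isConj_iff_sim A B).2 (Dec.sim_of_lv_lt _ _ (by simp) (by simp) h)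

theorem det_eq_lvl (A : Matrix ι ι F) :
    A.det = ∏ i ∈ range (Fintype.card ι), nu (lvl A i) ^ (i + 1) := by
  rw [← LinearMap.det_toLin']
  exact Dec.det_eq _ (by simp)

theorem GL_bound [Fintype F] [Nonempty ι] :
    (Nat.card (ConjClasses (GL ι F)) : ℝ) ≤ uu (Fintype.card F) (Fintype.card ι) := by
  have hq : 1 ≤ Fintype.card F := Fintype.card_pos
  refine le_trans (card_le_coeff' (Fintype.card ι) _
    (fun C : ConjClasses (GL ι F) => lvl (rep C : GL ι F).1) natDegree (fun _ => MA F 1)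
    (fun _ => SG (Fintype.card F)) (fun C i => ⟨Dec.lv_monic _ i, lvl_coeff_zero
      (Matrix.GeneralLinearGroup.det_ne_zero _) i, _, expand_one _⟩) (fun C => sum_lvl _)
    (fun _ => finite_MA 1) (fun _ m => ?_)
    fun C D h => rep_inj ((isConj_units_iff _ _).2 (isConj_of_lvl h)))
    (coeff_PP_SG_le' (Nat.one_le_cast.2 hq) _ Fintype.card_ne_zero)
  rcases m with _ | m
  · rw [coeff_SG_zero, Nat.cast_le_one]
    exact (Set.ncard_le_one (finite_MA 1 0)).2 fun a ha b hb => by
      rw [eq_one_of_monic ha.1.1 ha.2, eq_one_of_monic hb.1.1 hb.2]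
  · have := ncard_MA (F := F) one_ne_zero m.succ_ne_zero (· ≠ 0)
    rw [if_pos (one_dvd _), Nat.div_one, Nat.succ_sub_one, ← Nat.card_congr unitsEquivNeZero,
      Nat.card_units, Nat.card_eq_fintype_card] at this
    rw [coeff_SG_succ, ← Nat.cast_pred hq]
    exact_mod_cast le_trans (le_of_eq (by congr 1; ext f; exact ⟨fun h => ⟨h.1, h.2, h.1.2.1⟩,
      fun h => ⟨h.1, h.2.1⟩⟩)) this

theorem nu_ne_zero {f : F[X]} (h : f.coeff 0 ≠ 0) : nu f ≠ 0 :=
  mul_ne_zero (pow_ne_zero _ (neg_ne_zero.2 one_ne_zero)) h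

theorem ncard_nu_le [Fintype F] {e m : ℕ} (he : e ≠ 0) (c : F) :
    {f ∈ MA F e | f.natDegree = m ∧ nu f = c}.ncard ≤
      if m = 0 then 1 else if e ∣ m then Fintype.card F ^ (m / e - 1) else 0 := by
  split_ifs with hm h
  · exact (Set.ncard_le_one ((finite_MA e m).subset fun _ h => ⟨h.1, h.2.1⟩)).2 fun a ha b hb => by
      rw [eq_one_of_monic ha.1.1 (ha.2.1.trans hm), eq_one_of_monic hb.1.1 (hb.2.1.trans hm)]
  all_goals
    have := ncard_MA (F := F) he hm (· = (-1) ^ m * c)
    simp only [h, if_true, if_false, Nat.card_unique, one_mul] at this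
    refine le_trans (Set.ncard_le_ncard (fun f hf => ?_)
      ((finite_MA e m).subset fun _ h => ⟨h.1, h.2.1⟩)) this
    refine ⟨hf.1, hf.2.1, ?_⟩
    rw [← hf.2.2, nu, hf.2.1, ← mul_assoc, ← mul_pow]; simp

open Classical in
theorem SL_bound [Fintype F] [Nonempty ι] {e : ℕ} (he : e ≠ 0) (hd : e ∣ Fintype.card ι)
    {Y : Type*} [Finite Y] (ρ : Y → Matrix.SpecialLinearGroup ι F)
    (hinj : ∀ y y', IsConj (ρ y) (ρ y') → y = y')
    (hY : ∀ y i, lvl (ρ y).1 i ∈ (expand F e).range) :
    ((Fintype.card F : ℝ) - 1) * Nat.card Y ≤ KS (Fintype.card F) (Fintype.card ι / e) := by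
  have hq : 1 ≤ Fintype.card F := Fintype.card_pos
  have hc : Nat.card Fˣ = Fintype.card F - 1 := by rw [Nat.card_units, Nat.card_eq_fintype_card]
  have h0 : ∀ y i, (lvl (ρ y).1 i).coeff 0 ≠ 0 := fun y =>
    lvl_coeff_zero (by rw [(ρ y).2]; exact one_ne_zero)
  have := card_le_det (μ := Fˣ) (Fintype.card ι) _ (fun y => lvl (ρ y).1) natDegree
    (fun f => if h : nu f = 0 then 1 else Units.mk0 _ h) (MA F e)
    (fun m => if m = 0 then 1 else if e ∣ m then Fintype.card F ^ (m / e - 1) else 0)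
    (PowerSeries.expand e he (SG (Fintype.card F)))
    (fun y i => ⟨Dec.lv_monic _ i, h0 y i, hY y i⟩) (fun y => sum_lvl _)
    (fun f hf h => by simp [eq_one_of_monic hf.1 h, nu]) (finite_MA e)
    (fun m c => ((ncard_nu_le (m := m) he (c : F)).trans' (Set.ncard_le_ncard (fun f hf =>
      ⟨hf.1, hf.2.1, by rw [← hf.2.2, dif_neg (nu_ne_zero hf.1.2.1), Units.val_mk0]⟩)
      ((finite_MA e m).subset fun _ h => ⟨h.1, h.2.1⟩))))
    rfl (by rw [PowerSeries.coeff_expand]; simp [coeff_SG_zero]) (fun m => ?_) (fun y => ?_)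
    fun y => ?_
  · rw [hc, Nat.cast_pred hq] at this
    exact this.trans (sum_le_KS hq he Fintype.card_ne_zero hd _)
  · rw [PowerSeries.coeff_expand, if_neg m.succ_ne_zero, hc, Nat.cast_pred hq]
    split_ifs with h
    · obtain ⟨k, hk⟩ := Nat.exists_eq_succ_of_ne_zero
        (Nat.div_pos (Nat.le_of_dvd m.succ_pos h) (Nat.pos_of_ne_zero he)).ne'
      rw [hk, coeff_SG_succ]; simp
    · simp
  · refine Units.ext (Eq.trans ?_ (ρ y).2)
    rw [det_eq_lvl, Units.coe_prod]
    exact prod_congr rfl fun i _ => by rw [dif_neg (nu_ne_zero (h0 y i))]; rfl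
  · refine card_split_le Matrix.SpecialLinearGroup.toGL Matrix.SpecialLinearGroup.toGL_injective
      Matrix.GeneralLinearGroup.det (fun x hx => by rw [H9.toGL_range_eq_ker_det]; exact hx) _
      (Matrix.SpecialLinearGroup.toGL (ρ y)) (fun h hh => ?_) (fun y' => ρ y'.1)
      (fun y' => (isConj_units_iff _ _).2 (isConj_of_lvl fun i hi => (y'.2 i hi).symm))
      fun a b h => Subtype.ext (hinj _ _ h)
    induction hh using Subgroup.closure_induction with
    | mem x hx =>
      obtain ⟨i, -, hi, c, rfl⟩ := hx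
      obtain ⟨k, hk⟩ := Dec.exists_of_lv _ hi
      obtain ⟨C, h1, h2⟩ := Dec.exists_comm_det _ k c.ne_zero
      exact ⟨C, Units.ext h1, Units.ext (by rw [hk] at h2; simpa using h2)⟩
    | one => exact ⟨1, by simp, map_one _⟩
    | mul a b _ _ ha hb =>
      obtain ⟨c, h1, rfl⟩ := ha
      obtain ⟨d, h2, rfl⟩ := hb
      exact ⟨c * d, (Commute.mul_left h1 h2 :), map_mul _ _ _⟩
    | inv a _ ha =>
      obtain ⟨c, h1, rfl⟩ := ha
      exact ⟨c⁻¹, (Commute.inv_left h1 :), map_inv _ _⟩

theorem lvl_mem_range {A : Matrix ι ι F} (hA : A.det ≠ 0) {r : F} (hr : r ≠ 0)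
    (h : IsConj (r • A) A) {e : ℕ} (he : e ≠ 0) (hd : ∀ k, r ^ k = 1 → e ∣ k) (i : ℕ) :
    lvl A i ∈ (expand F e).range := by
  letI := invertibleOfNonzero hr
  have hτ : ∀ g, algEquivCMulXAddC r 0 g = g.comp (C r * X) := fun g => by
    simp [comp_eq_aeval]
  obtain ⟨u, hu⟩ := (dec (Matrix.toLin' A)).associated_lv (algEquivCMulXAddC r 0).toMulEquiv
    (fun P => (congrArg natDegree (hτ P)).trans (by simp [natDegree_comp, natDegree_C_mul hr]))
    (fun g => by
      refine Eq.trans ?_ (((isConj_iff_sim _ _).1 h).aeval g).finrank_ker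
      rw [show (algEquivCMulXAddC r 0).toMulEquiv g = _ from hτ g, aeval_comp, map_smul, map_mul,
        aeval_C, aeval_X, ← Algebra.smul_def]) i
  obtain ⟨c, -, hc⟩ := isUnit_iff.1 u.isUnit
  rw [show (algEquivCMulXAddC r 0).toMulEquiv _ = _ from hτ _, ← hc] at hu
  have h1 : ∀ k, (lvl A i).coeff k * r ^ k * c = (lvl A i).coeff k := fun k => by
    simpa [lvl] using congrArg (coeff · k) hu
  have h2 : c = 1 := by simpa [lvl_coeff_zero hA i] using h1 0
  refine ⟨contract e (lvl A i), Polynomial.ext fun k => ?_⟩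
  simp only [AlgHom.toRingHom_eq_coe, RingHom.coe_coe]
  rw [coeff_expand (Nat.pos_of_ne_zero he)]
  split_ifs with hk
  · rw [coeff_contract he, Nat.div_mul_cancel hk]
  · by_contra h3
    exact hk (hd k (by simpa [h2, Ne.symm h3] using h1 k))

/-- every monic polynomial is a characteristic polynomial -/
theorem exists_charpoly_det {f : F[X]} (hf : f.Monic) (hd : f.natDegree = Fintype.card ι) :
    ∃ A : Matrix ι ι F, A.charpoly = f ∧ A.det = (-1) ^ Fintype.card ι * f.coeff 0 := by
  obtain ⟨A, -, hA⟩ := H66.exists_isSS_charpoly_eq hf hd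
  exact ⟨A, hA, by rw [Matrix.det_eq_sign_charpoly_coeff, hA]⟩

theorem SL_bound_one [Fintype F] [Nonempty ι] : ((Fintype.card F : ℝ) - 1) *
    Nat.card (ConjClasses (Matrix.SpecialLinearGroup ι F)) ≤ KS (Fintype.card F) (Fintype.card ι) := by
  simpa using SL_bound (ι := ι) (F := F) one_ne_zero (one_dvd _) rep (fun _ _ => rep_inj)
    fun _ _ => ⟨_, expand_one _⟩

theorem SL_lower [Fintype F] {n : ℕ} (hn : 2 ≤ n) :
    Fintype.card F ^ (n - 1) < Nat.card (ConjClasses (Matrix.SpecialLinearGroup (Fin n) F)) := by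
  classical
  have hc : ∀ A B : Matrix.SpecialLinearGroup (Fin n) F, IsConj A B → A.1.charpoly = B.1.charpoly :=
    fun A B h => charpoly_eq_of_isConj ((isConj_units_iff _ _).1
      (Matrix.SpecialLinearGroup.toGL.map_isConj h))
  let f : ConjClasses (Matrix.SpecialLinearGroup (Fin n) F) →
      {f : F[X] // (f.Monic ∧ f.natDegree = n) ∧ f.coeff 0 = (-1) ^ n} :=
    Quotient.lift (fun A => ⟨A.1.charpoly, ⟨A.1.charpoly_monic, by simp⟩, by
      have := A.1.det_eq_sign_charpoly_coeff
      rw [A.2, Fintype.card_fin] at this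
      have h : ((-1 : F) ^ n) * (-1) ^ n = 1 := by rw [← mul_pow]; simp
      linear_combination (-(-1) ^ n) * this - A.1.charpoly.coeff 0 * h⟩)
      fun A B h => Subtype.ext (hc A B h)
  have h1 : Function.Surjective f := by
    rintro ⟨g, ⟨h1, h2⟩, h3⟩
    obtain ⟨A, h4, h5⟩ := exists_charpoly_det (ι := Fin n) h1 (by simpa using h2)
    exact ⟨ConjClasses.mk ⟨A, by rw [h5, h3, Fintype.card_fin, ← mul_pow]; simp⟩, Subtype.ext h4⟩
  have h01 : (⟨0, by omega⟩ : Fin n) ≠ ⟨1, hn⟩ := by simp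
  have h2 : ¬ Function.Injective f := fun h => by
    have := @h (ConjClasses.mk 1) (ConjClasses.mk (Matrix.SpecialLinearGroup.transvection h01 1))
      (Subtype.ext (by
        change (1 : Matrix (Fin n) (Fin n) F).charpoly = Matrix.charpoly (1 + Matrix.single _ _ 1)
        rw [Matrix.charpoly_of_isUpperTriangular _ Matrix.blockTriangular_one,
          Matrix.charpoly_of_isUpperTriangular _ (Matrix.blockTriangular_one.add
            (Matrix.blockTriangular_single (by simp) _))]
        refine prod_congr rfl fun i _ => ?_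
        rw [Matrix.add_apply, Matrix.single_apply_of_ne, add_zero]
        rintro ⟨rfl, h⟩
        exact h01 h.symm))
    rw [ConjClasses.mk_eq_mk_iff_isConj, isConj_one_right] at this
    exact one_ne_zero ((Matrix.SpecialLinearGroup.transvection_mem_center_iff h01 (1 : F)).1
      (this ▸ one_mem _))
  haveI := Finite.of_surjective f h1
  haveI := Fintype.ofFinite (ConjClasses (Matrix.SpecialLinearGroup (Fin n) F))
  haveI := Fintype.ofFinite {f : F[X] // (f.Monic ∧ f.natDegree = n) ∧ f.coeff 0 = (-1) ^ n}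
  have := Fintype.card_lt_of_surjective_not_injective f h1 h2
  rw [← Nat.card_eq_fintype_card, ← Nat.card_eq_fintype_card,
    H66.card_monic_coeff_zero (by omega) (· = (-1 : F) ^ n)] at this
  simpa using this

theorem fix_bound [Fintype F] [Nonempty ι] (z : Subgroup.center (Matrix.SpecialLinearGroup ι F))
    (hz : z ≠ 1) : ∃ e, 2 ≤ e ∧ e ∣ Fintype.card ι ∧ ((Fintype.card F : ℝ) - 1) *
      Nat.card {C : ConjClasses (Matrix.SpecialLinearGroup ι F) // IsConj (z * rep C) (rep C)} ≤
      KS (Fintype.card F) (Fintype.card ι / e) := by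
  obtain ⟨r, h1, h2⟩ := Matrix.SpecialLinearGroup.mem_center_iff.1 z.2
  have h3 := orderOf_dvd_of_pow_eq_one h1
  have h4 : orderOf r ≠ 0 := fun h => Fintype.card_ne_zero (zero_dvd_iff.1 (h ▸ h3))
  have h5 : orderOf r ≠ 1 := fun h => hz (Subtype.ext (Subtype.ext (by
    rw [← h2, orderOf_eq_one_iff.1 h, map_one]; rfl)))
  refine ⟨orderOf r, by omega, h3, SL_bound h4 h3 (fun C => rep C.1)
    (fun _ _ h => Subtype.ext (rep_inj h)) fun C => lvl_mem_range (r := r)
      (by rw [(rep C.1).2]; exact one_ne_zero)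
      (by rintro rfl; simp at h1) ?_ h4 fun k => orderOf_dvd_of_pow_eq_one⟩
  have := (isConj_units_iff _ _).1 (Matrix.SpecialLinearGroup.toGL.map_isConj C.2)
  rwa [Matrix.SpecialLinearGroup.coe_GL_coe_matrix, Matrix.SpecialLinearGroup.coe_GL_coe_matrix,
    Matrix.SpecialLinearGroup.coe_mul, ← h2, Matrix.scalar_apply, ← Matrix.smul_eq_diagonal_mul]
    at this

end Cfsg.Agent.H29
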