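import Cfsg.Agent.H29.ClsRec
import Cfsg.Agent.H67.SUConj
import Cfsg.Agent.H67.SymForm
import Cfsg.Agent.H10.Isotropic

/-! Bounds for the class number of `SU`. -/

set_option autoImplicit false

namespace Cfsg.Agent.H29

open Module Finset H67

section Num

open PowerSeries

/-- bounding an infinite product -/
theorem prod_le_of_tail (r t : ℕ → ℝ) (A : ℝ) (K : ℕ) (hr : ∀ i, 1 ≤ r i) (ht : ∀ i, t i ≤ 1)
    (hA : 0 ≤ A) (hs : ∀ i, K ≤ i → t i * r i ≤ t (i + 1)) (h0 : ∏ i ∈ range K, r i ≤ A * t K)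
    (N : ℕ) : ∏ i ∈ range N, r i ≤ A := by
  have h1 : ∀ M, K ≤ M → ∏ i ∈ range M, r i ≤ A * t M := fun M hM => by
    induction M, hM using Nat.le_induction with
    | base => exact h0
    | succ M hM ih =>
      rw [prod_range_succ]
      exact (mul_le_mul_of_nonneg_right ih (zero_le_one.trans (hr M))).trans (by
        rw [mul_assoc]; exact mul_le_mul_of_nonneg_left (hs M hM) hA)
  refine le_trans (prod_le_prod_of_subset_of_one_le (range_subset_range.2 (le_max_left N K))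
    (fun i _ => zero_le_one.trans (hr i)) fun i _ _ => hr i)
    ((h1 _ (le_max_right N K)).trans (mul_le_of_le_one_right hA (ht _)))

theorem coeff_geo_mul_le {q : ℝ} (hq : 0 < q) {G : ℝ⟦X⟧} (hG : NN G) {A : ℝ} {n : ℕ}
    (h : ps q⁻¹ n G ≤ A) : coeff n (geo q * G) ≤ A * q ^ n := by
  have := coeff_mul_le (n := n) (f := geo q) (A := 1) (inv_pos.2 hq).le hG fun m _ => by
    rw [coeff_geo, ← mul_pow, mul_inv_cancel₀ hq.ne', one_pow]
  rw [inv_pow, ← div_eq_mul_inv, div_le_iff₀ (pow_pos hq n), one_mul] at this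
  exact this.trans (mul_le_mul_of_nonneg_right h (pow_pos hq n).le)

/-- the level series of the unitary groups -/
noncomputable def SH (q : ℝ) : ℝ⟦X⟧ := (1 + X) * geo q

theorem nn_SH {q : ℝ} (hq : 0 ≤ q) : NN (SH q) := (nn_one.add nn_X).mul (nn_geo hq)

theorem coeff_SH_zero (q : ℝ) : coeff 0 (SH q) = 1 := by simp [SH, geo]

theorem coeff_SH_succ (q : ℝ) (m : ℕ) : coeff (m + 1) (SH q) = (q + 1) * q ^ m := by
  rw [SH, add_mul, one_mul, map_add, coeff_succ_X_mul, coeff_geo, coeff_geo]; ring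

theorem coeff_PP_SH_le {q x A : ℝ} (hq : 0 < q) (hx : q⁻¹ ≤ x) (h1 : x < 1)
    (hA : ∀ N, ∏ i ∈ range N, (1 + x ^ (i + 2)) * (1 - x ^ (i + 1))⁻¹ ≤ A) (K m : ℕ) :
    coeff m (PP (fun _ => SH q) (K + 1)) ≤ (1 + x) * A * q ^ m := by
  have h0 := (inv_pos.2 hq).le
  rw [PP_succ', SH, mul_comm (1 + X), mul_assoc]
  have hn : ∀ i ∈ range K, NN (ex (i + 1) ((1 + X) * geo q)) := fun i _ => (nn_SH hq.le).ex _
  rw [mul_comm (1 + X)] at hn
  refine coeff_geo_mul_le hq ((nn_one.add nn_X).mul (nn_prod hn))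
    (ps_mul_le' h0 (nn_one.add nn_X) (nn_prod hn) ?_
      ((ps_prod_le h0 _ hn fun i _ => ?_).trans (hA K)))
  · simpa using (ps_one_add (n := m) h0 1).trans (by simpa using hx)
  · have h2 : q * q⁻¹ ^ (i + 1 + 1) ≤ x ^ (i + 1) := by
      rw [pow_succ', ← mul_assoc, mul_inv_cancel₀ hq.ne', one_mul]
      exact pow_le_pow_left₀ h0 hx _
    have h3 : x ^ (i + 1) < 1 := pow_lt_one₀ (h0.trans hx) h1 i.succ_ne_zero
    rw [mul_comm (geo q), map_mul, map_add, map_one, expand_X]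
    refine ps_mul_le' h0 (nn_one.add (nn_X.pow _)) ((nn_geo hq.le).ex _)
      ((ps_one_add h0 _).trans (by gcongr))
      ((ps_ex_geo h0 hq.le _ (h2.trans_lt h3)).trans (inv_anti₀ (by linarith) (by linarith)))

theorem prod_SH_le {x B A : ℝ} (h0 : 0 ≤ x) (h1 : x < 1) (hB : x + x ^ 2 ≤ B * (1 - x)) (K : ℕ)
    (hA : 0 ≤ A) (h : ∏ i ∈ range K, (1 + x ^ (i + 2)) * (1 - x ^ (i + 1))⁻¹ ≤ A * (1 - B * x ^ K))
    (N : ℕ) : ∏ i ∈ range N, (1 + x ^ (i + 2)) * (1 - x ^ (i + 1))⁻¹ ≤ A := by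
  have h2 : 0 ≤ B := nonneg_of_mul_nonneg_left (le_trans (by positivity) hB) (by linarith)
  have h3 : ∀ i, 0 < 1 - x ^ (i + 1) := fun i => sub_pos.2 (pow_lt_one₀ h0 h1 i.succ_ne_zero)
  refine prod_le_of_tail _ (fun i => 1 - B * x ^ i) A K (fun i => ?_)
    (fun i => sub_le_self _ (by positivity)) hA (fun i _ => ?_) h N
  · rw [← div_eq_mul_inv, one_le_div (h3 i)]
    linarith [pow_nonneg h0 (i + 1), pow_nonneg h0 (i + 2)]
  · rw [← mul_assoc, ← div_eq_mul_inv, div_le_iff₀ (h3 i), pow_succ, pow_succ]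
    have h4 := pow_nonneg h0 i
    generalize x ^ i = y at h4
    have := mul_le_mul_of_nonneg_left hB h4
    have : 0 ≤ B * x ^ 2 * y ^ 2 := by positivity
    nlinarith

theorem sum_aa_le (N : ℕ) : ∑ j ∈ range N, (((j : ℝ) + 1) ^ 2 - 1) * (1 / 4 : ℝ) ^ j =
    44 / 27 - (1 / 4 : ℝ) ^ N * (4 / 3 * N ^ 2 + 32 / 9 * N + 44 / 27) := by
  induction N with
  | zero => simp
  | succ N ih => rw [sum_range_succ, ih]; push_cast; ring

theorem sum_SH_le {q n : ℕ} (hq : 2 ≤ q) (hn : 2 ≤ n) :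
    100 * ∑ e ∈ (q + 1).divisors, aa e * coeff n
      (PP (fun i => if e ∣ i + 1 then SH q else 1) n) ≤ (q + 1) * (826 * q ^ (n - 1)) := by
  obtain ⟨n, rfl⟩ := Nat.exists_eq_add_of_le' (show 1 ≤ n by omega)
  have hP : ∀ {x A : ℝ}, (q : ℝ)⁻¹ ≤ x → x < 1 → 0 ≤ A →
      (∀ N, ∏ i ∈ range N, (1 + x ^ (i + 2)) * (1 - x ^ (i + 1))⁻¹ ≤ A) → ∀ e, e ≠ 0 →
      ∀ k, (e ∣ n + 1 → (n + 1) / e ≤ k) →
      coeff (n + 1) (PP (fun i => if e ∣ i + 1 then SH q else 1) (n + 1)) ≤ (1 + x) * A * q ^ k := by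
    intro x A hx h1 h2 hA e he k hk
    have h0 : (0 : ℝ) ≤ x := le_trans (by positivity) hx
    rw [coeff_PP_dvd he]
    split_ifs with h
    · obtain ⟨K, hK⟩ := Nat.exists_eq_succ_of_ne_zero
        (Nat.div_pos (Nat.le_of_dvd n.succ_pos h) (Nat.pos_of_ne_zero he)).ne'
      replace hk := hk h
      rw [Nat.succ_eq_add_one] at hK
      rw [hK] at hk ⊢
      refine (coeff_PP_SH_le (by positivity) hx h1 hA K _).trans ?_
      gcongr
      exact Nat.one_le_cast.2 (by omega)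
    · positivity
  have hd : ∀ e, e ∣ n + 1 → (n + 1) / e + e ≤ n + 2 := by
    rintro e ⟨k, hk⟩
    have h1 : 0 < e := Nat.pos_of_ne_zero (by rintro rfl; omega)
    have h2 : 0 < k := Nat.pos_of_ne_zero (by rintro rfl; omega)
    rw [hk, Nat.mul_div_cancel_left _ h1]; nlinarith
  have hy : (0 : ℝ) < q ^ n := by positivity
  rw [Nat.add_sub_cancel]
  rcases hq.eq_or_lt with rfl | hq3
  · have h1 := hP (x := 1 / 2) (A := 826 / 150) (by norm_num) (by norm_num) (by norm_num)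
      (prod_SH_le (B := 3 / 2) (by norm_num) (by norm_num) (by norm_num) 8 (by norm_num)
        (by simp only [prod_range_succ]; norm_num))
    have h2 := h1 1 one_ne_zero (n + 1) fun _ => by omega
    rw [show Nat.divisors (2 + 1) = {1, 3} by decide, sum_pair (by decide)]
    rcases (show n = 2 ∨ n ≠ 2 by omega) with rfl | h
    · rw [coeff_PP_dvd (e := 3) (by decide), if_pos (by decide)]
      simp only [Nat.reduceAdd, Nat.ofNat_pos, Nat.div_self, PP, prod_range_one, ex_zero, aa]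
      rw [coeff_SH_succ _ 0]
      simp only [PP] at h2
      norm_num at h2 ⊢; linarith
    · obtain ⟨m, hm⟩ : ∃ m, n = m + 3 ∨ ¬ 3 ∣ n + 1 := ⟨n - 3, by omega⟩
      rcases hm with rfl | hm
      · have h3 := h1 3 (by decide) m fun _ => by omega
        have : (0 : ℝ) < 2 ^ m := by positivity
        simp only [aa, pow_add] at h2 h3 ⊢
        norm_num at h2 h3 ⊢; linarith
      · rw [coeff_PP_dvd (e := 3) (by decide), if_neg hm]
        have : (0 : ℝ) < 2 ^ n := by positivity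
        simp only [aa, pow_add] at h2 ⊢
        norm_num at h2 ⊢; linarith
  have h3 : (3 : ℝ) ≤ q := by exact_mod_cast hq3
  have h1 := hP (x := 1 / 3) (A := 21 / 10) (by rw [one_div]; exact inv_anti₀ (by norm_num) h3)
    (by norm_num) (by norm_num) (prod_SH_le (B := 2 / 3) (by norm_num) (by norm_num) (by norm_num)
      5 (by norm_num) (by simp only [prod_range_succ]; norm_num))
  have h2 : ∀ x : ℝ, (q : ℝ)⁻¹ ≤ x → ∀ e ∈ (q + 1).divisors, aa e * coeff (n + 1)
      (PP (fun i => if e ∣ i + 1 then SH q else 1) (n + 1)) ≤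
        14 / 5 * q ^ (n + 1) * (aa e * x ^ (e - 1)) := fun x hx e he => by
    have h0 := Nat.pos_of_mem_divisors he
    rw [mul_left_comm]
    refine mul_le_mul_of_nonneg_left ?_ (aa_nonneg h0.ne')
    have h5 : (0 : ℝ) ≤ x := le_trans (by positivity) hx
    by_cases h : e ∣ n + 1
    · refine (h1 e h0.ne' _ fun _ => le_rfl).trans ?_
      have := hd e h
      calc _ = 14 / 5 * (q : ℝ) ^ ((n + 1) / e) := by norm_num
        _ ≤ 14 / 5 * q ^ (n + 1 - (e - 1)) := by gcongr; exacts [by linarith, by omega]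
        _ = 14 / 5 * q ^ (n + 1) * (q : ℝ)⁻¹ ^ (e - 1) := by
          rw [pow_sub₀ _ (by positivity) (by have := Nat.le_of_dvd n.succ_pos h; omega), inv_pow, mul_assoc]
        _ ≤ _ := by gcongr
    · rw [coeff_PP_dvd h0.ne', if_neg h]; positivity
  have h4 : ∃ x : ℝ, (q : ℝ)⁻¹ ≤ x ∧ ∑ e ∈ (q + 1).divisors, aa e * x ^ (e - 1) ≤ 71 / 27 := by
    rcases (show q = 3 ∨ 4 ≤ q by omega) with rfl | h4
    · refine ⟨1 / 3, by norm_num, ?_⟩
      rw [show Nat.divisors (3 + 1) = {1, 2, 4} by decide]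
      norm_num [aa]
    · refine ⟨1 / 4, by rw [one_div]; exact inv_anti₀ (by norm_num) (by exact_mod_cast h4), ?_⟩
      refine (sum_le_sum_of_subset_of_nonneg (t := (range (q + 1)).map ⟨_, Nat.succ_injective⟩)
        (fun e he => mem_map.2 ⟨e - 1, mem_range.2 (by
          have := Nat.divisor_le he; have := Nat.pos_of_mem_divisors he; omega),
          Nat.succ_pred_eq_of_pos (Nat.pos_of_mem_divisors he)⟩)
        fun e he _ => mul_nonneg (aa_nonneg (by
          obtain ⟨_, -, rfl⟩ := mem_map.1 he; exact Nat.succ_ne_zero _)) (by positivity)).trans ?_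
      have h5 := sum_aa_le (q + 1)
      rw [sum_map, sum_range_succ'] at *
      have h6 : (0 : ℝ) ≤ (1 / 4) ^ (q + 1) *
        (4 / 3 * (q + 1 : ℕ) ^ 2 + 32 / 9 * (q + 1 : ℕ) + 44 / 27) := by positivity
      simp only [aa, Function.Embedding.coeFn_mk, Nat.succ_eq_add_one, Nat.add_eq_right,
        Nat.add_eq_zero_iff, one_ne_zero, and_false, if_false, if_true, Nat.add_sub_cancel] at h5 ⊢
      push_cast at *
      linarith
  obtain ⟨x, hx, h4⟩ := h4
  have h5 := ((sum_le_sum (h2 x hx)).trans_eq (mul_sum _ _ _).symm).trans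
    (mul_le_mul_of_nonneg_left h4 (by positivity))
  rw [pow_succ] at h5
  nlinarith

end Num

open Polynomial

variable {K : Type*} [Field K] [Fintype K] {q : ℕ} [hK : Fact (Fintype.card K = q ^ 2)]

theorem ncard_RA_cj {c : K} (hc : c * H10.cj K q c = 1) (m : ℕ) :
    {f ∈ RA (H10.cj K q) | f.natDegree = m + 1 ∧ f.coeff 0 = c}.ncard = q ^ m := by
  obtain ⟨l, hl⟩ := H10.exists_cj_ne K q
  have := card_fixed_sq (V := Fin m → K) (σ := H10.cj K q)
    (AddMonoidHom.mk' (fun v i => c * H10.cj K q (v i.rev)) fun v w => by ext; simp [mul_add])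
    (fun v => by ext; simp [H10.cj_cj, ← mul_assoc, hc]) (fun a v => by ext; simp [mul_left_comm])
    H10.cj_cj hl
  rw [Nat.card_fun, Nat.card_eq_fintype_card (α := K), hK.out, Nat.card_eq_fintype_card (α := Fin m),
    Fintype.card_fin, pow_right_comm] at this
  rw [card_RA hc, ← Nat.pow_left_injective two_ne_zero this]
  exact Nat.card_congr (Equiv.subtypeEquivRight fun v =>
    ⟨fun h => funext fun i => (h i).symm, fun h i => (congrFun h i).symm⟩)

theorem lvl_mem_RA {ι : Type*} [Fintype ι] [DecidableEq ι] {A : Matrix ι ι K}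
    (hA : cjT q A * A = 1) (i : ℕ) : lvl A i ∈ RA (H10.cj K q) := by
  refine Dec.lv_mem_RA _ (S := Matrix.toLin' (cjT q A)) ?_ H10.cj_cj (fun g => ?_) i
  · rw [Module.End.mul_eq_comp, ← Matrix.toLin'_mul, mul_eq_one_comm.1 hA, Matrix.toLin'_one]; rfl
  · have h1 := finrank_ker_toLin' (cjT q (aeval A g))
    have h2 := finrank_ker_toLin' (aeval A g)
    rw [rank_cjT] at h1
    rw [aeval_toLin', aeval_toLin', ← cjT_aeval]
    omega

theorem nu_norm {σ : K →+* K} {f : K[X]} (hf : f ∈ RA σ) : nu f * σ (nu f) = 1 := by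
  rw [nu, map_mul, mul_mul_mul_comm, RA_norm hf, map_pow, ← mul_pow]; simp

open Classical in
theorem SU_bound (n : ℕ) : ((q : ℝ) + 1) * Nat.card (ConjClasses (SU n K q)) ≤
    ∑ e ∈ (q + 1).divisors, aa e * PowerSeries.coeff n
      (PP (fun i => if e ∣ i + 1 then SH q else 1) n) := by
  let μ := (powMonoidHom (q + 1) : Kˣ →* Kˣ).ker
  have hc : Nat.card μ = q + 1 := H10.card_ker_pow_succ
  have hμ : ∀ c : Kˣ, c ∈ μ ↔ (c : K) * H10.cj K q c = 1 := fun c => by
    rw [MonoidHom.mem_ker, powMonoidHom_apply, Units.ext_iff, Units.val_pow_eq_pow_val,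
      ← H10.mul_cj_eq_pow, Units.val_one]
  let ν : K[X] → μ := fun f => if h : ∃ c : μ, ((c : Kˣ) : K) = nu f then h.choose else 1
  have hν : ∀ f ∈ RA (H10.cj K q), ((ν f : Kˣ) : K) = nu f := fun f hf => by
    have h : ∃ c : μ, ((c : Kˣ) : K) = nu f :=
      ⟨⟨Units.mk0 _ (nu_ne_zero (RA_ne_zero hf)), (hμ _).2 (nu_norm hf)⟩, rfl⟩
    simpa only [ν, dif_pos h] using h.choose_spec
  have h0 : ∀ (g : SU n K q) i, lvl (H10.sm g) i ∈ RA (H10.cj K q) := fun g =>
    lvl_mem_RA ((isIsom_iff_cjT _).1 (H10.sm_isIsom g))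
  have := card_le_det (μ := μ) (Fintype.card (Fin n)) _
    (fun C : ConjClasses (SU n K q) => lvl (H10.sm (rep C))) natDegree ν (RA (H10.cj K q))
    (fun m => q ^ (m - 1)) (SH q) (fun y => h0 _) (fun y => sum_lvl _)
    (fun f hf h => Subtype.ext (Units.ext (by rw [hν f hf, eq_one_of_monic hf.1 h]; simp [nu])))
    finite_RA (fun m c => ?_) rfl (coeff_SH_zero _) (fun m => by rw [coeff_SH_succ, hc]; simp)
    (fun y => ?_) fun y => ?_
  · simpa only [hc, Fintype.card_fin, Nat.cast_add, Nat.cast_one] using this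
  · rcases m with _ | m
    · exact (Set.ncard_le_one ((finite_RA 0).subset fun _ h => ⟨h.1, h.2.1⟩)).2 fun a ha b hb => by
        rw [eq_one_of_monic ha.1.1 ha.2.1, eq_one_of_monic hb.1.1 hb.2.1]
    · refine le_trans (Set.ncard_le_ncard (fun f hf => ?_) ((finite_RA _).subset fun _ h =>
        ⟨h.1, h.2.1⟩)) (ncard_RA_cj (q := q) (c := (-1) ^ (m + 1) * ((c : Kˣ) : K)) (by
          rw [map_mul, mul_mul_mul_comm, (hμ _).1 c.2, map_pow, ← mul_pow]; simp) m).le
      refine ⟨hf.1, hf.2.1, ?_⟩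
      rw [← hf.2.2, hν f hf.1, nu, hf.2.1, ← mul_assoc, ← mul_pow]; simp
  · refine Subtype.ext (Units.ext (Eq.trans ?_ (H10.sm_det (rep y))))
    rw [det_eq_lvl, SubmonoidClass.coe_finsetProd, Units.coe_prod]
    exact prod_congr rfl fun i _ => by rw [← hν _ (h0 _ i)]; rfl
  · refine card_split_le (H10.suToGU n K q) H10.suToGU_injective
      ((H10.guDet n K q).codRestrict μ fun g => (hμ _).2 (H10.gm_isIsom g).det_mul_cj)
      (fun x hx => H10.ker_guDet (F := K) ▸ congrArg Subtype.val hx) _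
      (H10.suToGU n K q (rep y)) (fun h hh => ?_) (fun y' => rep y'.1)
      (fun y' => ?_) fun a b h => Subtype.ext (rep_inj h)
    · induction hh using Subgroup.closure_induction with
      | mem x hx =>
        obtain ⟨i, -, hi, c, rfl⟩ := hx
        obtain ⟨k, hk⟩ := Dec.exists_of_lv _ hi
        obtain ⟨a, ha, ha'⟩ := H10.exists_div_cj_eq ((hμ _).1 c.2)
        obtain ⟨C, h1, h2⟩ := Dec.exists_comm_det _ k ha
        obtain ⟨x, h3, h4, h5⟩ := exists_unitary_comm_det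
          ((isIsom_iff_cjT _).1 (H10.sm_isIsom (rep y))) C.isUnit h1
        refine ⟨H10.mkGU x ((isIsom_iff_cjT _).2 h3), H10.gm_injective h4,
          Subtype.ext (Units.ext ?_)⟩
        rw [h2, hk, map_pow] at h5
        change x.det = ((c : Kˣ) : K) ^ (i + 1)
        rw [← ha', div_pow, eq_div_iff (pow_ne_zero _ (H10.cj_ne_zero.2 ha)), h5]
      | one => exact ⟨1, by simp, map_one _⟩
      | mul a b _ _ ha hb =>
        obtain ⟨c, h1, rfl⟩ := ha
        obtain ⟨d, h2, rfl⟩ := hb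
        exact ⟨c * d, (Commute.mul_left h1 h2 :), map_mul _ _ _⟩
      | inv a _ ha =>
        obtain ⟨c, h1, rfl⟩ := ha
        exact ⟨c⁻¹, (Commute.inv_left h1 :), map_inv _ _⟩
    · obtain ⟨k, h1, h2⟩ := exists_isIsom_conj (H10.sm_isIsom _) (H10.sm_isIsom _)
        (isConj_of_lvl fun i hi => (y'.2 i hi).symm)
      exact isConj_iff.2 ⟨H10.mkGU k h1, mul_inv_eq_iff_eq_mul.2 (H10.gm_injective h2)⟩

theorem SU_lower (m : ℕ) : q ^ m ≤ Nat.card (ConjClasses (SU (m + 1) K q)) := by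
  rw [← ncard_RA_cj (K := K) (q := q) (c := (-1) ^ (m + 1)) (by rw [map_pow, ← mul_pow]; simp) m]
  refine card_le_of_inv (fun g => (H10.sm g).charpoly) (fun a b h => charpoly_eq_of_isConj
    ((isConj_units_iff _ _).1 (((GU _ K q).subtype.comp (H10.suToGU _ K q)).map_isConj h))) _ ?_
  rintro f ⟨h1, h2, h3⟩
  obtain ⟨A, hA, rfl⟩ := H66.exists_isSS_charpoly_eq (ι := Fin (m + 1)) h1.1 (by simpa using h2)
  obtain ⟨h4, h5⟩ := charpoly_inv_of_RA (B := cjT q A) h1
    (by rw [cjT_apply, Matrix.charpoly_transpose, Matrix.charpoly_map])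
  have hu : IsUnit A := cjT_cjT (q := q) A ▸ isUnit_cjT h4
  have h6 : H66.IsSS (cjT q A) := by
    obtain ⟨Q, hQ, h0⟩ := hA
    exact ⟨Q.map (H10.cj K q), (PerfectField.separable_iff_squarefree.2 hQ).map.squarefree,
      by rw [← cjT_aeval, h0, map_zero]⟩
  obtain ⟨P, hP⟩ := H66.exists_GL_conj_of_charpoly_eq hA (isSS_inv h4 h6) h5.symm
  obtain ⟨B, hB1, hB2⟩ := exists_isIsom_isConj hu ⟨P, hP⟩
  have h7 := charpoly_eq_of_isConj hB2
  exact ⟨H10.mkSU B hB1 (by
    rw [Matrix.det_eq_sign_charpoly_coeff, ← h7, h3, Fintype.card_fin, ← mul_pow]; simp), h7.symm⟩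

end Cfsg.Agent.H29
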