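import Mathlib

/-! A lemma on free modules of rank three over `ℤ / 2 ^ (e + 1)`. -/

set_option autoImplicit false

namespace Cfsg.Agent.H29.PY

/-- The three-dimensional space over `F₂`. -/
abbrev U3 := ZMod 2 × ZMod 2 × ZMod 2

/-- A Jordan block of size three. -/
def jJ (v : U3) : U3 := (v.2.2, v.1 + v.2.2, v.2.1 + v.2.2)

theorem fixed_mem_norm {e : ℕ} {M : Type*} [AddCommGroup M] [Module (ZMod (2 ^ (e + 1))) M]
    (π : M →+ U3) (hs : Function.Surjective π) (hk : ∀ x, π x = 0 ↔ 2 ^ e • x = 0)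
    (h2 : ∀ x : M, 2 • x = 0 → ∃ y, x = 2 ^ e • y)
    (α β φ : M ≃ₗ[ZMod (2 ^ (e + 1))] M) (hφ : φ = α * β * α⁻¹ * β⁻¹)
    (h4 : ∀ x, φ (φ (φ (φ x))) = x) (hJ : ∀ x, π (φ x) = jJ (π x)) {x : M} (hx : φ x = x) :
    ∃ y, x = y + φ (φ y) := by
  obtain ⟨y, hy⟩ := hs (1, 0, 0)
  have hy1 : π (φ y) = (0, 1, 0) := by rw [hJ, hy]; decide
  have hy2 : π (φ (φ y)) = (0, 0, 1) := by rw [hJ, hy1]; decide
  have hπ : ∀ a b c : ℤ, π (a • y + b • φ y + c • φ (φ y)) = ((a : ZMod 2), (b : ZMod 2), (c : ZMod 2)) :=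
    fun a b c => by simp [hy, hy1, hy2]
  have hz : ∀ x : M, 2 ^ (e + 1) • x = 0 := fun x => by
    rw [← Nat.cast_smul_eq_nsmul (ZMod (2 ^ (e + 1))), ZMod.natCast_self, zero_smul]
  let v : Fin 3 → M := ![y, φ y, φ (φ y)]
  have hmem : ∀ a b c : ℤ, a • y + b • φ y + c • φ (φ y) ∈
      Submodule.span (ZMod (2 ^ (e + 1))) (Set.range v) := fun a b c =>
    add_mem (add_mem (zsmul_mem (Submodule.subset_span (Set.mem_range_self (f := v) 0)) _)
      (zsmul_mem (Submodule.subset_span (Set.mem_range_self (f := v) 1)) _))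
      (zsmul_mem (Submodule.subset_span (Set.mem_range_self (f := v) 2)) _)
  have hsp : ∀ k ≤ e + 1, ∀ x : M, 2 ^ k • x = 0 →
      x ∈ Submodule.span (ZMod (2 ^ (e + 1))) (Set.range v) := by
    intro k
    induction k with
    | zero => intro _ x hx; rw [pow_zero, one_smul] at hx; rw [hx]; exact zero_mem _
    | succ k ih =>
      intro hke x hx
      obtain ⟨z, hz⟩ := h2 (2 ^ k • x) (by rw [← mul_smul, ← pow_succ', hx])
      obtain ⟨a, ha⟩ := ZMod.intCast_surjective (π z).1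
      obtain ⟨b, hb⟩ := ZMod.intCast_surjective (π z).2.1
      obtain ⟨c, hc⟩ := ZMod.intCast_surjective (π z).2.2
      have h1 := (hk (z - (a • y + b • φ y + c • φ (φ y)))).1 (by
        rw [map_sub, hπ, ha, hb, hc, sub_self])
      obtain ⟨d, rfl⟩ := Nat.exists_eq_add_of_le (show k ≤ e by omega)
      have h3 := ih (by omega) (x - 2 ^ d • (a • y + b • φ y + c • φ (φ y))) (by
        rw [smul_sub, hz, ← mul_smul, ← pow_add, ← smul_sub, h1])
      simpa using add_mem h3 (nsmul_mem (hmem a b c) (2 ^ d))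
  have hind : ∀ k ≤ e + 1, ∀ a b c : ℤ, a • y + b • φ y + c • φ (φ y) = 0 →
      (2 : ℤ) ^ k ∣ a ∧ (2 : ℤ) ^ k ∣ b ∧ (2 : ℤ) ^ k ∣ c := by
    intro k
    induction k with
    | zero => intro _ a b c _; simp
    | succ k ih =>
      intro hke a b c h
      obtain ⟨⟨a, rfl⟩, ⟨b, rfl⟩, ⟨c, rfl⟩⟩ := ih (by omega) a b c h
      obtain ⟨d, rfl⟩ := Nat.exists_eq_add_of_le (show k ≤ e by omega)
      have h1 := (hk (a • y + b • φ y + c • φ (φ y))).2 (by
        have h3 : 2 ^ k • (a • y + b • φ y + c • φ (φ y)) = 0 := by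
          rw [← h, ← natCast_zsmul]; push_cast; simp only [mul_smul, smul_add]
        rw [pow_add, mul_comm, mul_smul, h3, smul_zero])
      rw [hπ] at h1
      simp only [Prod.mk_eq_zero, ZMod.intCast_zmod_eq_zero_iff_dvd] at h1
      simp only [pow_succ]
      exact ⟨mul_dvd_mul_left _ h1.1, mul_dvd_mul_left _ h1.2.1, mul_dvd_mul_left _ h1.2.2⟩
  have hli : LinearIndependent (ZMod (2 ^ (e + 1))) v := by
    rw [Fintype.linearIndependent_iff]
    intro g hg
    obtain ⟨a, ha⟩ := ZMod.intCast_surjective (g 0)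
    obtain ⟨b, hb⟩ := ZMod.intCast_surjective (g 1)
    obtain ⟨c, hc⟩ := ZMod.intCast_surjective (g 2)
    rw [Fin.sum_univ_three, ← ha, ← hb, ← hc, Int.cast_smul_eq_zsmul, Int.cast_smul_eq_zsmul,
      Int.cast_smul_eq_zsmul] at hg
    obtain ⟨h5, h6, h7⟩ := hind _ le_rfl a b c hg
    intro i
    fin_cases i
    · exact ha ▸ (ZMod.intCast_zmod_eq_zero_iff_dvd _ _).2 (by exact_mod_cast h5)
    · exact hb ▸ (ZMod.intCast_zmod_eq_zero_iff_dvd _ _).2 (by exact_mod_cast h6)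
    · exact hc ▸ (ZMod.intCast_zmod_eq_zero_iff_dvd _ _).2 (by exact_mod_cast h7)
  let b := Module.Basis.mk hli (fun x _ => hsp _ le_rfl x (hz x))
  have hb0 : b 0 = y := Module.Basis.mk_apply _ _ _
  have hb1 : φ (b 0) = b 1 := by rw [hb0]; exact (Module.Basis.mk_apply hli _ 1).symm
  have hb2 : φ (b 1) = b 2 := by rw [← hb1, hb0]; exact (Module.Basis.mk_apply hli _ 2).symm
  have hdet : LinearMap.det (φ : M →ₗ[ZMod (2 ^ (e + 1))] M) = 1 := by
    rw [← LinearEquiv.coe_det, hφ, map_mul, map_mul, map_mul, map_inv, map_inv,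
      mul_inv_cancel_comm, mul_inv_cancel, Units.val_one]
  rw [← LinearMap.det_toMatrix b, Matrix.det_fin_three] at hdet
  simp only [LinearMap.toMatrix_apply, LinearEquiv.coe_coe, hb1, hb2, Module.Basis.repr_self] at hdet
  have hb3 := (b.sum_repr (φ (b 2))).symm
  rw [Fin.sum_univ_three] at hb3
  generalize b.repr (φ (b 2)) 0 = a0 at *
  generalize b.repr (φ (b 2)) 1 = a1 at *
  generalize b.repr (φ (b 2)) 2 = a2 at *
  obtain rfl : a0 = 1 := by simpa using hdet
  have h5 := h4 (b 0)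
  rw [hb1, hb2, hb3, map_add, map_add, map_smul, map_smul, map_smul, hb1, hb2, hb3] at h5
  obtain rfl : a2 = 1 := by simpa using congrArg (fun w => b.repr w 0) h5
  obtain rfl : a1 = -1 := by
    have := congrArg (fun w => b.repr w 2) h5
    simp at this
    exact eq_neg_of_add_eq_zero_left this
  have hx0 := (b.sum_repr x).symm
  rw [Fin.sum_univ_three] at hx0
  generalize b.repr x 0 = c0 at *
  generalize b.repr x 1 = c1 at *
  generalize b.repr x 2 = c2 at *
  rw [hx0, map_add, map_add, map_smul, map_smul, map_smul, hb1, hb2, hb3] at hx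
  obtain rfl : c2 = c0 := by simpa using congrArg (fun w => b.repr w 0) hx
  obtain rfl : c1 = 0 := by simpa using (congrArg (fun w => b.repr w 1) hx).symm
  exact ⟨c2 • b 0, by rw [hx0, map_smul, map_smul, hb1, hb2, zero_smul, add_zero]⟩

end Cfsg.Agent.H29.PY
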