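import Cfsg.Agent.H29.PYSuz
import Cfsg.Agent.H29.PYMod
import Cfsg.Agent.H8.OddCore
import Mathlib.GroupTheory.Transfer

/-! The full linear group cannot be induced on `E` when the dimension is odd and at least three. -/

set_option autoImplicit false

namespace Cfsg.Agent.H29.PY

open Subgroup H41 CK

variable {G : Type*} [Group G] {W : Type*} [AddCommGroup W]

/-- `g` induces `f` in the coordinates `ε`. -/
def Ind (ε : W → G) (g : G) (f : W → W) : Prop := ∀ v, g * ε v * g⁻¹ = ε (f v)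

/-- All automorphisms are induced by conjugation. -/
def GLh (ε : W → G) : Prop :=
  ∀ f : W → W, (∀ v w, f (v + w) = f v + f w) → Function.Injective f → ∃ g : G, Ind ε g f

variable {E T : Subgroup G} {σ : G} {n : ℕ} {ε : W → G}

theorem Ind.mul {g g' : G} {f f' : W → W} (h : Ind ε g f) (h' : Ind ε g' f') :
    Ind ε (g * g') (f ∘ f') := fun v => by
  rw [Function.comp_apply, ← h, ← h']; group

theorem Ind.inv {g : G} {f f' : W → W} (h : Ind ε g f) (h' : ∀ v, f (f' v) = v) :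
    Ind ε g⁻¹ f' := fun v => by
  conv_lhs => rw [← h' v, ← h]
  group

theorem Ind.mem_cent (hc : Co E ε) {g g' : G} {f f' : W → W} (h : Ind ε g f) (h' : Ind ε g' f')
    (e : ∀ v, f v = f' v) : g⁻¹ * g' ∈ centralizer (E : Set G) :=
  mem_centralizer_iff.2 fun x hx => by
    obtain ⟨v, rfl⟩ := (hc.range x).1 hx
    have h1 : g * ε v * g⁻¹ = g' * ε v * g'⁻¹ := by rw [h, h', e]
    calc ε v * (g⁻¹ * g') = g⁻¹ * (g * ε v * g⁻¹) * g' := by group
      _ = _ := by rw [h1]; group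

theorem GLh.tvh [Ex2 W] (h : GLh ε) : Tvh ε := fun l a hl => by
  refine h _ (fun v w => ?_) (Function.Involutive.injective fun v => ?_)
  · rcases z01 (l v) with h1 | h1 <;> rcases z01 (l w) with h2 | h2 <;>
      simp [h1, h2, c2]
  · rcases z01 (l v) with h1 | h1 <;> simp [h1, hl, c2]

theorem Fr.eq_cent [Finite G] (h : Fr E T σ n) (hO : pPrimeCore 2 G = ⊥)
    (hab : ∀ x ∈ T, ∀ y ∈ T, x * y = y * x) : T = centralizer (E : Set G) := by
  have hE := h.py.normal
  have : Fact (Nat.Prime 2) := ⟨Nat.prime_two⟩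
  set C := centralizer (E : Set G) with hC
  obtain ⟨S, hS⟩ := (show IsPGroup 2 (T.subgroupOf C) from h.pg.comap_subtype).exists_le_sylow
  have hST : ∀ x : C, x ∈ (S : Subgroup C) ↔ (x : G) ∈ T := by
    obtain ⟨c, -, h3⟩ := h.syl _ (map_subtype_le _) (S.isPGroup'.map C.subtype)
    have h4 : Nat.card (S : Subgroup C) ≤ Nat.card (T.subgroupOf C) := by
      rw [Nat.card_congr (subgroupOfEquivOfLe h.le).toEquiv]
      exact Nat.card_le_card_of_injective
        (fun x : (S : Subgroup C) => (⟨c * x.1 * c⁻¹, h3 x ⟨x, x.2, rfl⟩⟩ : T))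
        (fun x y e => Subtype.ext (Subtype.ext (by simpa using e)))
    rw [← eq_of_le_of_card_ge hS h4]
    exact fun x => Iff.rfl
  have hP : normalizer ((S : Subgroup C) : Set C) ≤ centralizer ((S : Subgroup C) : Set C) := by
    intro g hg
    have hgT : (g : G) ∈ normalizer (T : Set G) := mem_normalizer_fintype fun x hx =>
      (hST _).1 ((mem_normalizer_iff.1 hg ⟨x, h.le hx⟩).1 ((hST _).2 hx))
    suffices h1 : (g : G) ∈ centralizer (T : Set G) from
      mem_centralizer_iff.2 fun x hx => Subtype.ext (mem_centralizer_iff.1 h1 x ((hST x).1 hx))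
    obtain ⟨j, r, hr, ho⟩ := Nat.exists_eq_two_pow_mul_odd (orderOf_pos (g : G)).ne'
    refine mem_of_pow_coprime (m := 2 ^ j) (n := r) (mem_centralizer_iff.2 fun x hx => ?_)
      (mem_centralizer_iff.2 fun x hx => hab x hx _ (h.mem_of_norm (pow_mem hgT r) (pow_mem g.2 r)
        (k := j) (by rw [← pow_mul, mul_comm, ← ho, pow_orderOf_eq_one])))
      (Nat.Coprime.pow_left j (Nat.coprime_two_left.2 hr))
    obtain ⟨k, hk⟩ := h.pg ⟨x, hx⟩
    refine (H61.commute_of_chain h.pg (g := (g : G) ^ 2 ^ j) ?_ (pow_mem hgT _)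
      (fun k x => x ^ 2 ^ k = 1) (fun x _ h1 => by simpa using h1) (fun k x hx h1 => ?_) k x hx
      (congrArg Subtype.val hk)).symm
    · exact Nat.Coprime.coprime_dvd_left (orderOf_dvd_of_pow_eq_one (by
        rw [← pow_mul, ← ho, pow_orderOf_eq_one])) (Nat.coprime_two_right.2 hr)
    · have h2 := (mem_normalizer_iff.1 (pow_mem hgT (2 ^ j)) x).1 hx
      rw [Commute.mul_pow (hab _ (inv_mem hx) _ h2), conj_pow, inv_pow, conj_of_cent (pow_mem g.2 _)
        ((h.py.mem _).2 (by rw [← pow_two, ← pow_mul, ← pow_succ, h1])), inv_mul_cancel]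
  have h1 := MonoidHom.ker_transferSylow_isComplement' S hP
  have h2 : (MonoidHom.transferSylow S hP).ker = ⊥ :=
    H8.core_eq_bot_iff.1 (H8.core_eq_bot_of_normal hO C) _ inferInstance (by
      rw [← h1.index_eq_card, ← Nat.not_even_iff_odd, even_iff_two_dvd]
      exact S.not_dvd_index)
  rw [h2, isComplement'_bot_left] at h1
  exact le_antisymm h.le fun x hx => (hST ⟨x, hx⟩).1 (h1 ▸ mem_top _)

/-- Restriction of an automorphism to the fixed points of a commuting one. -/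
def res {P : Type*} [CommGroup P] {m : ℕ} {η : MulAut P} (γ : MulAut P) (h : η * γ = γ * η)
    [Module (ZMod m) (Additive (η.toMonoidHom.eqLocus (MonoidHom.id P)))] :
    Additive (η.toMonoidHom.eqLocus (MonoidHom.id P)) ≃ₗ[ZMod m]
      Additive (η.toMonoidHom.eqLocus (MonoidHom.id P)) :=
  let f : η.toMonoidHom.eqLocus (MonoidHom.id P) ≃* η.toMonoidHom.eqLocus (MonoidHom.id P) :=
    { toFun := fun x => ⟨γ x, (DFunLike.congr_fun h x.1).trans (congrArg γ x.2)⟩
      invFun := fun x => ⟨γ.symm x, γ.injective ((DFunLike.congr_fun h (γ.symm x)).symm.trans (by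
        simpa using show η x.1 = x.1 from x.2))⟩
      left_inv := fun x => Subtype.ext (γ.symm_apply_apply x)
      right_inv := fun x => Subtype.ext (γ.apply_symm_apply x)
      map_mul' := fun x y => Subtype.ext (map_mul γ _ _) }
  (MulEquiv.toAdditive f).toLinearEquiv (ZMod.map_smul _)

variable {A : Type*} [AddCommGroup A] [Ex2 A]

/-- extension of a map of `U3` -/
def lf (j : U3 → U3) (v : U3 × A × A) : U3 × A × A := (j v.1, v.2)

/-- an automorphism of order three with fixed space `U3` -/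
def fH (v : U3 × A × A) : U3 × A × A := (v.1, v.2.2, v.2.1 + v.2.2)

theorem GLh.lf {ε : U3 × A × A → G} (h : GLh ε) (j : U3 → U3) (h1 : ∀ v w, j (v + w) = j v + j w)
    (h2 : ∀ v w, j v = j w → v = w) : ∃ g, Ind ε g (lf j) :=
  h _ (fun v w => Prod.ext (h1 _ _) rfl) fun v w e =>
    Prod.ext (h2 _ _ (congrArg Prod.fst e)) (congrArg Prod.snd e :)

theorem Fr.not_glh [Finite G] (h : Fr E T σ n) (hC : T = centralizer (E : Set G))
    (hab : ∀ x ∈ T, ∀ y ∈ T, x * y = y * x) {ε : U3 × A × A → G} (hc : Co E ε) (hg : GLh ε) :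
    False := by
  classical
  have hE := h.py.normal
  have hN : T.Normal := hC ▸ inferInstance
  let _ : CommGroup T :=
    { (inferInstance : Group T) with mul_comm := fun x y => Subtype.ext (hab _ x.2 _ y.2) }
  let c : G →* MulAut T := MulAut.conjNormal
  have hcc : ∀ (g : G) (x : T), (c g x : G) = g * x * g⁻¹ := fun _ _ => rfl
  have hcT : ∀ g ∈ T, c g = 1 := fun g hg => MulEquiv.ext fun x => Subtype.ext (by
    rw [hcc, hab g hg x x.2, mul_inv_cancel_right]; rfl)
  have hmem : ∀ {g g' : G} {f f' : U3 × A × A → U3 × A × A}, Ind ε g f → Ind ε g' f' →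
      (∀ v, f v = f' v) → g⁻¹ * g' ∈ T := fun h1 h2 e => hC ▸ h1.mem_cent hc h2 e
  have hsame : ∀ {g g' : G} {f f' : U3 × A × A → U3 × A × A}, Ind ε g f → Ind ε g' f' →
      (∀ v, f v = f' v) → c g = c g' := fun h1 h2 e => by
    have := hcT _ (hmem h1 h2 e)
    rwa [map_mul, map_inv, inv_mul_eq_one] at this
  have h1 : Ind ε 1 id := fun v => by simp
  obtain ⟨t, ht⟩ := hg fH (fun v w => by simp [fH, c2]) (Function.LeftInverse.injective
    (g := fH ∘ fH) fun v => by simp [fH, c2])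
  obtain ⟨a, ha⟩ := hg.lf (fun v => (v.2.2, v.2.1, v.1)) (by decide) (by decide)
  obtain ⟨b, hb⟩ := hg.lf (fun v => (v.1, v.2.1 + v.2.2, v.2.1)) (by decide) (by decide)
  have ha' := ha.inv (f' := lf fun v => (v.2.2, v.2.1, v.1)) fun v => rfl
  have hb' := hb.inv (f' := lf fun v => (v.1, v.2.2, v.2.1 + v.2.2)) fun v => by simp [lf, c2]
  set s := a * b * a⁻¹ * b⁻¹ with hs
  have hsJ : Ind ε s (lf jJ) := fun v => (((ha.mul hb).mul ha').mul hb' v).trans (by
    simp [lf, jJ, c2])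
  have hcm : ∀ {g : G} {j : U3 → U3}, Ind ε g (lf j) → c t * c g = c g * c t := fun h2 => by
    rw [← map_mul, ← map_mul]
    exact hsame (ht.mul h2) (h2.mul ht) fun v => rfl
  have ht3 : ∀ x, c t (c t (c t x)) = x := fun x => by
    have := hsame ((ht.mul ht).mul ht) h1 fun v => by simp [fH, c2]
    rw [map_mul, map_mul, map_one] at this
    exact DFunLike.congr_fun this x
  have hu := hsJ.mul hsJ
  have hw : s * s * (s * s) ∈ T := by
    simpa using hmem h1 (hu.mul hu) fun v => by simp [lf, jJ, c2]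
  obtain ⟨e, he, x0, hx0⟩ : ∃ e, (∀ x : T, x ^ 2 ^ (e + 1) = 1) ∧ ∃ x : T, x ^ 2 ^ e ≠ 1 := by
    have : Fact (Nat.Prime 2) := ⟨Nat.prime_two⟩
    obtain ⟨k, hk⟩ := IsPGroup.iff_card.1 h.pg
    have hex : ∃ k, ∀ x : T, x ^ 2 ^ k = 1 := ⟨k, fun x => hk ▸ pow_card_eq_one'⟩
    have h2 := Nat.find_spec hex
    rcases h3 : Nat.find hex with _ | e
    · obtain ⟨z, hz, hz1⟩ := h.py.exists_ne
      rw [h3] at h2
      exact (hz1 (by simpa using h2 ⟨z, h.E_le hz⟩)).elim
    · exact ⟨e, h3 ▸ h2, not_forall.1 (Nat.find_min hex (by omega))⟩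
  choose κ hκ using fun x : T => (hc.range ((x ^ 2 ^ e : T) : G)).1 ((h.py.mem _).2 (by
    rw [← coe_mul, ← pow_two, ← pow_mul, ← pow_succ, he, coe_one]))
  have hκm : ∀ x y, κ (x * y) = κ x + κ y := fun x y => hc.inj (by
    rw [hc.add, hκ, hκ, hκ, mul_pow, coe_mul])
  have hκ0 : ∀ x, κ x = 0 ↔ x ^ 2 ^ e = 1 := fun x => by
    rw [← hc.eq_one, hκ, OneMemClass.coe_eq_one]
  have hκc : ∀ {g : G} {f : U3 × A × A → U3 × A × A}, Ind ε g f → ∀ x, κ (c g x) = f (κ x) :=
    fun h2 x => hc.inj (by rw [← h2, hκ, hκ, ← map_pow, hcc])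
  have hκs : ∀ w, ∃ x, κ x = w := fun w => by
    by_cases h2 : w = 0
    · exact ⟨1, by rw [h2, hκ0, one_pow]⟩
    obtain ⟨g, h3⟩ := h.py.trans _ (hc.mem (κ x0)) _ (hc.mem w)
      (mt (hc.eq_one.trans (hκ0 _)).1 hx0) (mt hc.eq_one.1 h2)
    exact ⟨c g x0, hc.inj (by rw [← h3, hκ, hκ, ← map_pow, hcc])⟩
  have hfix : ∀ v : U3 × A × A, fH v = v → v = (v.1, 0, 0) := by
    rintro ⟨u, x, y⟩ h2
    simp only [fH, Prod.mk.injEq, true_and] at h2
    obtain ⟨rfl, h2⟩ := h2
    rw [aa] at h2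
    rw [← h2]
  set T1 := (c t).toMonoidHom.eqLocus (MonoidHom.id T) with hT1
  have hav : ∀ x, x * c t x * c t (c t x) ∈ T1 := fun x => by
    show c t _ = x * c t x * c t (c t x)
    rw [map_mul, map_mul, ht3, mul_comm _ x, mul_assoc]
  have hκ1 : ∀ x ∈ T1, κ x = ((κ x).1, 0, 0) := fun x hx =>
    hfix _ ((hκc ht x).symm.trans (congrArg κ hx))
  have hκ2 : ∀ u : U3, ∃ x ∈ T1, κ x = (u, 0, 0) := fun u => by
    obtain ⟨x, hx⟩ := hκs (u, 0, 0)
    exact ⟨_, hav x, by simp [hκm, hκc ht, hx, fH, Prod.ext_iff, c2]⟩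
  let _ : Module (ZMod (2 ^ (e + 1))) (Additive T1) := AddCommGroup.zmodModule fun x =>
    Subtype.ext (he x.toMul.1)
  let π : Additive T1 →+ U3 := AddMonoidHom.mk' (fun x => (κ x.toMul.1).1) fun x y =>
    congrArg Prod.fst (hκm _ _)
  let w : T := ⟨_, hw⟩
  have hsw : c s w = w := Subtype.ext (by rw [hcc]; show s * (s * s * (s * s)) * s⁻¹ = s * s * (s * s); group)
  have hst : ∀ x, c s (c t x) = c t (c s x) := fun x => (DFunLike.congr_fun (hcm hsJ) x).symm
  obtain ⟨y, hy⟩ := fixed_mem_norm π (fun u => by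
      obtain ⟨x, hx, h2⟩ := hκ2 u
      exact ⟨Additive.ofMul ⟨x, hx⟩, congrArg Prod.fst h2⟩)
    (fun x => by
      refine Iff.trans ?_ ((hκ0 x.toMul.1).trans
        ⟨fun h2 => Subtype.ext h2, fun h2 => congrArg Subtype.val h2⟩)
      rw [hκ1 _ x.toMul.2]
      exact ⟨fun h2 => Prod.ext h2 rfl, congrArg Prod.fst⟩)
    (fun x hx => by
      obtain ⟨v, hv⟩ := (hc.range (x.toMul.1 : G)).1 ((h.py.mem _).2 (by
        rw [← pow_two]; exact congrArg (fun z : Additive T1 => (z.toMul.1 : G)) hx))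
      have h2 := hfix v (hc.inj (by rw [← ht, hv, ← hcc]; exact congrArg Subtype.val x.toMul.2))
      obtain ⟨z, hz, h3⟩ := hκ2 v.1
      exact ⟨Additive.ofMul ⟨z, hz⟩, Subtype.ext (Subtype.ext (
        hv.symm.trans (by rw [h2, ← h3, hκ]; rfl)))⟩)
    (res (c a) (hcm ha)) (res (c b) (hcm hb)) (res (c s) (hcm hsJ))
    (LinearEquiv.ext fun x => Subtype.ext (by
      show c s x.toMul.1 = (c a * c b * (c a)⁻¹ * (c b)⁻¹) x.toMul.1
      rw [hs, map_mul, map_mul, map_mul, map_inv, map_inv]))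
    (fun x => Subtype.ext (by
      have := hcT _ hw
      rw [map_mul, map_mul] at this
      exact DFunLike.congr_fun this x.toMul.1))
    (fun x => congrArg Prod.fst (hκc hsJ x.toMul.1))
    (x := Additive.ofMul ⟨_, hav w⟩) (Subtype.ext (by
      show c s (w * c t w * c t (c t w)) = w * c t w * c t (c t w)
      simp only [map_mul, hst, hsw]))
  let ν : T →* T := MonoidHom.id T * (c (s * s)).toMonoidHom
  have hν : ∀ x, ν x = x * c s (c s x) := fun x => by
    show x * c (s * s) x = _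
    rw [map_mul]; rfl
  have hsq : ∀ x : T, (s * s * x) * (s * s * x) = (w * ν x : T) := fun x => by
    have h2 : s * s * x * (s * s * x) = c (s * s) x * (w * x : T) := by
      rw [hcc, coe_mul]; show _ = _ * (s * s * (s * s) * x); simp [mul_assoc]
    rw [h2, ← coe_mul, mul_left_comm, mul_comm _ x]; rfl
  have h2 : w⁻¹ * c t w ∈ ν.range := by
    have h3 := hmem (hu.mul ht) (ht.mul hu) fun v => rfl
    have h4 := hN.conj_mem _ h3 t
    refine ⟨⟨_, h4⟩, inv_mul_eq_iff_eq_mul.2 (Subtype.ext ?_) |>.symm⟩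
    rw [← hsq, hcc]
    show t * (s * s * (s * s)) * t⁻¹ = _
    group
  have h3 : ∀ x ∈ ν.range, c t x ∈ ν.range := by
    rintro _ ⟨x, rfl⟩
    exact ⟨c t x, by rw [hν, hν, map_mul (c t), hst, hst]⟩
  have h4 : w ^ 3 ∈ ν.range := by
    have h5 : w * c t w * c t (c t w) ∈ ν.range :=
      ⟨y.toMul.1, (hν _).trans (congrArg (fun z : Additive T1 => z.toMul.1) hy).symm⟩
    have h6 := h3 _ h2
    rw [map_mul, map_inv] at h6
    have h7 := mul_mem h5 (inv_mem (mul_mem (mul_mem h2 h2) h6))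
    convert h7 using 1
    apply Additive.ofMul.injective
    simp only [ofMul_mul, ofMul_inv, ofMul_pow]
    abel
  obtain ⟨z, hz⟩ := mem_of_pow_coprime h4 (he w ▸ one_mem _)
    (Nat.Coprime.pow_right _ (by norm_num))
  have h5 : s * s * (z⁻¹ : T) ∈ T := h.E_le ((h.py.mem _).2 (by
    rw [hsq, map_inv, hz, mul_inv_cancel, coe_one]))
  have h6 := hu ((1, 0, 0), 0)
  rw [conj_of_cent (hC ▸ (mul_mem_cancel_right (z⁻¹).2).1 h5) (hc.mem _)] at h6
  exact absurd (congrArg Prod.fst (hc.inj h6))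
    (show ((1, 0, 0) : U3) ≠ jJ (jJ (1, 0, 0)) by decide)

end Cfsg.Agent.H29.PY
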