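import Cfsg.Agent.H29.PYHig
import Cfsg.Agent.H43.ZW

/-! Groups whose involutions form one class and, with `1`, a subgroup of order `2 ^ n`,
`2 ^ n - 1` prime. -/

set_option autoImplicit false

namespace Cfsg.Agent.H29.PY

open Subgroup H41

variable {G : Type*} [Group G]

/-- The involutions together with `1` form `E`, of order `2 ^ n` with `2 ^ n - 1` prime, and are
conjugate. -/
structure Py (E : Subgroup G) (n : ℕ) : Prop where
  mem : ∀ x, x ∈ E ↔ x * x = 1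
  card : Nat.card E = 2 ^ n
  two_le : 2 ≤ n
  prime : (2 ^ n - 1).Prime
  trans : ∀ x ∈ E, ∀ y ∈ E, x ≠ 1 → y ≠ 1 → ∃ g, g * x * g⁻¹ = y

namespace Py

variable {E : Subgroup G} {n : ℕ}

theorem normal (h : Py E n) : E.Normal := ⟨fun x hx g => (h.mem _).2 (by
  calc g * x * g⁻¹ * (g * x * g⁻¹) = g * (x * x) * g⁻¹ := by group
    _ = 1 := by rw [(h.mem x).1 hx]; group)⟩

theorem sq (h : Py E n) {x : G} (hx : x ∈ E) : x * x = 1 := (h.mem x).1 hx

theorem inv_eq (h : Py E n) {x : G} (hx : x ∈ E) : x⁻¹ = x := inv_eq_of_mul_eq_one_right (h.sq hx)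

theorem comm (h : Py E n) {x y : G} (hx : x ∈ E) (hy : y ∈ E) : x * y = y * x := by
  rw [← h.inv_eq (mul_mem hx hy), mul_inv_rev, h.inv_eq hx, h.inv_eq hy]

theorem le_cent (h : Py E n) : E ≤ centralizer (E : Set G) := fun _ hx =>
  mem_centralizer_iff.2 fun _ hy => h.comm hy hx

theorem pg (h : Py E n) : IsPGroup 2 E := IsPGroup.of_card h.card

theorem ncard (h : Py E n) : {y : G | y ∈ E ∧ y ≠ 1}.ncard = 2 ^ n - 1 := by
  have e : {y : G | y ∈ E ∧ y ≠ 1} = (E : Set G) \ {1} := rfl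
  rw [e, Set.ncard_sdiff_singleton_of_mem E.one_mem, ← h.card]
  rfl

theorem exists_ne (h : Py E n) : ∃ e ∈ E, e ≠ 1 := by
  obtain ⟨e, he⟩ := Set.nonempty_of_ncard_ne_zero (h.ncard.trans_ne h.prime.ne_zero)
  exact ⟨e, he⟩

end Py

/-- A Sylow 2-subgroup `T` of `C(E)` with an element `σ` acting regularly on the involutions. -/
structure Fr (E T : Subgroup G) (σ : G) (n : ℕ) : Prop where
  py : Py E n
  pg : IsPGroup 2 T
  le : T ≤ centralizer (E : Set G)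
  syl : ∀ Q ≤ centralizer (E : Set G), IsPGroup 2 Q →
    ∃ c ∈ centralizer (E : Set G), ∀ x ∈ Q, c * x * c⁻¹ ∈ T
  frat : ∀ g, ∃ h ∈ normalizer (T : Set G), ∀ e ∈ E, h * e * h⁻¹ = g * e * g⁻¹
  norm : σ ∈ normalizer (T : Set G)
  pow : ∀ x ∈ T, σ ^ (2 ^ n - 1) * x * (σ ^ (2 ^ n - 1))⁻¹ = x
  fpf : ∀ x ∈ T, σ * x * σ⁻¹ = x → x = 1
  cases : (∀ x ∈ T, ∀ y ∈ T, x * y = y * x) ∨
    ((∀ x ∈ T, x * x ∈ E) ∧ (Nat.card T = (2 ^ n) ^ 2 ∨ Nat.card T = (2 ^ n) ^ 3))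

theorem conj_of_cent {E : Subgroup G} {c e : G} (hc : c ∈ centralizer (E : Set G)) (he : e ∈ E) :
    c * e * c⁻¹ = e := by
  rw [← mem_centralizer_iff.1 hc e he, mul_inv_cancel_right]

theorem Py.exists_fr [Finite G] {E : Subgroup G} {n : ℕ} (h : Py E n) :
    ∃ (T : Subgroup G) (σ : G), Fr E T σ n := by
  have := h.normal
  have : Fact (Nat.Prime 2) := ⟨Nat.prime_two⟩
  have : Fact (2 ^ n - 1).Prime := ⟨h.prime⟩
  set C := centralizer (E : Set G) with hC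
  obtain ⟨S⟩ : Nonempty (Sylow 2 C) := inferInstance
  set T : Subgroup G := (S : Subgroup C).map C.subtype with hT
  have hpg : IsPGroup 2 T := S.isPGroup'.map _
  have hle : T ≤ C := map_subtype_le _
  have hsyl : ∀ Q ≤ C, IsPGroup 2 Q → ∃ c ∈ C, ∀ x ∈ Q, c * x * c⁻¹ ∈ T := fun Q hQ hQ2 => by
    obtain ⟨c, hc⟩ := H43.exists_conj_le_sylow S (show IsPGroup 2 (Q.subgroupOf C) from hQ2.comap_subtype)
    exact ⟨c, c.2, fun x hx => ⟨_, hc ⟨x, hQ hx⟩ hx, rfl⟩⟩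
  have hfr : ∀ g, ∃ h ∈ normalizer (T : Set G), ∀ e ∈ E, h * e * h⁻¹ = g * e * g⁻¹ := fun g => by
    have hg : g ∈ normalizer (T : Set G) ⊔ C := by
      rw [S.normalizer_sup_eq_top]; exact mem_top g
    obtain ⟨a, ha, c, hc, rfl⟩ := mem_sup_of_normal_right.1 hg
    refine ⟨a, ha, fun e he => ?_⟩
    conv_lhs => rw [← conj_of_cent hc he]
    group
  have hET : E ≤ T := fun e he => by
    obtain ⟨c, hc, h1⟩ := hsyl E h.le_cent h.pg
    simpa only [conj_of_cent hc he] using h1 e he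
  obtain ⟨e, he, he1⟩ := h.exists_ne
  set N := normalizer (T : Set G) with hN
  let _ : MulAction N G := MulAction.compHom G (MulAut.conj.comp N.subtype)
  have hsm : ∀ (g : N) (x : G), g • x = g * x * g⁻¹ := fun g x => rfl
  have hidx : (MulAction.stabilizer N e).index = 2 ^ n - 1 := by
    rw [MulAction.index_stabilizer, ← h.ncard]
    congr 1
    ext y
    constructor
    · rintro ⟨g, rfl⟩
      refine ⟨h.normal.conj_mem e he g, fun h1 => he1 ?_⟩
      simpa [hsm] using h1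
    · rintro ⟨hy, hy1⟩
      obtain ⟨g, rfl⟩ := h.trans e he y hy he1 hy1
      obtain ⟨a, ha, h1⟩ := hfr g
      exact ⟨⟨a, ha⟩, h1 e he⟩
  obtain ⟨R⟩ : Nonempty (Sylow (2 ^ n - 1) N) := inferInstance
  obtain ⟨σ, hσ, hσe⟩ : ∃ σ ∈ (R : Subgroup N), σ ∉ MulAction.stabilizer N e := by
    by_contra hcon
    push Not at hcon
    exact R.not_dvd_index (hidx.symm.dvd.trans (index_dvd_of_le hcon))
  obtain ⟨k, hk⟩ := R.isPGroup' ⟨σ, hσ⟩
  have hk' : σ ^ (2 ^ n - 1) ^ k = 1 := congrArg Subtype.val hk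
  have hcT : ∀ x : T, x * x = 1 → ∀ y, x * y = y * x := fun x hx y => Subtype.ext
    (mem_centralizer_iff.1 (hle y.2) x ((h.mem _).2 (congrArg Subtype.val hx)))
  have hZ : Nat.card {x : T // x * x = 1} = 2 ^ n := h.card ▸ Nat.card_congr
    { toFun := fun x => ⟨x.1.1, (h.mem _).2 (congrArg Subtype.val x.2)⟩
      invFun := fun x => ⟨⟨x.1, hET x.2⟩, Subtype.ext (h.sq x.2)⟩
      left_inv := fun _ => rfl
      right_inv := fun _ => rfl }
  have hH := hig_of hpg hcT h.two_le hZ h.prime (σ := T.normalizerMonoidHom σ) (k := k)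
    (by rw [← map_pow, hk', map_one])
    ⟨⟨e, hET he⟩, Subtype.ext (h.sq he), fun h1 => hσe (congrArg Subtype.val h1)⟩
  refine ⟨T, σ, h, hpg, hle, hsyl, hfr, σ.2, fun x hx => ?_, fun x hx h1 => ?_, ?_⟩
  · have h1 := hH.pow_eq_one
    rw [← map_pow] at h1
    exact congrArg (fun f : MulAut T => (f ⟨x, hx⟩ : G)) h1
  · rcases hH.fpf 1 ⟨x, hx⟩ (by rw [pow_one]; exact Subtype.ext h1) with h2 | h2
    · exact congrArg Subtype.val h2
    · exact (h.prime.one_lt.ne' (Nat.dvd_one.1 h2)).elim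
  · by_cases hab : ∀ x ∈ T, ∀ y ∈ T, x * y = y * x
    · exact Or.inl hab
    push Not at hab
    obtain ⟨x, hx, y, hy, hxy⟩ := hab
    have hna : ∃ x y : T, x * y ≠ y * x :=
      ⟨⟨x, hx⟩, ⟨y, hy⟩, fun h1 => hxy (congrArg Subtype.val h1)⟩
    exact Or.inr ⟨fun z hz => (h.mem _).2 (congrArg Subtype.val (hH.sq_mem_Z hna ⟨z, hz⟩)),
      hH.card_eq_or hna⟩

namespace Fr

variable {E T : Subgroup G} {σ : G} {n : ℕ}

theorem E_le (h : Fr E T σ n) : E ≤ T := fun e he => by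
  obtain ⟨c, hc, h1⟩ := h.syl E h.py.le_cent h.py.pg
  simpa only [conj_of_cent hc he] using h1 e he

theorem cent (h : Fr E T σ n) {x e : G} (hx : x ∈ T) (he : e ∈ E) : e * x = x * e :=
  mem_centralizer_iff.1 (h.le hx) e he

theorem sq_mul (h : Fr E T σ n) {x e : G} (hx : x ∈ T) (he : e ∈ E) : x * e * (x * e) = x * x := by
  rw [mul_assoc, ← mul_assoc e, h.cent hx he, mul_assoc, h.py.sq he, mul_one]

theorem kap_mem (h : Fr E T σ n) {x y : G} (hx : x ∈ T) (hy : y ∈ T) : kap x y ∈ E := by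
  rcases h.cases with h1 | ⟨h1, -⟩
  · rw [kap_eq_one_iff.2 (h1 x hx y hy)]; exact one_mem _
  · have e : kap x y = (x * x)⁻¹ * (x * y * (x * y)) * (y * y)⁻¹ := by rw [mul_sq_eq]; group
    rw [e]
    exact mul_mem (mul_mem (inv_mem (h1 x hx)) (h1 _ (mul_mem hx hy))) (inv_mem (h1 y hy))

/-- A 2-element of `C(E)` normalizing `T` lies in `T`. -/
theorem mem_of_norm [Finite G] (h : Fr E T σ n) {u : G} (hu : u ∈ normalizer (T : Set G))
    (hc : u ∈ centralizer (E : Set G)) {k : ℕ} (hk : u ^ 2 ^ k = 1) : u ∈ T := by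
  have : Fact (Nat.Prime 2) := ⟨Nat.prime_two⟩
  have h1 : IsPGroup 2 (zpowers u) := IsPGroup.of_card (n := (Nat.card (zpowers u)).factorization 2) (by
    obtain ⟨i, -, e⟩ := (Nat.dvd_prime_pow Nat.prime_two).1 (orderOf_dvd_of_pow_eq_one hk)
    rw [Nat.card_zpowers, e, Nat.Prime.factorization_pow Nat.prime_two]; simp)
  have h2 : IsPGroup 2 (zpowers u ⊔ T : Subgroup G) :=
    h1.to_sup_of_normal_right' h.pg (zpowers_le.2 hu)
  obtain ⟨c, -, h3⟩ := h.syl _ (sup_le (zpowers_le.2 hc) h.le) h2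
  have h4 : Nat.card (zpowers u ⊔ T : Subgroup G) ≤ Nat.card T := Nat.card_le_card_of_injective
    (fun x : (zpowers u ⊔ T : Subgroup G) => (⟨c * x * c⁻¹, h3 x x.2⟩ : T))
    (fun x y e => Subtype.ext (by simpa using e))
  rw [eq_of_le_of_card_ge (le_sup_right : T ≤ zpowers u ⊔ T) h4]
  exact mem_sup_left (mem_zpowers u)

end Fr

end Cfsg.Agent.H29.PY
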