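import Cfsg.Agent.H41.Higman
import Cfsg.Agent.H61.Small

/-! Two-groups with a Mersenne prime number of involutions permuted by a `p`-automorphism. -/

set_option autoImplicit false

namespace Cfsg.Agent.H29.PY

open Subgroup H41

variable {P : Type*} [Group P]

theorem pow_gcd_mem {S : Subgroup P} {g : P} {m n : ℕ} (hm : g ^ m ∈ S) (hn : g ^ n ∈ S) :
    g ^ Nat.gcd m n ∈ S := by
  rw [← zpow_natCast, Nat.gcd_eq_gcd_ab, zpow_add, zpow_mul, zpow_mul, zpow_natCast, zpow_natCast]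
  exact mul_mem (zpow_mem hm _) (zpow_mem hn _)

theorem mem_of_pow_coprime {S : Subgroup P} {g : P} {m n : ℕ} (hm : g ^ m ∈ S) (hn : g ^ n ∈ S)
    (h : Nat.Coprime m n) : g ∈ S := by
  have := pow_gcd_mem hm hn
  rwa [h, pow_one] at this

/-- The elements of order at most two, when they are central. -/
def Zs (hc : ∀ x : P, x * x = 1 → ∀ y, x * y = y * x) : Subgroup P where
  carrier := {x | x * x = 1}
  mul_mem' := fun {x y} hx hy => by
    show x * y * (x * y) = 1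
    rw [mul_sq_eq, kap_eq_one_iff.2 (hc x hx y), hx, hy]; group
  one_mem' := one_mul 1
  inv_mem' := fun {x} hx => by
    show x⁻¹ * x⁻¹ = 1
    rw [← mul_inv_rev, hx, inv_one]

theorem card_le_cube [Finite P] (hc : ∀ x : P, x * x = 1 → ∀ y, x * y = y * x)
    (h4 : ∀ x : P, x * x * (x * x) = 1) : Nat.card P ≤ Nat.card (Zs hc) ^ 3 := by
  set Z := Zs hc
  have hcj : ∀ z ∈ Z, ∀ y : P, y⁻¹ * z * y = z := fun z hz y => by
    rw [mul_assoc, hc z hz y, inv_mul_cancel_left]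
  have hN : Z.Normal := ⟨fun z hz y => by
    have := hcj z hz y⁻¹
    rw [inv_inv] at this
    rwa [this]⟩
  have : Fact (Nat.Prime 2) := ⟨Nat.prime_two⟩
  have hQ : ∀ x : P ⧸ Z, x * x = 1 := fun x => by
    obtain ⟨x, rfl⟩ := QuotientGroup.mk_surjective x
    exact (QuotientGroup.eq_one_iff _).2 (h4 x)
  let _ : CommGroup (P ⧸ Z) :=
    { (inferInstance : Group (P ⧸ Z)) with mul_comm := mul_comm_of_sq hQ }
  let _ : Module (ZMod 2) (Additive (P ⧸ Z)) := AddCommGroup.zmodModule (fun x => by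
    rw [two_nsmul]; exact hQ x)
  have hZ : ∀ x : Z, x * x = 1 := fun x => Subtype.ext x.2
  let _ : CommGroup Z := { (inferInstance : Group Z) with mul_comm := mul_comm_of_sq hZ }
  let _ : Module (ZMod 2) (Additive Z) := AddCommGroup.zmodModule (fun x => by
    rw [two_nsmul]; exact hZ x)
  have hk : ∀ x y : P, kap x y ∈ Z := fun x y => by
    have e : kap x y = (x * x)⁻¹ * (x * y * (x * y)) * (y * y)⁻¹ := by rw [mul_sq_eq]; group
    rw [e]
    exact mul_mem (mul_mem (inv_mem (h4 x)) (h4 _)) (inv_mem (h4 y))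
  let q : Additive (P ⧸ Z) → Additive Z := fun v => Quotient.liftOn' (Additive.toMul v)
    (fun x => Additive.ofMul (⟨x * x, h4 x⟩ : Z)) (fun x y e => by
      have h1 := QuotientGroup.leftRel_apply.1 e
      have : y = x * (x⁻¹ * y) := by group
      refine congrArg Additive.ofMul (Subtype.ext ?_)
      show x * x = y * y
      have h2 : x⁻¹ * y * (x⁻¹ * y) = 1 := h1
      rw [this, mul_sq_eq, kap_eq_one_iff.2 (hc _ h1 x).symm, h2, mul_one, mul_one])
  have hq : ∀ x : P, q (Additive.ofMul (x : P ⧸ Z)) = Additive.ofMul (⟨x * x, h4 x⟩ : Z) :=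
    fun x => rfl
  have hz := zmod_two_cases
  have h0 : q 0 = 0 := (hq 1).trans (congrArg Additive.ofMul (Subtype.ext (mul_one 1)))
  have hpol : ∀ x y : P, QuadraticMap.polar q (Additive.ofMul (x : P ⧸ Z))
      (Additive.ofMul (y : P ⧸ Z)) = Additive.ofMul (⟨kap x y, hk x y⟩ : Z) := fun x y => by
    show q (Additive.ofMul ((x * y : P) : P ⧸ Z)) - _ - _ = _
    rw [hq, hq, hq, sub_sub, sub_eq_iff_eq_add, add_comm, add_right_comm]
    exact congrArg Additive.ofMul (Subtype.ext (mul_sq_eq x y))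
  let Q : QuadraticMap (ZMod 2) (Additive (P ⧸ Z)) (Additive Z) := QuadraticMap.ofPolar q
    (fun a x => by rcases hz a with rfl | rfl <;> simp [h0])
    (fun x x' y => by
      obtain ⟨x, rfl⟩ := QuotientGroup.mk_surjective (s := Z) x
      obtain ⟨x', rfl⟩ := QuotientGroup.mk_surjective (s := Z) x'
      obtain ⟨y, rfl⟩ := QuotientGroup.mk_surjective (s := Z) y
      refine (hpol (x * x') y).trans ((congrArg₂ (· + ·) (hpol x y) (hpol x' y)).trans ?_).symm
      refine congrArg Additive.ofMul (Subtype.ext ?_)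
      show kap x y * kap x' y = kap (x * x') y
      rw [kap_mul_left, hcj _ (hk x y)])
    (fun a x y => by rcases hz a with rfl | rfl <;> simp [h0, QuadraticMap.polar])
  have h1 := finrank_le_of_anisotropic Q (fun v hv => by
    obtain ⟨x, rfl⟩ := QuotientGroup.mk_surjective (s := Z) v
    exact (QuotientGroup.eq_one_iff x).2 (congrArg (fun w : Additive Z => (w.toMul : P)) hv))
  have h2 := Module.natCard_eq_pow_finrank (K := ZMod 2) (V := Additive Z)
  have h3 := Module.natCard_eq_pow_finrank (K := ZMod 2) (V := Additive (P ⧸ Z))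
  rw [Nat.card_zmod] at h2 h3
  rw [Subgroup.card_eq_card_quotient_mul_card_subgroup Z, pow_succ]
  apply Nat.mul_le_mul_right
  refine le_trans (le_of_eq h3) ?_
  rw [show Nat.card Z = _ from h2, ← pow_mul, mul_comm]
  exact Nat.pow_le_pow_right (by norm_num) h1

theorem not_sq_dvd {n e : ℕ} (hn : 2 ≤ n) (h1 : 1 ≤ e) (h2 : e ≤ 2 * n) :
    ¬ (2 ^ n - 1) ^ 2 ∣ 2 ^ e - 1 := by
  intro h
  have h4 : 4 ≤ 2 ^ n := Nat.pow_le_pow_right (n := 2) (by norm_num) hn
  obtain ⟨p, hp⟩ : ∃ p, 2 ^ n = p + 1 := ⟨2 ^ n - 1, by omega⟩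
  rw [hp, Nat.add_sub_cancel] at h
  rcases lt_or_ge e n with h3 | h3
  · have := Nat.le_of_dvd (by have := Nat.one_lt_two_pow (n := e) (by omega); omega) h
    have : 2 ^ e < 2 ^ n := Nat.pow_lt_pow_right (by norm_num) h3
    nlinarith [Nat.sub_le (2 ^ e) 1]
  obtain ⟨d, rfl⟩ := Nat.exists_eq_add_of_le h3
  have hd : 0 < 2 ^ d := by positivity
  obtain ⟨r, hr⟩ : ∃ r, 2 ^ d = r + 1 := ⟨2 ^ d - 1, by omega⟩
  have e1 : 2 ^ (n + d) - 1 = p * (r + 1) + r := by
    rw [pow_add, hp, hr]; apply Nat.sub_eq_of_eq_add; ring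
  rw [e1] at h
  have h5 : p ∣ r := (Nat.dvd_add_right (dvd_mul_right p _)).1 ((dvd_pow_self p two_ne_zero).trans h)
  have h6 : r ≤ p := by
    have : 2 ^ d ≤ 2 ^ n := Nat.pow_le_pow_right (by norm_num) (by omega)
    omega
  rcases Nat.eq_zero_or_pos r with rfl | h7
  · have := Nat.le_of_dvd (by omega) h
    nlinarith
  · obtain rfl : p = r := le_antisymm (Nat.le_of_dvd h7 h5) h6
    rw [show p * (p + 1) + p = p ^ 2 + p * 2 by ring, Nat.dvd_add_right dvd_rfl, pow_two,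
      Nat.mul_dvd_mul_iff_left h7] at h
    have := Nat.le_of_dvd two_pos h
    omega

theorem pow_eq_one_of_fix [Finite P] (hP : IsPGroup 2 P)
    (hc : ∀ x : P, x * x = 1 → ∀ y, x * y = y * x) {n : ℕ} (hn : 2 ≤ n)
    (hZ : Nat.card {x : P // x * x = 1} = 2 ^ n) (hp : (2 ^ n - 1).Prime) {σ : MulAut P} {k : ℕ}
    (hk : σ ^ (2 ^ n - 1) ^ k = 1) (hfix : ∀ x : P, x * x = 1 → (σ ^ (2 ^ n - 1)) x = x) :
    σ ^ (2 ^ n - 1) = 1 := by
  classical
  have : Fact (Nat.Prime 2) := ⟨Nat.prime_two⟩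
  have hodd : Nat.Coprime (2 ^ n - 1) 2 := by
    rw [Nat.coprime_two_right]
    exact Nat.Even.sub_odd Nat.one_le_two_pow (Nat.even_pow.2 ⟨even_two, by omega⟩) odd_one
  have hns := fun e => not_sq_dvd (n := n) (e := e) hn
  generalize 2 ^ n - 1 = p at *
  obtain ⟨D, hD, h4, -, hf⟩ := H61.exists_small_critical hP
  refine hf _ ?_ ?_
  · have : orderOf (σ ^ p) ∣ p ^ k := orderOf_dvd_of_pow_eq_one (by
      rw [← pow_mul, mul_comm, pow_mul, hk, one_pow])
    exact Nat.Coprime.coprime_dvd_left this (Nat.Coprime.pow_left k hodd)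
  by_contra hne
  have hex : ∃ j, ∀ d ∈ D, (σ ^ p ^ j) d = d := ⟨k, fun d _ => by rw [hk]; rfl⟩
  have hj := Nat.find_spec hex
  have hstab : ∀ (g : MulAut P) (x : P), g ∈ MulAction.stabilizer (MulAut P) x ↔ g x = x :=
    fun g x => Iff.rfl
  have hmono : ∀ {a b : ℕ} {x : P}, a ∣ b → (σ ^ a) x = x → (σ ^ b) x = x := by
    rintro a _ x ⟨c, rfl⟩ h
    rw [pow_mul]
    exact (hstab _ _).1 (pow_mem ((hstab _ _).2 h) c)
  obtain ⟨j, ej⟩ : ∃ j, Nat.find hex = j + 2 := by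
    rcases h : Nat.find hex with _ | _ | j
    · rw [h] at hj
      exact (hne fun d hd => hmono (pow_dvd_pow p zero_le_one |>.trans (pow_one p).dvd)
        (hj d hd)).elim
    · rw [h, zero_add, pow_one] at hj
      exact (hne hj).elim
    · exact ⟨j, rfl⟩
  have hmin := Nat.find_min hex (show j + 1 < Nat.find hex by omega)
  rw [ej] at hj
  have hDi : ∀ (g : MulAut P), ∀ d ∈ D, g d ∈ D := fun g d hd =>
    characteristic_iff_le_comap.1 hD g hd
  set τ := σ ^ p ^ (j + 1) with hτ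
  have hcm : ∀ x, τ (σ x) = σ (τ x) := fun x => by
    rw [← MulAut.mul_apply, ← MulAut.mul_apply, hτ, ← pow_succ, ← pow_succ']
  let D0 : Subgroup D :=
    { carrier := {d | τ d = d}
      mul_mem' := fun {a b} ha hb => by
        show τ (a * b) = a * b
        rw [map_mul, ha, hb]
      one_mem' := map_one τ
      inv_mem' := fun {a} ha => by
        show τ (a⁻¹ : P) = (a⁻¹ : P)
        rw [map_inv, ha] }
  let ρ : Equiv.Perm {x : P // x ∈ D ∧ τ x ≠ x} := Equiv.Perm.subtypePerm σ.toEquiv (fun x => by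
    show σ x ∈ D ∧ τ (σ x) ≠ σ x ↔ _
    rw [hcm, σ.injective.ne_iff]
    refine and_congr_left' ⟨fun h => ?_, hDi σ x⟩
    simpa using hDi σ⁻¹ _ h)
  have hρ : ∀ (m : ℕ) (x : {x : P // x ∈ D ∧ τ x ≠ x}), ((ρ ^ m) x : P) = (σ ^ m) x := by
    intro m
    induction m with
    | zero => intro x; rfl
    | succ m ih => intro x; rw [pow_succ, pow_succ, Equiv.Perm.mul_apply, ih]; rfl
  have hdv := dvd_card_of_free ρ (m := p ^ (j + 2))
    (Equiv.ext fun x => Subtype.ext ((hρ _ x).trans (hj _ x.2.1))) (fun m x hx => by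
      have h1 : (σ ^ m) x = x := (hρ m x).symm.trans (congrArg Subtype.val hx)
      have h2 := (hstab _ _).1 (pow_gcd_mem ((hstab _ _).2 h1) ((hstab _ _).2 (hj _ x.2.1)))
      obtain ⟨i, hi, e⟩ := (Nat.dvd_prime_pow hp).1 (Nat.gcd_dvd_right m (p ^ (j + 2)))
      rcases hi.lt_or_eq with hi | rfl
      · rw [e] at h2
        exact (x.2.2 (hmono (pow_dvd_pow p (by omega)) h2)).elim
      · exact e ▸ Nat.gcd_dvd_left m _)
  have hcard : Nat.card {x : P // x ∈ D ∧ τ x ≠ x} + Nat.card D0 = Nat.card D := by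
    have e1 : Nat.card {x : P // x ∈ D ∧ τ x ≠ x} = Nat.card {d : D // ¬ d ∈ D0} :=
      Nat.card_congr (Equiv.subtypeSubtypeEquivSubtypeInter (· ∈ D) (fun x => τ x ≠ x)).symm
    rw [e1, add_comm, ← Nat.card_sum]
    exact Nat.card_congr (Equiv.sumCompl (· ∈ D0))
  have hDp := hP.to_subgroup D
  obtain ⟨e, he⟩ := IsPGroup.index hDp D0
  obtain ⟨b, hb⟩ := IsPGroup.iff_card.1 (hDp.to_subgroup D0)
  have hmul := D0.card_mul_index
  have hcD : ∀ x : D, x * x = 1 → ∀ y, x * y = y * x := fun x hx y =>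
    Subtype.ext (hc x (congrArg Subtype.val hx) y)
  have hle := card_le_cube hcD (fun x => Subtype.ext (by
    have := h4 x x.2
    simp only [H61.smExp, if_true, pow_succ, pow_zero, one_mul] at this
    simpa [mul_assoc] using this))
  have hz1 : Nat.card (Zs hcD) ≤ Nat.card D0 := card_le_of_le (fun x hx =>
    hmono (dvd_pow_self p (by omega)) (hfix x (congrArg Subtype.val hx)))
  have hz2 : Nat.card (Zs hcD) ≤ 2 ^ n := hZ ▸ Nat.card_le_card_of_injective
    (fun x : Zs hcD => (⟨x.1.1, congrArg Subtype.val x.2⟩ : {x : P // x * x = 1}))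
    (fun x y h => Subtype.ext (Subtype.ext (by simpa using h)))
  have he1 : 1 ≤ e := by
    rcases e with _ | e
    · rw [pow_zero, index_eq_one] at he
      exact (hmin fun d hd => (show (⟨d, hd⟩ : D) ∈ D0 from he ▸ mem_top _)).elim
    · omega
  refine hns e he1 ?_ ?_
  · rw [← Nat.pow_le_pow_iff_right (by norm_num : 1 < 2), ← he, mul_comm, pow_mul]
    have hpos : 0 < Nat.card D0 := Nat.card_pos
    refine Nat.le_of_mul_le_mul_left ?_ hpos
    rw [hmul]
    calc _ ≤ _ := hle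
      _ = Nat.card (Zs hcD) * Nat.card (Zs hcD) ^ 2 := by ring
      _ ≤ _ := Nat.mul_le_mul hz1 (Nat.pow_le_pow_left hz2 2)
  · have e2 : Nat.card {x : P // x ∈ D ∧ τ x ≠ x} = 2 ^ b * (2 ^ e - 1) := by
      rw [Nat.mul_sub, mul_one, ← he, ← hb, hmul, ← hcard, Nat.add_sub_cancel]
    rw [e2] at hdv
    exact (Nat.Coprime.pow 2 b hodd).dvd_of_dvd_mul_left
      ((pow_dvd_pow p (by omega)).trans hdv)

/-- A `p`-automorphism moving an involution satisfies Higman's hypothesis. -/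
theorem hig_of [Finite P] (hP : IsPGroup 2 P)
    (hc : ∀ x : P, x * x = 1 → ∀ y, x * y = y * x) {n : ℕ} (hn : 2 ≤ n)
    (hZ : Nat.card {x : P // x * x = 1} = 2 ^ n) (hp : (2 ^ n - 1).Prime) {σ : MulAut P} {k : ℕ}
    (hk : σ ^ (2 ^ n - 1) ^ k = 1) (hm : ∃ x : P, x * x = 1 ∧ σ x ≠ x) : Hig σ n := by
  classical
  have : Fact (2 ^ n - 1).Prime := ⟨hp⟩
  let ρ : Equiv.Perm {x : P // x * x = 1 ∧ x ≠ 1} := Equiv.Perm.subtypePerm σ.toEquiv (fun x => by
    show σ x * σ x = 1 ∧ σ x ≠ 1 ↔ _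
    rw [← map_mul, map_eq_one_iff _ σ.injective, Ne, map_eq_one_iff _ σ.injective])
  have hρ : ∀ (m : ℕ) (x : {x : P // x * x = 1 ∧ x ≠ 1}), ((ρ ^ m) x : P) = (σ ^ m) x := by
    intro m
    induction m with
    | zero => intro x; rfl
    | succ m ih => intro x; rw [pow_succ, pow_succ, Equiv.Perm.mul_apply, ih]; rfl
  have := Fintype.ofFinite {x : P // x * x = 1 ∧ x ≠ 1}
  have hcard : Fintype.card {x : P // x * x = 1 ∧ x ≠ 1} = 2 ^ n - 1 := by
    have := Fintype.ofFinite {x : P // x * x = 1}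
    rw [← Fintype.card_congr (Equiv.subtypeSubtypeEquivSubtypeInter (fun x : P => x * x = 1)
      (fun x => x ≠ 1)), ← hZ, Nat.card_eq_fintype_card, Fintype.card_subtype_compl]
    congr 1
    exact Fintype.card_eq_one_iff.2 ⟨⟨⟨1, mul_one 1⟩, rfl⟩, fun y => Subtype.ext (Subtype.ext y.2)⟩
  have hρk : ρ ^ (2 ^ n - 1) ^ k = 1 := Equiv.ext fun x => Subtype.ext (by rw [hρ, hk]; rfl)
  have hρp : ρ ^ (2 ^ n - 1) = 1 := by
    obtain ⟨i, -, e⟩ := (Nat.dvd_prime_pow hp).1 (orderOf_dvd_of_pow_eq_one hρk)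
    have h1 := orderOf_dvd_card (x := ρ)
    rw [Fintype.card_perm, hcard, e] at h1
    apply orderOf_dvd_iff_pow_eq_one.1
    rw [e]
    rcases i with _ | _ | i
    · exact one_dvd _
    · rw [zero_add, pow_one]
    · exfalso
      have h2 := (pow_dvd_pow _ (show 2 ≤ i + 1 + 1 by omega)).trans h1
      generalize 2 ^ n - 1 = p at *
      obtain ⟨r, rfl⟩ : ∃ r, p = r + 1 := ⟨p - 1, by have := hp.pos; omega⟩
      rw [Nat.factorial_succ, pow_two, Nat.mul_dvd_mul_iff_left hp.pos, hp.dvd_factorial] at h2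
      omega
  have hfix : ∀ x : P, x * x = 1 → (σ ^ (2 ^ n - 1)) x = x := fun x hx => by
    by_cases h1 : x = 1
    · rw [h1, map_one]
    · exact (hρ _ ⟨x, hx, h1⟩).symm.trans (by rw [hρp]; rfl)
  refine ⟨hP, hn, pow_eq_one_of_fix hP hc hn hZ hp hk hfix, fun m x hx => ?_, hZ, hc⟩
  by_contra hcon
  push Not at hcon
  obtain ⟨i, hi1, hi2⟩ := exists_invol_pow_hig hP hcon.1
  have h1 : (σ ^ m) (x ^ i) = x ^ i := by rw [map_pow, hx]
  have h2 : σ (x ^ i) = x ^ i := mem_of_pow_coprime (S := MulAction.stabilizer (MulAut P) (x ^ i))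
    (hfix _ hi2) h1 (hp.coprime_iff_not_dvd.2 hcon.2)
  have h3 := Equiv.Perm.card_fixedPoints_modEq (f := (⇑ρ : Function.End _)) (p := 2 ^ n - 1)
    (n := 1) (by rw [pow_one]; exact (Equiv.Perm.coe_pow ρ _).symm.trans (congrArg DFunLike.coe hρp))
  obtain ⟨y, hy1, hy2⟩ := hm
  have hy3 : y ≠ 1 := by rintro rfl; exact hy2 (map_one σ)
  have h4 : Fintype.card (Function.fixedPoints ρ) < 2 ^ n - 1 := by
    rw [← hcard]
    exact Fintype.card_subtype_lt (x := ⟨y, hy1, hy3⟩) (fun h => hy2 (congrArg Subtype.val h))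
  have h5 : 0 < Fintype.card (Function.fixedPoints ρ) :=
    Fintype.card_pos_iff.2 ⟨⟨⟨x ^ i, hi2, hi1⟩, Subtype.ext h2⟩⟩
  rw [hcard] at h3
  exact absurd (Nat.le_of_dvd h5 ((Nat.modEq_zero_iff_dvd.1
    (h3.symm.trans (Nat.modEq_zero_iff_dvd.2 dvd_rfl))))) (by omega)

end Cfsg.Agent.H29.PY
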