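import Cfsg.Agent.H82.ClassSize
import Cfsg.Agent.H2.MinNormal
import Cfsg.Agent.S0205

/-! A quaternion group acting on a group of odd order: the index of the centralizer of the
involution is a square. -/

set_option autoImplicit false

namespace Cfsg.Agent.H29.PY

open Subgroup

universe u

variable {G : Type u} [Group G]

theorem exists_conj_pow {t u : G} (ht : t * t = 1) (hu : u * u = 1) (ho : Odd (orderOf (u * t))) :
    ∃ k : ℕ, (u * t) ^ k * t * ((u * t) ^ k)⁻¹ = u := by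
  obtain ⟨m, hm⟩ := ho
  have h1 : t * (u * t)⁻¹ * t⁻¹ = u * t := by
    rw [mul_inv_rev, inv_eq_of_mul_eq_one_right ht, inv_eq_of_mul_eq_one_right hu, ← mul_assoc, ht,
      one_mul]
  refine ⟨m + 1, ?_⟩
  calc _ = (u * t) ^ (m + 1) * (t * (u * t)⁻¹ * t⁻¹) ^ (m + 1) * t := by
        rw [conj_pow, inv_pow]; group
    _ = (u * t) ^ orderOf (u * t) * (u * t) * t := by
        rw [h1, hm, ← pow_add, ← pow_succ]; congr 2; ring
    _ = u := by rw [pow_orderOf_eq_one, one_mul, mul_assoc, ht, mul_one]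

theorem cl_eq [Finite G] (V : Subgroup G) [hV : V.Normal] (ho : Odd (Nat.card V)) {t : G}
    (ht : t * t = 1) : {y | ∃ v ∈ V, v * t * v⁻¹ = y} = {y | y * y = 1 ∧ y * t ∈ V} := by
  ext y
  constructor
  · rintro ⟨v, hv, rfl⟩
    refine ⟨by rw [show v * t * v⁻¹ * (v * t * v⁻¹) = v * (t * t) * v⁻¹ by group, ht]; group, ?_⟩
    have := mul_mem hv (hV.conj_mem _ (inv_mem hv) t)
    rwa [inv_eq_of_mul_eq_one_right ht, ← mul_assoc, ← mul_assoc] at this
  · rintro ⟨h1, h2⟩
    obtain ⟨k, hk⟩ := exists_conj_pow ht h1 (ho.of_dvd_nat (V.orderOf_dvd_natCard h2))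
    exact ⟨_, pow_mem h2 k, hk⟩

theorem isSquare_aux {M : Type*} [AddCommGroup M] [Finite M] {r : ℕ} [Fact r.Prime] [Module (ZMod r) M] (hr2 : r ≠ 2)
    (α β : M ≃+ M) (h : ∀ x, α (β x) = - β (α x)) :
    IsSquare (Nat.card M) := by
  let a := α.toLinearEquiv (ZMod.map_smul (n := r) _)
  let b := β.toLinearEquiv (ZMod.map_smul (n := r) _)
  have h3 : a.toLinearMap ∘ₗ b.toLinearMap = (-1 : ZMod r) • (b.toLinearMap ∘ₗ a.toLinearMap) :=
    LinearMap.ext fun x => by
      rw [LinearMap.smul_apply, neg_one_smul]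
      exact h x
  have h2 := congrArg LinearMap.det h3
  rw [LinearMap.det_smul, LinearMap.det_comp, LinearMap.det_comp, mul_comm, eq_comm,
    mul_eq_right₀ (mul_ne_zero b.isUnit_det'.ne_zero a.isUnit_det'.ne_zero)] at h2
  have : Fact (2 < r) := ⟨lt_of_le_of_ne (Fact.out : r.Prime).two_le hr2.symm⟩
  obtain ⟨d, hd⟩ := (neg_one_pow_eq_one_iff_even ZMod.neg_one_ne_one).1 h2
  have h4 := Module.natCard_eq_pow_finrank (K := ZMod r) (V := M)
  rw [hd, pow_add] at h4
  exact ⟨_, h4⟩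

theorem isSquare_card {P : Type*} [CommGroup P] [Finite P] {r : ℕ} (hr : r.Prime) (hr2 : r ≠ 2)
    (he : ∀ x : P, x ^ r = 1) (α β : MulAut P) (h : ∀ x, α (β x) = (β (α x))⁻¹) :
    IsSquare (Nat.card P) := by
  have : Fact r.Prime := ⟨hr⟩
  let _ : Module (ZMod r) (Additive P) := AddCommGroup.zmodModule fun x => he x.toMul
  exact isSquare_aux (M := Additive P) hr2 (MulEquiv.toAdditive α) (MulEquiv.toAdditive β) h

theorem isSquare_elem [Finite G] (V : Subgroup G) [hV : V.Normal] (ho : Odd (Nat.card V))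
    (hc : IsMulCommutative V) {r : ℕ} (hr : r.Prime) (hr2 : r ≠ 2) (he : ∀ x ∈ V, x ^ r = 1)
    {i j t : G} (ht : t * t = 1) (hi : i * t = t * i) (hj : j * t = t * j)
    (hij : i * j * i⁻¹ * j⁻¹ = t) : IsSquare ((centralizer ({t} : Set G)).relIndex V) := by
  have hcm : ∀ x ∈ V, ∀ y ∈ V, x * y = y * x := fun x hx y hy =>
    congrArg Subtype.val (hc.is_comm.comm ⟨x, hx⟩ ⟨y, hy⟩)
  let W : Subgroup G :=
    { carrier := {w | w ∈ V ∧ t * w * t⁻¹ = w⁻¹}
      mul_mem' := fun {x y} hx hy => ⟨mul_mem hx.1 hy.1, by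
        rw [hcm x hx.1 y hy.1, mul_inv_rev, ← hx.2, ← hy.2, hcm y hy.1 x hx.1]; group⟩
      one_mem' := ⟨one_mem _, by group⟩
      inv_mem' := fun {x} hx => ⟨inv_mem hx.1, by conv_rhs => rw [← hx.2]
                                                  group⟩ }
  have hti : t⁻¹ = t := inv_eq_of_mul_eq_one_right ht
  have h1 : (centralizer ({t} : Set G)).relIndex V = Nat.card W := by
    rw [← H82.ncard_conj_under, cl_eq V ho ht, ← Nat.card_coe_set_eq]
    refine Nat.card_congr ((Equiv.mulRight t).subtypeEquiv fun y => ?_)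
    show y * y = 1 ∧ y * t ∈ V ↔ y * t ∈ V ∧ t * (y * t) * t⁻¹ = (y * t)⁻¹
    rw [and_comm, ← mul_assoc, mul_inv_cancel_right, mul_inv_rev, hti, mul_right_inj,
      eq_inv_iff_mul_eq_one]
  have hn : ∀ g : G, g * t = t * g → g ∈ normalizer (W : Set G) := fun g hg =>
    mem_normalizer_fintype fun x hx => ⟨hV.conj_mem _ hx.1 g, by
      calc t * (g * x * g⁻¹) * t⁻¹ = t * g * x * (t * g)⁻¹ := by group
        _ = g * (t * x * t⁻¹) * g⁻¹ := by rw [← hg]; group
        _ = _ := by rw [hx.2]; group⟩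
  let _ : CommGroup W :=
    { (inferInstance : Group W) with mul_comm := fun x y => Subtype.ext (hcm _ x.2.1 _ y.2.1) }
  rw [h1]
  refine isSquare_card hr hr2 (fun x => Subtype.ext (he _ x.2.1))
    (W.normalizerMonoidHom ⟨i, hn i hi⟩) (W.normalizerMonoidHom ⟨j, hn j hj⟩) fun x => ?_
  refine Subtype.ext (Eq.trans ?_ (W.normalizerMonoidHom ⟨j, hn j hj⟩
    (W.normalizerMonoidHom ⟨i, hn i hi⟩ x)).2.2)
  show i * (j * x * j⁻¹) * i⁻¹ = t * (j * (i * x * i⁻¹) * j⁻¹) * t⁻¹
  rw [← hij]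
  group

theorem isSquare_relIndex (n : ℕ) : ∀ (G : Type u) [Group G] [Finite G] (N : Subgroup G)
    [N.Normal], Nat.card N = n → Odd n → ∀ i j t : G, t * t = 1 → i * t = t * i → j * t = t * j →
    i * j * i⁻¹ * j⁻¹ = t → IsSquare ((centralizer ({t} : Set G)).relIndex N) := by
  induction n using Nat.strong_induction_on with
  | _ n ih =>
  intro G _ _ N hN hn ho i j t ht hi hj hij
  by_cases h0 : N = ⊥
  · rw [h0, relIndex_bot_right]; exact IsSquare.one
  subst hn
  obtain ⟨V, r, hr, hV, hV0, hVN, hc, hp, he, -⟩ :=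
    H2.exists_minimal_normal_le_of_solvable N hN (S0205.result ho) h0
  have hoV : Odd (Nat.card V) := ho.of_dvd_nat (card_dvd_of_le hVN)
  have hr2 : r ≠ 2 := by
    rintro rfl
    have : Fact (Nat.Prime 2) := ⟨hr⟩
    have := (nontrivial_iff_ne_bot V).2 hV0
    obtain ⟨k, hk, e⟩ := hp.nontrivial_iff_card.1 this
    rw [e] at hoV
    exact (Nat.not_even_iff_odd.2 hoV) (Nat.even_pow.2 ⟨even_two, hk.ne'⟩)
  let f := QuotientGroup.mk' V
  have : (N.map f).Normal := hN.map f (QuotientGroup.mk'_surjective V)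
  have hc1 : Nat.card V * Nat.card (N.map f) = Nat.card N := by
    have e3 := (f.comp N.subtype).ker.card_mul_index
    rwa [index_ker, MonoidHom.range_comp, range_subtype, ← MonoidHom.comap_ker,
      QuotientGroup.ker_mk', show comap N.subtype V = V.subgroupOf N from rfl,
      Nat.card_congr (subgroupOfEquivOfLe hVN).toEquiv] at e3
  have h1 := ih _ (by
      rw [← hc1]
      exact lt_mul_of_one_lt_left Nat.card_pos ((one_lt_card_iff_ne_bot V).2 hV0))
    (G ⧸ V) (N.map f) rfl (ho.of_dvd_nat (Dvd.intro_left _ hc1)) (f i) (f j) (f t)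
    (by rw [← map_mul, ht, map_one]) (by rw [← map_mul, hi, map_mul])
    (by rw [← map_mul, hj, map_mul]) (by rw [← hij]; rfl)
  have h2 := isSquare_elem V hoV hc hr hr2 he ht hi hj hij
  set D := (centralizer ({f t} : Set (G ⧸ V))).comap f with hD
  have hmD : ∀ g, g ∈ D ↔ g * t * g⁻¹ * t ∈ V := fun g => by
    rw [hD, mem_comap, mem_centralizer_singleton_iff, ← QuotientGroup.eq_one_iff,
      show ((g * t * g⁻¹ * t : G) : G ⧸ V) = f (g * t * g⁻¹ * t) from rfl,
      ← mul_inv_eq_iff_eq_mul, map_mul, mul_eq_one_iff_eq_inv, ← map_inv f t,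
      inv_eq_of_mul_eq_one_right ht, map_mul, map_mul, map_inv]
  have hCD : centralizer ({t} : Set G) ≤ D := fun g hg => (hmD g).2 (by
    rw [mem_centralizer_singleton_iff.1 hg, mul_inv_cancel_right, ht]; exact one_mem _)
  have h3 : (centralizer ({t} : Set G)).relIndex (D ⊓ N) =
      (centralizer ({t} : Set G)).relIndex V := by
    rw [← H82.ncard_conj_under, ← H82.ncard_conj_under]
    congr 1
    refine Set.Subset.antisymm ?_ ?_
    · rintro _ ⟨g, hg, rfl⟩
      rw [cl_eq V hoV ht]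
      exact ⟨by rw [show g * t * g⁻¹ * (g * t * g⁻¹) = g * (t * t) * g⁻¹ by group, ht]; group,
        (hmD g).1 hg.1⟩
    · rintro _ ⟨g, hg, rfl⟩
      exact ⟨g, ⟨(hmD g).2 ((cl_eq V hoV ht).subset ⟨g, hg, rfl⟩).2, hVN hg⟩, rfl⟩
  rw [← inf_eq_left.2 hCD, ← relIndex_inf_mul_relIndex, h3, hD, relIndex_comap]
  exact h2.mul h1

end Cfsg.Agent.H29.PY
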