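import Cfsg.Agent.H29.PYBase
import Cfsg.Agent.H29.CKAct

/-! If all transvections of `E` are induced then the Sylow 2-subgroup of `C(E)` is abelian. -/

set_option autoImplicit false

namespace Cfsg.Agent.H29.PY

open Subgroup H41 CK

theorem gauss {P : Type*} [Group P] [Fintype P] (hP : IsPGroup 2 P) (Q : P → ZMod 2)
    (B : P → P → ZMod 2) (hQ : ∀ x y, Q (x * y) = Q x + B x y + Q y)
    (hB : ∀ x y y', B x (y * y') = B x y + B x y') (hB' : ∀ x x' y, B (x * x') y = B x y + B x' y)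
    (A : Subgroup P) (hA : ∀ a ∈ A, Q a = 0) :
    ∑ x, chi (Q x) = Nat.card A ∨ (2 * Nat.card A : ℤ) ∣ ∑ x, chi (Q x) := by
  classical
  have : Fact (Nat.Prime 2) := ⟨Nat.prime_two⟩
  have h1 : ∀ y, B 1 y = 0 := fun y => by simpa using hB' 1 1 y
  let R : Subgroup P :=
    { carrier := {x | ∀ a ∈ A, B x a = 0}
      mul_mem' := fun {x y} hx hy a ha => by rw [hB', hx a ha, hy a ha, add_zero]
      one_mem' := fun a _ => h1 a
      inv_mem' := fun {x} hx a ha => by
        have := hB' x x⁻¹ a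
        rwa [mul_inv_cancel, h1, hx a ha, zero_add, eq_comm] at this }
  have hAR : A ≤ R := fun x hx a ha => by
    have := hQ x a
    rwa [hA _ (mul_mem hx ha), hA x hx, hA a ha, zero_add, add_zero, eq_comm] at this
  have hs : ∀ x, ∑ a : A, chi (B x a) = if x ∈ R then (Nat.card A : ℤ) else 0 := fun x => by
    split_ifs with h
    · rw [Finset.sum_congr rfl fun (a : A) _ => show chi (B x a) = 1 by rw [h a a.2]; rfl]
      simp
    · obtain ⟨b, hb, hb1⟩ : ∃ b ∈ A, B x b = 1 := by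
        by_contra hcon
        push Not at hcon
        exact h fun a ha => z_ne1.1 (hcon a ha)
      have := Equiv.sum_comp (Equiv.mulRight (⟨b, hb⟩ : A)) (fun a : A => chi (B x a))
      simp only [Equiv.coe_mulRight, coe_mul, hB, hb1, chi_add_one, Finset.sum_neg_distrib] at this
      omega
  have hpos : (0 : ℤ) < Nat.card A := by exact_mod_cast Nat.card_pos
  have h2 : ∑ x, chi (Q x) = ∑ x with x ∈ R, chi (Q x) := by
    apply mul_left_cancel₀ hpos.ne'
    calc _ = ∑ a : A, ∑ x, chi (Q (x * a)) := by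
          rw [Finset.sum_congr rfl fun (a : A) _ => show ∑ x, chi (Q (x * a)) = _ from
            Equiv.sum_comp (Equiv.mulRight (a : P)) (fun x => chi (Q x))]
          simp
      _ = ∑ x, chi (Q x) * ∑ a : A, chi (B x a) := by
          rw [Finset.sum_comm]
          refine Finset.sum_congr rfl fun x _ => ?_
          rw [Finset.mul_sum]
          exact Finset.sum_congr rfl fun a _ => by rw [hQ, hA a a.2, add_zero, chi_add]
      _ = _ := by
          rw [Finset.mul_sum, Finset.sum_filter]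
          refine Finset.sum_congr rfl fun x _ => ?_
          rw [hs]
          split_ifs <;> ring
  let N : Set P := {x | x ∈ R ∧ Q x = 1}
  have h3 : ∑ x with x ∈ R, chi (Q x) = Nat.card R - 2 * N.ncard := by
    have e : ∀ x, chi (Q x) = 1 - 2 * if Q x = 1 then 1 else 0 := fun x => by
      rcases z01 (Q x) with h | h <;> simp [h, chi]
    simp only [e, Finset.sum_sub_distrib, ← Finset.mul_sum, Finset.sum_boole, Finset.filter_filter,
      Finset.sum_const, nsmul_eq_mul, mul_one]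
    rw [Nat.card_eq_fintype_card, Fintype.card_subtype, Set.ncard_eq_toFinset_card']
    simp [N]
  have h4 : Nat.card A ∣ N.ncard := by
    have : N = (QuotientGroup.mk : P → P ⧸ A) ⁻¹' (QuotientGroup.mk '' N) := by
      refine Set.Subset.antisymm (Set.subset_preimage_image _ _) ?_
      rintro x ⟨y, hy, e⟩
      have h5 := QuotientGroup.eq.1 e
      have h6 : x = y * (y⁻¹ * x) := by group
      refine ⟨h6 ▸ mul_mem hy.1 (hAR h5), ?_⟩
      rw [h6, hQ, hy.1 _ h5, hA _ h5, hy.2, add_zero, add_zero]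
    rw [this, ← Nat.card_coe_set_eq, Nat.card_congr (QuotientGroup.preimageMkEquivSubgroupProdSet _ _),
      Nat.card_prod]
    exact dvd_mul_right _ _
  rw [h2, h3]
  rcases hAR.eq_or_lt with h | h
  · left
    have : N = ∅ := Set.eq_empty_of_forall_notMem fun x hx =>
      zero_ne_one ((hA x (h ▸ hx.1)).symm.trans hx.2)
    rw [this, h]; simp
  · right
    refine dvd_sub ?_ (mul_dvd_mul_left 2 (Int.natCast_dvd_natCast.2 h4))
    obtain ⟨k, hk⟩ := IsPGroup.index (hP.to_subgroup R) (A.subgroupOf R)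
    have h5 := (A.subgroupOf R).card_mul_index
    rw [Nat.card_congr (subgroupOfEquivOfLe h.le).toEquiv, hk] at h5
    rcases k with _ | k
    · rw [pow_zero, index_eq_one, subgroupOf_eq_top] at hk
      exact (h.not_ge hk).elim
    · rw [← h5]
      exact ⟨2 ^ k, by push_cast; ring⟩

variable {G : Type*} [Group G] {W : Type*} [AddCommGroup W]

/-- Additive coordinates on `E`. -/
structure Co (E : Subgroup G) (ε : W → G) : Prop where
  add : ∀ v w, ε (v + w) = ε v * ε w
  inj : Function.Injective ε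
  range : ∀ x, x ∈ E ↔ ∃ v, ε v = x

theorem Co.zero {E : Subgroup G} {ε : W → G} (h : Co E ε) : ε 0 = 1 := by
  simpa using h.add 0 0

theorem Co.mem {E : Subgroup G} {ε : W → G} (h : Co E ε) (v : W) : ε v ∈ E := (h.range _).2 ⟨v, rfl⟩

theorem Co.eq_one {E : Subgroup G} {ε : W → G} (h : Co E ε) {v : W} : ε v = 1 ↔ v = 0 := by
  rw [← h.zero, h.inj.eq_iff]

theorem Co.card {E : Subgroup G} {ε : W → G} (h : Co E ε) : Nat.card W = Nat.card E :=
  Nat.card_eq_of_bijective (fun v => (⟨ε v, h.mem v⟩ : E))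
    ⟨fun _ _ e => h.inj (congrArg Subtype.val e), fun x => ((h.range x).1 x.2).imp fun _ e =>
      Subtype.ext e⟩

/-- All transvections are induced by conjugation. -/
def Tvh (ε : W → G) : Prop :=
  ∀ (l : W →+ ZMod 2) (a : W), l a = 0 →
    ∃ g : G, ∀ v, g * ε v * g⁻¹ = ε (if l v = 0 then v else v + a)

variable {E T : Subgroup G} {σ : G} {n : ℕ} {ε : W → G}

theorem Fr.fibre [Finite G] (h : Fr E T σ n) {e e' : G} (he : e ∈ E) (he' : e' ∈ E) (h1 : e ≠ 1)
    (h1' : e' ≠ 1) : Nat.card {x : T // (x : G) * x = e} = Nat.card {x : T // (x : G) * x = e'} := by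
  have key : ∀ e ∈ E, ∀ e' ∈ E, e ≠ 1 → e' ≠ 1 →
      Nat.card {x : T // (x : G) * x = e} ≤ Nat.card {x : T // (x : G) * x = e'} := by
    intro e he e' he' h1 h1'
    obtain ⟨g, hg⟩ := h.py.trans e he e' he' h1 h1'
    obtain ⟨a, ha, h2⟩ := h.frat g
    exact Nat.card_le_card_of_injective (fun x => ⟨⟨a * x.1 * a⁻¹,
      (mem_normalizer_iff.1 ha _).1 x.1.2⟩, by
        rw [← hg, ← h2 e he]
        exact (by simp [mul_assoc] : _ = a * (x.1 * x.1) * a⁻¹).trans (by rw [x.2])⟩)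
      (fun x y e => Subtype.ext (Subtype.ext (by simpa using e)))
  exact le_antisymm (key e he e' he' h1 h1') (key e' he' e he h1' h1)

theorem Fr.fibre_one (h : Fr E T σ n) : Nat.card {x : T // (x : G) * x = 1} = 2 ^ n :=
  h.py.card ▸ Nat.card_congr
    { toFun := fun x => ⟨x.1.1, (h.py.mem _).2 x.2⟩
      invFun := fun x => ⟨⟨x.1, h.E_le x.2⟩, h.py.sq x.2⟩
      left_inv := fun _ => rfl
      right_inv := fun _ => rfl }

variable [Ex2 W]

theorem Fr.exists_sq [Finite G] (h : Fr E T σ n) (hc : Co E ε) (h4 : ∀ x ∈ T, x * x ∈ E) :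
    ∃ (s : T → W) (m : ℕ), (∀ x, ε (s x) = x * x) ∧
      (∀ w, w ≠ 0 → Nat.card {x // s x = w} = m) ∧ Nat.card {x // s x = 0} = 2 ^ n ∧
      Nat.card T = 2 ^ n + (2 ^ n - 1) * m := by
  classical
  choose s hs using fun x : T => (hc.range _).1 (h4 x x.2)
  obtain ⟨e, he, he1⟩ := h.py.exists_ne
  have h1 : ∀ w, Nat.card {x // s x = w} = Nat.card {x : T // (x : G) * x = ε w} := fun w =>
    Nat.card_congr (Equiv.subtypeEquivRight fun x => by rw [← hs, hc.inj.eq_iff])
  have h2 : ∀ w, w ≠ 0 → Nat.card {x // s x = w} = Nat.card {x : T // (x : G) * x = e} :=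
    fun w hw => (h1 w).trans (h.fibre (hc.mem w) he (mt hc.eq_one.1 hw) he1)
  have h3 : Nat.card {x // s x = 0} = 2 ^ n := by rw [h1, hc.zero, h.fibre_one]
  refine ⟨s, _, hs, h2, h3, ?_⟩
  have : Finite W := Finite.of_injective ε hc.inj
  have := Fintype.ofFinite W
  rw [← Nat.card_congr (Equiv.sigmaFiberEquiv s), Nat.card_sigma,
    ← Finset.add_sum_erase _ _ (Finset.mem_univ 0), h3,
    Finset.sum_congr rfl fun w hw => h2 w (Finset.ne_of_mem_erase hw), Finset.sum_const,
    Finset.card_erase_of_mem (Finset.mem_univ _), Finset.card_univ, ← Nat.card_eq_fintype_card,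
    hc.card, h.py.card, smul_eq_mul]

theorem Fr.comm_of_card_sq [Finite G] (h : Fr E T σ n) (hc : Co E ε) (ht : Tvh ε)
    (h4 : ∀ x ∈ T, x * x ∈ E) (hT : Nat.card T = (2 ^ n) ^ 2) :
    ∀ x ∈ T, ∀ y ∈ T, x * y = y * x := by
  obtain ⟨s, m, hs, hm, h0, hcard⟩ := h.exists_sq hc h4
  have hm' : m = 2 ^ n := by
    have := h.py.prime.pos
    obtain ⟨p, hp⟩ : ∃ p, 2 ^ n = p + 1 := ⟨2 ^ n - 1, by omega⟩
    rw [hT, hp, Nat.add_sub_cancel] at hcard
    rw [hp, Nat.add_sub_cancel] at this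
    rw [hp]
    exact Nat.eq_of_mul_eq_mul_left this (by nlinarith)
  have hinj : ∀ x ∈ T, ∀ y ∈ T, x * x = y * y → x⁻¹ * y ∈ E := fun x hx y hy e => by
    have h1 : Nat.card {z // s z = s ⟨x, hx⟩} = Nat.card E := by
      rw [h.py.card]
      by_cases h2 : s ⟨x, hx⟩ = 0
      · rw [h2, h0]
      · rw [hm _ h2, hm']
    have h2 := (Nat.bijective_iff_injective_and_card (fun z : E => (⟨⟨x * z, mul_mem hx (h.E_le z.2)⟩,
      hc.inj (by rw [hs, hs]; exact h.sq_mul hx z.2)⟩ : {z // s z = s ⟨x, hx⟩}))).2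
      ⟨fun a b e => Subtype.ext (by simpa using e), h1.symm⟩
    obtain ⟨z, hz⟩ := h2.2 ⟨⟨y, hy⟩, hc.inj (by rw [hs, hs]; exact e.symm)⟩
    have h3 : x * z = y := congrArg (fun w => (w.1 : G)) hz
    rw [← h3, inv_mul_cancel_left]
    exact z.2
  intro x hx y hy
  obtain ⟨a, ha⟩ := (hc.range _).1 (h4 x hx)
  obtain ⟨b, hb⟩ := (hc.range _).1 (h4 y hy)
  obtain ⟨c, hc'⟩ := (hc.range _).1 (h4 _ (mul_mem hx hy))
  have hE := h.py.normal
  suffices e : c = a + b by
    rw [e, hc.add, ha, hb, mul_sq_eq] at hc'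
    exact kap_eq_one_iff.1 (by simpa using hc')
  have ha0 : x ∈ E → c = a + b := fun h1 => by
    rw [hc.eq_one.1 (ha.trans (h.py.sq h1)), zero_add]
    exact hc.inj (by rw [hc', hb, h.cent hy h1, h.sq_mul hy h1])
  by_cases hL : c ∈ L2 a b
  · rcases mem_L2.1 hL with e | e | e | e
    · have h1 : x * y ∈ E := (h.py.mem _).2 (by rw [← hc', e, hc.zero])
      have h2 := h.sq_mul (inv_mem hx) h1
      rw [inv_mul_cancel_left, ← mul_inv_rev, h.py.inv_eq (h4 x hx), ← ha, ← hb] at h2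
      rw [e, hc.inj h2, aa]
    · have h1 := hinj x hx _ (mul_mem hx hy) (by rw [← ha, ← hc', e])
      rw [inv_mul_cancel_left] at h1
      rw [e, hc.eq_one.1 (hb.trans (h.py.sq h1)), add_zero]
    · have h1 := hinj y hy _ (mul_mem hx hy) (by rw [← hb, ← hc', e])
      exact ha0 (by simpa [mul_assoc] using hE.conj_mem _ h1 y)
    · exact e
  obtain ⟨l, hl, hlc⟩ := sep hL
  obtain ⟨g, hg⟩ := ht l a (hl a (l2_left a b))
  obtain ⟨u, hu, h1⟩ := h.frat g
  have hcj : ∀ z : G, u * z * u⁻¹ * (u * z * u⁻¹) = u * (z * z) * u⁻¹ := fun z => by group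
  have hun := fun z hz => (mem_normalizer_iff.1 hu z).1 hz
  have h2 := hinj x hx _ (hun x hx) (by
    rw [hcj, ← ha, h1 _ (hc.mem a), hg, if_pos (hl a (l2_left a b))])
  have h3 := hinj y hy _ (hun y hy) (by
    rw [hcj, ← hb, h1 _ (hc.mem b), hg, if_pos (hl b (l2_right a b))])
  have h5 := h.sq_mul (mul_mem hx hy) (mul_mem h2 h3)
  have h6 : x * y * (x⁻¹ * (u * x * u⁻¹) * (y⁻¹ * (u * y * u⁻¹))) = u * (x * y) * u⁻¹ := by
    rw [← mul_assoc, mul_assoc x y, ← h.cent hy h2]; group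
  rw [h6, hcj, ← hc', h1 _ (hc.mem c), hg, if_neg (by rw [hlc]; exact one_ne_zero)] at h5
  exact ha0 ((h.py.mem _).2 (by rw [← ha, hc.eq_one]; simpa using hc.inj h5))

theorem Fr.not_card_cube [Finite G] (h : Fr E T σ n) (hc : Co E ε) (ht : Tvh ε)
    (h4 : ∀ x ∈ T, x * x ∈ E) (hT : Nat.card T = (2 ^ n) ^ 3) : False := by
  classical
  have : Finite W := Finite.of_injective ε hc.inj
  have hE := h.py.normal
  obtain ⟨s, m, hs, hm, h0, hcard⟩ := h.exists_sq hc h4
  choose k hk using fun x y : T => (hc.range _).1 (h.kap_mem x.2 y.2)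
  have hW : Nat.card W = 2 ^ n := hc.card.trans h.py.card
  have hn4 : 4 ≤ 2 ^ n := Nat.pow_le_pow_right (n := 2) (by norm_num) h.py.two_le
  obtain ⟨a, -, ha⟩ := exists_notMem (A := (⊥ : AddSubgroup W)) (B := ⊤) (by simp; omega)
  obtain ⟨b, -, hb⟩ := exists_notMem (A := L1 a) (B := ⊤) (by
    have := card_L1_le a
    simp; omega)
  obtain ⟨l, hl, hlb⟩ := sep hb
  have hla := hl a (l1_self a)
  obtain ⟨g, hg⟩ := ht l a hla
  obtain ⟨u0, hu0, h1⟩ := h.frat g
  replace hg : ∀ v, u0 * ε v * u0⁻¹ = ε (if l v = 0 then v else v + a) := fun v =>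
    (h1 _ (hc.mem v)).trans (hg v)
  have hg2 : u0 ^ 2 ∈ centralizer (E : Set G) := mem_centralizer_iff.2 fun e he => by
    obtain ⟨v, rfl⟩ := (hc.range e).1 he
    have h2 : u0 * (u0 * ε v * u0⁻¹) * u0⁻¹ = ε v := by
      rw [hg, hg]
      rcases z01 (l v) with h3 | h3 <;> simp [h3, hla, c2]
    conv_lhs => rw [← h2, pow_two]
    rw [pow_two]; group
  obtain ⟨j, r, hr, ho⟩ := Nat.exists_eq_two_pow_mul_odd (orderOf_pos u0).ne'
  obtain ⟨i, rfl⟩ := hr
  set u := u0 ^ (2 * i + 1) with hu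
  have hun : u ∈ normalizer (T : Set G) := pow_mem hu0 _
  replace hg : ∀ v, u * ε v * u⁻¹ = ε (if l v = 0 then v else v + a) := fun v => by
    rw [← hg v, hu, pow_succ', pow_mul]
    conv_rhs => rw [← conj_of_cent (pow_mem hg2 i) (hc.mem v)]
    group
  have hu2 : u * u ∈ T := h.mem_of_norm (mul_mem hun hun) (by
    rw [← pow_two, hu, ← pow_mul, mul_comm, pow_mul]; exact pow_mem hg2 _) (k := j) (by
    rw [← pow_two, hu, ← pow_mul, ← pow_mul, ← orderOf_dvd_iff_pow_eq_one, ho]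
    exact ⟨2, by ring⟩)
  set Z := E.subgroupOf T with hZ
  let f := QuotientGroup.mk' Z
  have hf : ∀ x y : T, f x = f y ↔ ((x : G)⁻¹ * y) ∈ E := fun x y => QuotientGroup.eq
  have hQ : ∀ x : T ⧸ Z, x * x = 1 := fun x => by
    obtain ⟨x, rfl⟩ := QuotientGroup.mk_surjective x
    exact (QuotientGroup.eq_one_iff _).2 (h4 x x.2)
  let _ : CommGroup (T ⧸ Z) :=
    { (inferInstance : Group (T ⧸ Z)) with mul_comm := mul_comm_of_sq hQ }
  let α : MulAut T := T.normalizerMonoidHom ⟨u, hun⟩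
  let δ : T →* T ⧸ Z := f * f.comp α.toMonoidHom
  have hδ : ∀ x, δ x = f x * f (α x) := fun x => rfl
  have hker : ∀ x, x ∈ δ.ker ↔ f x = f (α x) := fun x => by
    rw [MonoidHom.mem_ker, hδ, mul_eq_one_iff_inv_eq, inv_eq_of_mul_eq_one_right (hQ _)]
  have hαα : ∀ x, f (α (α x)) = f x := fun x => by
    have e : α (α x) = ⟨u * u, hu2⟩ * x * ⟨u * u, hu2⟩⁻¹ := Subtype.ext (by
      show u * (u * x * u⁻¹) * u⁻¹ = u * u * x * (u * u)⁻¹
      group)
    rw [e, map_mul, map_mul, map_inv, mul_inv_cancel_comm]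
  have hr : δ.range ≤ δ.ker.map f := by
    rintro _ ⟨x, rfl⟩
    exact ⟨x * α x, (hker _).2 (by simp only [map_mul, hαα, mul_comm]), map_mul f _ _⟩
  have hZA : Z ≤ δ.ker := fun z hz => (hker z).2 (by
    rw [(QuotientGroup.eq_one_iff z).2 hz |> (show f z = 1 from ·), eq_comm]
    exact (QuotientGroup.eq_one_iff _).2 (hE.conj_mem _ hz u))
  have hA : (2 ^ n) ^ 2 ≤ Nat.card δ.ker := by
    have e1 := δ.ker.card_mul_index
    rw [index_ker, hT] at e1
    have e2 := card_le_of_le hr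
    have e3 := (f.comp δ.ker.subtype).ker.card_mul_index
    rw [index_ker, MonoidHom.range_comp, range_subtype, ← MonoidHom.comap_ker,
      QuotientGroup.ker_mk', show comap δ.ker.subtype Z = Z.subgroupOf δ.ker from rfl,
      Nat.card_congr (subgroupOfEquivOfLe hZA).toEquiv,
      Nat.card_congr (subgroupOfEquivOfLe h.E_le).toEquiv, h.py.card] at e3
    generalize 2 ^ n = q at *
    have e4 : (q ^ 2) ^ 2 ≤ Nat.card δ.ker ^ 2 :=
      calc (q ^ 2) ^ 2 = q * q ^ 3 := by ring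
        _ ≤ q * (Nat.card δ.ker * Nat.card (δ.ker.map f)) := by
          rw [← e1]; exact Nat.mul_le_mul_left _ (Nat.mul_le_mul_left _ e2)
        _ = _ := by rw [mul_left_comm, e3, pow_two]
    exact (Nat.pow_le_pow_iff_left two_ne_zero).1 e4
  have := Fintype.ofFinite T
  have := Fintype.ofFinite W
  have hG := gauss h.pg (fun x => l (s x)) (fun x y => l (k x y)) (fun x y => by
      rw [← map_add, ← map_add]
      exact congrArg l (hc.inj (by rw [hc.add, hc.add, hs, hs, hs, hk]; exact mul_sq_eq _ _)))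
    (fun x y y' => by
      rw [← map_add]
      refine congrArg l (hc.inj ?_)
      rw [hc.add, hk, hk, hk, coe_mul, kap_mul_right, ← h.cent y.2 (h.kap_mem x.2 y'.2),
        mul_inv_cancel_right])
    (fun x x' y => by
      rw [← map_add]
      refine congrArg l (hc.inj ?_)
      rw [hc.add, hk, hk, hk, coe_mul, kap_mul_left, mul_assoc (x' : G)⁻¹,
        h.cent x'.2 (h.kap_mem x.2 y.2), inv_mul_cancel_left])
    δ.ker (fun x hx => by
      have h2 := h.sq_mul x.2 ((hf _ _).1 ((hker x).1 hx))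
      rw [mul_inv_cancel_left] at h2
      have h3 := hg (s x)
      rw [hs, show u * (x * x) * u⁻¹ = α x * α x by
        show _ = u * x * u⁻¹ * (u * x * u⁻¹); group, h2, ← hs] at h3
      by_contra h5
      rw [if_neg h5] at h3
      exact ha (by simpa using hc.inj h3))
  have hS : ∑ x : T, chi (l (s x)) = 2 ^ n - m := by
    have h2 := sum_chi l
    rw [if_neg (by rintro rfl; simp at hlb), ← Finset.add_sum_erase _ _ (Finset.mem_univ 0),
      map_zero, chi_zero] at h2
    rw [← Finset.sum_fiberwise _ s, ← Finset.add_sum_erase _ _ (Finset.mem_univ 0)]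
    have h3 : ∀ w, ∑ x with s x = w, chi (l (s x)) = Nat.card {x // s x = w} * chi (l w) :=
      fun w => by
        rw [Finset.sum_congr rfl fun x hx => by rw [(Finset.mem_filter.1 hx).2],
          Nat.card_eq_fintype_card, Fintype.card_subtype]
        simp
    rw [h3, h0, Finset.sum_congr rfl fun w hw => by rw [h3, hm w (Finset.ne_of_mem_erase hw)],
      ← Finset.mul_sum, map_zero, chi_zero, eq_neg_of_add_eq_zero_right h2]
    push_cast
    ring
  have hm' : m = 2 ^ n * (2 ^ n + 1) := by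
    have := h.py.prime.pos
    obtain ⟨p, hp⟩ : ∃ p, 2 ^ n = p + 1 := ⟨2 ^ n - 1, by omega⟩
    rw [hT, hp, Nat.add_sub_cancel] at hcard
    rw [hp, Nat.add_sub_cancel] at this
    rw [hp]
    exact Nat.eq_of_mul_eq_mul_left this (by nlinarith)
  have hS' : ∑ x : T, chi (l (s x)) = -(((2 ^ n) ^ 2 : ℕ) : ℤ) := by
    rw [hS, hm']; push_cast; ring
  have hpos : 0 < (2 ^ n) ^ 2 := by positivity
  rw [hS'] at hG
  rcases hG with h2 | h2
  · omega
  · have := Int.le_of_dvd (by exact_mod_cast hpos) (dvd_neg.1 h2)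
    omega

theorem Fr.comm [Finite G] (h : Fr E T σ n) (hc : Co E ε) (ht : Tvh ε) :
    ∀ x ∈ T, ∀ y ∈ T, x * y = y * x := by
  rcases h.cases with h1 | ⟨h1, h2 | h2⟩
  exacts [h1, h.comm_of_card_sq hc ht h1 h2, (h.not_card_cube hc ht h1 h2).elim]

end Cfsg.Agent.H29.PY
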