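import Cfsg.Agent.H29.PYSq
import Cfsg.Agent.H1.UniqueSub
import Cfsg.Agent.S0144

/-! Groups whose involutions are congruent modulo a normal subgroup of odd order. -/

set_option autoImplicit false

namespace Cfsg.Agent.H29.PY

open Subgroup

variable {G : Type*} [Group G]

theorem sq_of_two {x : G} (h : orderOf x = 2) : x * x = 1 := by
  rw [← pow_two, ← orderOf_dvd_iff_pow_eq_one, h]

theorem orderOf_cj (g x : G) : orderOf (g * x * g⁻¹) = orderOf x := (MulAut.conj g).orderOf_eq x

variable [Finite G] {N : Subgroup G} [N.Normal] {t : G}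

theorem eq_of_comm (hN : Odd (Nat.card N)) (ht : orderOf t = 2)
    (hu : ∀ u, orderOf u = 2 → u * t ∈ N) {u v : G} (h1 : orderOf u = 2) (h2 : orderOf v = 2)
    (h : u * v = v * u) : u = v := by
  have h3 : u * v ∈ N := by
    have := mul_mem (hu u h1) (inv_mem (hu v h2))
    rwa [mul_inv_rev, mul_assoc, mul_inv_cancel_left, inv_eq_of_mul_eq_one_right (sq_of_two h2)]
      at this
  have h4 : orderOf (u * v) ∣ 2 := orderOf_dvd_of_pow_eq_one (by
    rw [Commute.mul_pow h, pow_two, pow_two, sq_of_two h1, sq_of_two h2, mul_one])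
  have h5 := Nat.Coprime.eq_one_of_dvd
    (Nat.coprime_two_right.2 (hN.of_dvd_nat (N.orderOf_dvd_natCard h3))) h4
  rw [orderOf_eq_one_iff, mul_eq_one_iff_eq_inv, inv_eq_of_mul_eq_one_right (sq_of_two h2)] at h5
  exact h5

theorem invol_eq (hN : Odd (Nat.card N)) (ht : orderOf t = 2)
    (hu : ∀ u, orderOf u = 2 → u * t ∈ N) :
    {y | ∃ v ∈ N, v * t * v⁻¹ = y} = {y | orderOf y = 2} := by
  refine Set.Subset.antisymm ?_ fun y hy => ?_
  · rintro _ ⟨v, -, rfl⟩
    exact (orderOf_cj v t).trans ht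
  · rw [cl_eq N hN (sq_of_two ht)]
    exact ⟨sq_of_two hy, hu y hy⟩

theorem solvable_or_square (hN : Odd (Nat.card N)) (ht : orderOf t = 2)
    (hu : ∀ u, orderOf u = 2 → u * t ∈ N) :
    Group.IsSolvable G ∨ IsSquare (Nat.card {x : G // orderOf x = 2}) := by
  have : Fact (Nat.Prime 2) := ⟨Nat.prime_two⟩
  obtain ⟨S, hS⟩ := (IsPGroup.of_card (n := 1) (G := zpowers t)
    (by rw [Nat.card_zpowers, ht, pow_one])).exists_le_sylow
  have htS : t ∈ (S : Subgroup G) := hS (mem_zpowers t)
  have h1 : ∀ x ∈ (S : Subgroup G), orderOf x = 2 → x = t := fun x hx h2 => by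
    obtain ⟨k, hk⟩ := S.isPGroup' ⟨x * t, mul_mem hx htS⟩
    have h3 := Nat.Coprime.eq_one_of_dvd (Nat.Coprime.pow_right k (Nat.coprime_two_right.2
      (hN.of_dvd_nat (N.orderOf_dvd_natCard (hu x h2)))))
      (orderOf_dvd_of_pow_eq_one (congrArg Subtype.val hk))
    rwa [orderOf_eq_one_iff, mul_eq_one_iff_eq_inv, inv_eq_of_mul_eq_one_right (sq_of_two ht)] at h3
  rcases H1.cyclic_or_quaternion_gens S.isPGroup' (fun x y hx hy => Subtype.ext
    ((h1 x x.2 ((orderOf_coe x).trans hx)).trans (h1 y y.2 ((orderOf_coe y).trans hy)).symm)) with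
    h2 | ⟨m, a, g, ha, -, hg, -⟩
  · left
    have h3 : (Nat.card G).minFac = 2 := (Nat.minFac_eq_two_iff _).2 (ht ▸ orderOf_dvd_natCard t)
    have h4 := h2.isComplement' h3
    generalize (MonoidHom.transferSylow S (h2.normalizer_le_centralizer h3)) = f at h4
    have : Group.IsSolvable f.ker := S0205.result (by
      rw [← h4.index_eq_card, ← Nat.not_even_iff_odd, even_iff_two_dvd]
      exact S.not_dvd_index)
    have : Group.IsSolvable (S : Subgroup G) :=
      Group.isSolvable_of_comm IsMulCommutative.is_comm.comm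
    exact Group.isSolvable_of_ker_le_range f.ker.subtype f (by rw [range_subtype])
  · right
    have hc : ∀ x ∈ (S : Subgroup G), x * t = t * x := fun x hx => mul_inv_eq_iff_eq_mul.1
      (h1 _ (mul_mem (mul_mem hx htS) (inv_mem hx)) ((orderOf_cj x t).trans ht))
    rw [show Nat.card {x : G // orderOf x = 2} = {y : G | orderOf y = 2}.ncard from rfl,
      ← invol_eq hN ht hu, H82.ncard_conj_under]
    refine isSquare_relIndex _ G N rfl hN ((a : G) ^ 2 ^ m) g t (sq_of_two ht)
      (hc _ (pow_mem a.2 _)) (hc _ g.2) ?_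
    have h3 : (g : G) * a * (g : G)⁻¹ = (a : G)⁻¹ := congrArg Subtype.val hg
    rw [← h1 _ (pow_mem a.2 (2 ^ (m + 1))) (by
      rw [orderOf_pow, orderOf_coe, ha, Nat.gcd_mul_left_left, Nat.mul_div_cancel _ (by positivity)]),
      pow_succ 2, pow_mul, pow_two, mul_assoc, mul_assoc, ← mul_assoc (g : G), ← inv_pow, ← conj_pow,
      show (g : G) * (a : G)⁻¹ * (g : G)⁻¹ = ((g : G) * a * (g : G)⁻¹)⁻¹ by group, h3, inv_inv]

theorem solvable_of_nine (hN : Odd (Nat.card N)) (ht : orderOf t = 2)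
    (hu : ∀ u, orderOf u = 2 → u * t ∈ N) (h9 : Nat.card {x : G // orderOf x = 2} = 9) :
    Group.IsSolvable G := by
  classical
  have : Fact (Nat.Prime 2) := ⟨Nat.prime_two⟩
  set C := centralizer ({t} : Set G) with hC
  let _ : MulAction C {x : G // orderOf x = 2} :=
    { smul := fun g x => ⟨g * x * (g : G)⁻¹, (orderOf_cj _ _).trans x.2⟩
      one_smul := fun x => Subtype.ext (by show 1 * x.1 * 1⁻¹ = x; group)
      mul_smul := fun g h x => Subtype.ext (by
        show (g * h : G) * x.1 * (g * h : G)⁻¹ = g * (h * x.1 * (h : G)⁻¹) * (g : G)⁻¹; group) }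
  let φ := MulAction.toPermHom C {x : G // orderOf x = 2}
  have hφ : ∀ (g : C) x, (φ g x : G) = g * x * (g : G)⁻¹ := fun _ _ => rfl
  have := Fintype.ofFinite {x : G // orderOf x = 2}
  rw [Nat.card_eq_fintype_card] at h9
  have h1 : Group.IsSolvable φ.ker := S0205.result (by
    rw [← Nat.not_even_iff_odd, even_iff_two_dvd]
    intro h
    obtain ⟨z, hz⟩ := exists_prime_orderOf_dvd_card' 2 h
    have hz' : orderOf (z : G) = 2 := by rw [orderOf_coe, orderOf_coe, hz]
    have h2 : Fintype.card {x : G // orderOf x = 2} ≤ 1 :=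
      Fintype.card_le_one_iff.2 fun x y => Subtype.ext (by
        have key : ∀ x : {x : G // orderOf x = 2}, (z : G) = x := fun x =>
          eq_of_comm hN ht hu hz' x.2 (mul_inv_eq_iff_eq_mul.1 (by
            rw [← hφ, show φ z = 1 from z.2]; rfl))
        rw [← key x, ← key y])
    omega)
  have htC : t ∈ C := mem_centralizer_singleton_iff.2 rfl
  have hr : ∀ r : ℕ, r.Prime → r ∣ Nat.card φ.range → r = 2 ∨ r = 3 := by
    intro r hr hd
    have : Fact r.Prime := ⟨hr⟩
    obtain ⟨⟨_, g, rfl⟩, hg⟩ := exists_prime_orderOf_dvd_card' r hd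
    replace hg : orderOf (φ g) = r := (orderOf_coe _).trans hg
    have h2 := orderOf_dvd_card (x := φ g)
    rw [Fintype.card_perm, h9, hg, hr.dvd_factorial] at h2
    have h3 := Equiv.Perm.card_fixedPoints_modEq (f := (⇑(φ g) : Function.End _)) (p := r) (n := 1)
      (by rw [pow_one, ← hg]
          exact (Equiv.Perm.coe_pow _ _).symm.trans (congrArg DFunLike.coe (pow_orderOf_eq_one _)))
    have hgt : (g : G) * t = t * g := mem_centralizer_singleton_iff.1 g.2
    let τ : Function.End (Function.fixedPoints (φ g)) := fun x => ⟨φ ⟨t, htC⟩ x, by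
      show φ g (φ ⟨t, htC⟩ x) = φ ⟨t, htC⟩ x
      rw [← Equiv.Perm.mul_apply, ← map_mul, show g * ⟨t, htC⟩ = ⟨t, htC⟩ * g from Subtype.ext hgt,
        map_mul, Equiv.Perm.mul_apply, show φ g x = x from x.2]⟩
    have h4 := Equiv.Perm.card_fixedPoints_modEq (f := τ) (p := 2) (n := 1) (by
      rw [pow_one, pow_two]
      funext x
      refine Subtype.ext (Subtype.ext ?_)
      show t * (t * x.1.1 * t⁻¹) * t⁻¹ = x.1.1
      rw [show t * (t * x.1.1 * t⁻¹) * t⁻¹ = t * t * x.1.1 * (t * t)⁻¹ by group, sq_of_two ht]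
      group)
    have h5 : Fintype.card (Function.fixedPoints τ) = 1 := Fintype.card_eq_one_iff.2
      ⟨⟨⟨⟨t, ht⟩, Subtype.ext (mul_inv_eq_iff_eq_mul.2 hgt)⟩,
        Subtype.ext (Subtype.ext (mul_inv_cancel_right t t))⟩, fun x =>
        Subtype.ext (Subtype.ext (Subtype.ext (eq_of_comm hN ht hu ht x.1.1.2
          (mul_inv_eq_iff_eq_mul.1 (congrArg (fun y => (y.1.1 : G)) x.2))).symm))⟩
    have h6 : Fintype.card (Function.fixedPoints (φ g)) < 9 := by
      obtain ⟨x, hx⟩ : ∃ x, φ g x ≠ x := by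
        by_contra hcon
        push Not at hcon
        rw [show φ g = 1 from Equiv.ext hcon, orderOf_one] at hg
        exact hr.one_lt.ne hg
      exact h9 ▸ Fintype.card_subtype_lt (x := x) hx
    rw [h9] at h3
    rw [h5] at h4
    generalize Fintype.card (Function.fixedPoints (φ g)) = c at *
    unfold Nat.ModEq at h3 h4
    interval_cases r <;> first | omega | exact absurd hr (by norm_num)
  have h2 : Group.IsSolvable φ.range := by
    obtain ⟨a, m, hm, e⟩ := Nat.exists_eq_two_pow_mul_odd (Nat.card_pos (α := φ.range)).ne'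
    refine S0144.result 2 3 a _ Nat.prime_two Nat.prime_three (e.trans (congrArg _
      (Nat.eq_prime_pow_of_unique_prime_dvd hm.pos.ne' fun {d} hd h => ?_)))
    refine (hr d hd (e ▸ h.mul_left _)).resolve_left ?_
    rintro rfl
    exact (Nat.not_even_iff_odd.2 hm) (even_iff_two_dvd.2 h)
  have h3 : Group.IsSolvable C := Group.isSolvable_of_ker_le_range φ.ker.subtype φ.rangeRestrict
    (by rw [range_subtype, MonoidHom.ker_rangeRestrict])
  have h4 : Group.IsSolvable (G ⧸ N) :=
    Group.isSolvable_of_surjective (f := (QuotientGroup.mk' N).comp C.subtype) fun x => by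
      obtain ⟨g, rfl⟩ := QuotientGroup.mk_surjective x
      obtain ⟨v, hv, e⟩ := (invol_eq hN ht hu).ge ((orderOf_cj g⁻¹ t).trans ht)
      refine ⟨⟨g * v, mem_centralizer_singleton_iff.2 ?_⟩, (QuotientGroup.mk_mul_of_mem g hv)⟩
      rw [mul_assoc, mul_inv_eq_iff_eq_mul.1 e]
      group
  have := S0205.result hN
  exact Group.isSolvable_of_ker_le_range N.subtype (QuotientGroup.mk' N)
    (by rw [range_subtype, QuotientGroup.ker_mk'])

end Cfsg.Agent.H29.PY
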