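import Cfsg.Agent.H29.OInv2
import Cfsg.Agent.H27.Sp

/-! Involutions of symplectic groups in characteristic two. -/

set_option autoImplicit false

namespace Cfsg.Agent.H29

open Module Matrix Cfsg.Agent.H27

variable {F : Type*} [Field F] {m : ℕ}

local notation "𝐁" => sympBilin m F
local notation "Sp" => symplecticGroup (Fin m) F

theorem sp_rank (a : Sp) : (a.1 - 1).rank = finrank F (LinearMap.range (a.1.mulVecLin - 1)) := by
  rw [Matrix.rank, show (a.1 - 1).mulVecLin = a.1.mulVecLin - 1 from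
    LinearMap.ext fun v => by simp [sub_mulVec]]

theorem sp_res (a : Sp) (v : Fin m ⊕ Fin m → F) :
    sympForm m F v (a.1 *ᵥ v) = 𝐁 v ((a.1.mulVecLin - 1) v) := by
  simp [sympBilin_apply, sympForm_self, sympForm_sub_right]

theorem sp_pres (a : Sp) (x y : Fin m ⊕ Fin m → F) :
    𝐁 (a.1.mulVecLin x) (a.1.mulVecLin y) = 𝐁 x y := by
  rw [sympBilin_apply, sympBilin_apply]; exact sp_sympForm a x y

theorem sp_invol {a : Sp} (ha : orderOf a = 2) (x : Fin m ⊕ Fin m → F) :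
    a.1.mulVecLin (a.1.mulVecLin x) = x := by
  rw [mulVecLin_apply, mulVecLin_apply, ← sp_mul_mulVec, ← pow_two, ← ha, pow_orderOf_eq_one,
    sp_one_mulVec]

variable [CharP F 2]

theorem sp_symm (x y : Fin m ⊕ Fin m → F) : 𝐁 x y = 𝐁 y x := by
  rw [← sympBilin_isAlt.neg_eq, CharTwo.neg_eq]

theorem sp_even {a : Sp} (ha : orderOf a = 2) (h : ∀ v, sympForm m F v (a.1 *ᵥ v) = 0) :
    Even (a.1 - 1).rank := by
  rw [sp_rank]
  exact even_of_alt (B := 𝐁) sp_symm sympBilin_nondegenerate.1 (CharP.cast_eq_zero F 2)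
    (selfadj_sub_one (sp_pres a) (sp_invol ha)) fun v => (sp_res a v).symm.trans (h v)

variable [Fintype F]

theorem sp_card {a : Sp} (ha : orderOf a = 2) (h : ¬ ∀ v, sympForm m F v (a.1 *ᵥ v) = 0) :
    Nat.card {v // sympForm m F v (a.1 *ᵥ v) = 0} * Fintype.card F = Fintype.card F ^ (2 * m) := by
  obtain ⟨w, hw⟩ := exists_sq_rep (B := 𝐁) sp_symm sympBilin_nondegenerate.1
    (CharP.cast_eq_zero F 2)
    (selfadj_sub_one (sp_pres a) (sp_invol ha))
  simp only [sp_res, hw, pow_eq_zero_iff two_ne_zero] at h ⊢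
  rw [← Nat.card_eq_fintype_card]
  exact (card_ker_mul (φ := (𝐁).flip w) fun e => h (LinearMap.congr_fun e)).trans
    (by simp [two_mul])

omit [CharP F 2] in
theorem sp_card' {a : Sp} (h : ∀ v, sympForm m F v (a.1 *ᵥ v) = 0) :
    Nat.card {v // sympForm m F v (a.1 *ᵥ v) = 0} = Fintype.card F ^ (2 * m) :=
  (Nat.card_congr (Equiv.subtypeUnivEquiv h)).trans (by simp [two_mul])

theorem sp_isConj {a b : Sp} (ha : orderOf a = 2) (hb : orderOf b = 2)
    (hr : (a.1 - 1).rank = (b.1 - 1).rank)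
    (h : (∀ v, sympForm m F v (a.1 *ᵥ v) = 0) ↔ ∀ v, sympForm m F v (b.1 *ᵥ v) = 0) :
    IsConj a b := by
  simp only [sp_res, sp_rank] at hr h
  obtain ⟨κ, w, w', h1, h3, h4, -, h6⟩ := exists_inv_family (B := 𝐁) sp_symm
    sympBilin_nondegenerate.1
    (CharP.cast_eq_zero F 2) (sp_pres a) (sp_invol ha) (sp_pres b) (sp_invol hb) hr h
  obtain ⟨g, hg⟩ := sp_witt_family h1 h3 (by simpa only [sympBilin_apply] using h4)
  refine isConj_iff.2 ⟨g, mul_inv_eq_iff_eq_mul.2 (sp_ext fun x => ?_)⟩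
  rw [sp_mul_mulVec, sp_mul_mulVec]
  exact h6 _ (sp_pres g) hg x

end Cfsg.Agent.H29
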