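import Mathlib
import Cfsg.Agent.H29.TpC
import Cfsg.Agent.H9.SLBasic
import Cfsg.Agent.S4355
import Cfsg.Agent.S0904
import Cfsg.Agent.S3331

set_option autoImplicit false

namespace Cfsg.Agent.H29.TwoP

open Subgroup Cfsg Cfsg.Agent.H83

variable {G : Type*} [Group G] [Finite G] {q r : ℕ}

theorem St.deg_eq [IsSimpleGroup G] (h : St G q r)
    {Q : Sylow q G} {χ η η' : G → ℂ} {a b : ℤ} (A : Tri Q χ η η' a b)
    {R : Sylow r G} {θ θ' : G → ℂ} {d : ℤ} (B : Tri R χ θ θ' (-a) d) : θ 1 = Nat.card Q := by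
  have := Fact.mk h.hq
  have := Fact.mk h.hr
  obtain ⟨x, hx0, hx⟩ := H5.exists_pos_nat_degree A.i1
  obtain ⟨v, hv0, hv⟩ := H5.exists_pos_nat_degree A.i2
  obtain ⟨w, hw0, hw⟩ := H5.exists_pos_nat_degree B.i2
  have h1 := A.deg hx
  have h2 := B.deg hx
  have h3 := A.rel 1 (by rw [orderOf_one]; exact h.hq.not_dvd_one)
  have h4 := B.rel 1 (by rw [orderOf_one]; exact h.hr.not_dvd_one)
  rw [hx, hv] at h3
  rw [hx, hw] at h4
  have h3' : 1 + a * x + b * v = 0 := by exact_mod_cast h3
  have h4' : 1 + -a * x + d * w = 0 := by exact_mod_cast h4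
  have hq1 : (q : ℤ) ∣ x - a := (Int.natCast_dvd_natCast.mpr
    (Q.dvd_card_of_dvd_card ((h.pi q h.hq).mpr (by simp)))).trans h1
  have hr1 : (r : ℤ) ∣ x - -a := (Int.natCast_dvd_natCast.mpr
    (R.dvd_card_of_dvd_card ((h.pi r h.hr).mpr (by simp)))).trans h2
  have unit : ∀ p : ℕ, p.Prime → ¬ (p : ℤ) ∣ a := by
    intro p hp hd
    have : (p : ℤ) ∣ 1 := by rcases A.ha with rfl | rfl <;> simpa using hd
    exact hp.not_dvd_one (by exact_mod_cast this)
  have hx1 : x ≠ 1 := by
    rintro rfl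
    rcases A.ha with rfl | rfl <;> rcases A.hb with rfl | rfl <;> rcases B.hb with rfl | rfl <;>
      omega
  have hx2 : 2 ∣ x := by
    obtain ⟨p, hp, hpx⟩ := Nat.exists_prime_and_dvd hx1
    have hpx' : (p : ℤ) ∣ x := Int.natCast_dvd_natCast.mpr hpx
    rcases (h.pi p hp).mp (hpx.trans (H5.degree_dvd_card A.i1 hx)) with rfl | rfl | rfl
    · exact hpx
    · exact absurd (by simpa using dvd_sub hpx' hq1) (unit p hp)
    · exact absurd (by simpa using dvd_sub hr1 hpx') (unit p hp)
  have hwd := H5.degree_dvd_card B.i2 hw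
  have hw1 : w = q ^ w.primeFactorsList.length := by
    refine Nat.eq_prime_pow_of_unique_prime_dvd hw0.ne' fun {p} hp hpw => ?_
    rcases (h.pi p hp).mp (hpw.trans hwd) with rfl | rfl | rfl
    · rcases A.ha with rfl | rfl <;> rcases B.hb with rfl | rfl <;> omega
    · rfl
    · exfalso
      have h5 : (p : ℤ) ∣ a * (x - -a) + d * w :=
        dvd_add (hr1.mul_left _) ((Int.natCast_dvd_natCast.mpr hpw).mul_left _)
      have h6 : (p : ℤ) ∣ a * (x - -a) - d * w :=
        dvd_sub (hr1.mul_left _) ((Int.natCast_dvd_natCast.mpr hpw).mul_left _)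
      have h7 : a * (x - -a) - d * w = 2 := by rcases A.ha with rfl | rfl <;> omega
      rw [h7] at h6
      exact h.r2 ((Nat.prime_dvd_prime_iff_eq hp Nat.prime_two).mp (by exact_mod_cast h6))
  have h5 : w ∣ Nat.card Q := by
    rw [hw1] at hwd ⊢
    exact Q.pow_dvd_card_of_pow_dvd_card hwd
  have h6 : Nat.card Q ∣ w := by
    have : (w : ℤ) = d * a * (x - a) := by
      rcases A.ha with rfl | rfl <;> rcases B.hb with rfl | rfl <;> omega
    exact Int.natCast_dvd_natCast.mp (this ▸ h1.mul_left _)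
  rw [hw, Nat.dvd_antisymm h5 h6]

theorem St.no_inv [IsSimpleGroup G] (h : St G q r) (Q : Sylow q G) (R : Sylow r G)
    (eQ : ee Q = 2) (eR : ee R = 2) (hQ : 3 < Nat.card Q) (hR : 3 < Nat.card R) {t : G}
    (ht : orderOf t = 2) (htQ : t ∈ centralizer ((Q : Subgroup G) : Set G)) : False := by
  classical
  have := Fact.mk h.hq
  obtain ⟨χ, η, η', a, b, A⟩ := h.tri Q eQ hQ
  obtain ⟨ψ, θ, θ', c, d, B⟩ := h.symm.tri R eR hR
  obtain ⟨rfl, rfl⟩ := common h.hq h.hr h.reg A B
  have hθ := h.deg_eq A B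
  have hc : ∀ (y : (Q : Subgroup G)) (u : zpowers t), Commute (y : G) (u : G) := fun y u =>
    mem_centralizer_iff.mp (zpowers_le.mpr htQ u.2) y y.2
  let f : ↥(Q : Subgroup G) × ↥(zpowers t) →* G :=
    MonoidHom.noncommCoprod (Q : Subgroup G).subtype (zpowers t).subtype hc
  have := Fintype.ofFinite (↥(Q : Subgroup G) × ↥(zpowers t))
  obtain ⟨m, hm⟩ := H5.exists_nat_classInner
    (H5.isCharacter_comp (H5.isCharacter_of_isIrr B.i2) f) H5.isCharacter_one
  rw [H5.classInner_one_right, Finset.sum_eq_single 1, map_one, hθ, Nat.card_prod,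
    Nat.card_zpowers, ht] at hm
  · have h0 : (Nat.card (Q : Subgroup G) : ℂ) ≠ 0 := by exact_mod_cast Nat.card_pos.ne'
    have h1 : (1 : ℂ) = 2 * m := by rw [← hm]; push_cast; field_simp
    have h2 : 1 = 2 * m := by exact_mod_cast h1
    omega
  · rintro ⟨y, u⟩ - hne
    have hu : orderOf (u : G) ∣ 2 := ht ▸ orderOf_dvd_of_mem_zpowers u.2
    change θ (y * u) = 0
    by_cases hy : y = 1
    · subst hy
      have hu1 : (u : G) ≠ 1 := fun e => hne (Prod.ext rfl (Subtype.ext e))
      rw [coe_one, one_mul]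
      obtain ⟨n, hn⟩ := Q.isPGroup'.exists_card_eq
      refine (H5.eq_zero_or_norm_eq_of_coprime B.i2 u hθ ?_).resolve_right fun e => hu1 ?_
      · rw [hn]
        exact Nat.Coprime.pow_left _ ((Nat.Prime.coprime_iff_not_dvd h.hq).mpr
          (not_dvd_index_iff.mpr ⟨Q, fun y hy => mem_cent.mpr (hc ⟨y, hy⟩ u)⟩))
      · rw [← mem_bot, ← center_eq_bot h.nc]
        refine mem_center_iff.mpr fun g => ?_
        have := H5.eq_one_of_simple_of_apply_eq B.i2 B.n2
          (H5.apply_commutator_of_norm_eq (H5.isCharacter_of_isIrr B.i2) e g)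
        rw [mul_inv_eq_one, mul_inv_eq_iff_eq_mul] at this
        exact this.symm
    · have h1 := A.val _ _ (isPPart_mul Q y.2 (hc y u) fun e =>
        h.q2 ((Nat.prime_dvd_prime_iff_eq h.hq Nat.prime_two).mp (e.trans hu))) y.2
        (fun e => hy (Subtype.ext e))
      obtain ⟨k, hk⟩ := IsPGroup.iff_orderOf.mp Q.isPGroup' y
      rw [← orderOf_coe] at hk
      have h2 := B.rel (y * u) fun e => by
        rcases (Nat.Prime.dvd_mul h.hr).mp (e.trans (hc y u).orderOf_mul_dvd_mul_orderOf) with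
          e' | e'
        · exact h.qr ((Nat.prime_dvd_prime_iff_eq h.hr h.hq).mp
            (h.hr.dvd_of_dvd_pow (hk ▸ e'))).symm
        · exact h.r2 ((Nat.prime_dvd_prime_iff_eq h.hr Nat.prime_two).mp (e'.trans hu))
      rw [h1] at h2
      rcases A.ha with rfl | rfl <;> rcases B.hb with rfl | rfl <;> simpa using h2
  · simp

theorem St.card_eq (h : St G q r) (T : Sylow 2 G) (Q : Sylow q G) (R : Sylow r G) :
    Nat.card G = Nat.card T * Nat.card Q * Nat.card R := by
  have := Fact.mk h.hq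
  have := Fact.mk h.hr
  rw [T.card_eq_multiplicity, Q.card_eq_multiplicity, R.card_eq_multiplicity]
  have hπ : (Nat.card G).primeFactors = {2, q, r} := by
    ext p
    simp only [Nat.mem_primeFactors, Finset.mem_insert, Finset.mem_singleton]
    refine ⟨fun hp => (h.pi p hp.1).mp hp.2.1, fun hp => ?_⟩
    have hpp : p.Prime := by
      rcases hp with rfl | rfl | rfl
      exacts [Nat.prime_two, h.hq, h.hr]
    exact ⟨hpp, (h.pi p hpp).mpr hp, Nat.card_pos.ne'⟩
  conv_lhs => rw [← Nat.prod_factorization_pow_eq_self (Nat.card_pos (α := G)).ne']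
  rw [Nat.prod_factorization_eq_prod_primeFactors, hπ,
    Finset.prod_insert (by simp [h.q2.symm, h.r2.symm]), Finset.prod_pair h.qr, mul_assoc]

theorem St.three_lt [IsSimpleGroup G] (h : St G q r) (T : Sylow 2 G) (hT : ¬ IsMulCommutative T)
    (Q : Sylow q G) : 3 < Nat.card Q := by
  have := Fact.mk h.hq
  have := Fact.mk h.hr
  obtain ⟨R⟩ : Nonempty (Sylow r G) := inferInstance
  have h1 := Nat.le_of_dvd Nat.card_pos (Q.dvd_card_of_dvd_card ((h.pi q h.hq).mpr (by simp)))
  have h2 : 3 ≤ q := by have := h.hq.two_le; have := h.q2; omega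
  by_contra hc
  have h3 : Nat.card Q = 3 := by omega
  obtain rfl : q = 3 := by omega
  have hcard := h.card_eq T Q R
  obtain ⟨a, ha⟩ := T.isPGroup'.exists_card_eq
  obtain ⟨b, hb⟩ := R.isPGroup'.exists_card_eq
  have hC := S0904.result 2 r 3 a b Nat.prime_two h.hr h.r2.symm (by omega) h.qr.symm
    (by rw [hcard, ha, hb, h3]; ring) Q
  have hns : ¬ Group.IsSolvable G := fun hs =>
    h.nc ⟨⟨IsSimpleGroup.comm_iff_isSolvable.mpr hs⟩⟩
  have eR := h.symm.ee_two T hT R
  rcases S3331.result (Q : Subgroup G) h3 hC with ⟨N, hN, hnil, -, hq⟩ | ⟨N, hN, hcm, -, ⟨e⟩⟩ | ⟨⟨e⟩⟩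
  · have : Group.IsSolvable (G ⧸ N) := by
      rcases hq with hq | ⟨⟨e⟩⟩
      · have : IsCyclic (G ⧸ N) := isCyclic_of_prime_card hq
        exact H5.isSolvable_of_card_dvd_prime_pow_mul Nat.prime_two Nat.prime_three (a := 1)
          (b := 1) (by rw [hq]; norm_num)
      · exact H5.isSolvable_of_card_dvd_prime_pow_mul Nat.prime_two Nat.prime_three (a := 1)
          (b := 1) (by rw [Nat.card_congr e.toEquiv, Nat.card_perm]; simp [Nat.factorial])
    exact hns (Group.isSolvable_of_ker_le_range N.subtype (QuotientGroup.mk' N) (by simp))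
  · rcases hN.eq_bot_or_eq_top with rfl | rfl
    · have h4 : Nat.card G = 60 := by
        rw [← Nat.card_congr QuotientGroup.quotientBot.toEquiv, Nat.card_congr e.toEquiv]
        have := two_mul_nat_card_alternatingGroup (α := Fin 5)
        rw [Nat.card_perm, Nat.card_fin, show Nat.factorial 5 = 120 from rfl] at this
        omega
      have h5 : Nat.card T = 2 ^ 2 := by
        rw [T.card_eq_multiplicity, h4]
        congr 1
        exact (Nat.factorization_def _ Nat.prime_two).trans (by decide +kernel)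
      exact hT (IsPGroup.isMulCommutative_of_card_eq_prime_sq h5)
    · exact h.nc ⟨⟨fun a b => congrArg Subtype.val (hcm.is_comm.comm ⟨a, mem_top a⟩ ⟨b, mem_top b⟩)⟩⟩
  · have : Fact (Nat.Prime 7) := ⟨by norm_num⟩
    have h4 : Nat.card G = 168 := by
      have := H9.gcd_mul_card_psl_two (F := ZMod 7)
      rw [Nat.card_congr e.toEquiv]
      rw [ZMod.card, show Nat.gcd 2 (7 - 1) = 2 from rfl] at this
      omega
    obtain rfl : r = 7 := by
      have := (h.pi 7 (by norm_num)).mp (by rw [h4]; norm_num)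
      omega
    have h5 : Nat.card R = 7 := by
      rw [R.card_eq_multiplicity, h4]
      rw [(Nat.factorization_def _ (by norm_num : Nat.Prime 7)).trans
        (by decide +kernel : padicValNat 7 168 = 1), pow_one]
    have hC' := S0904.result 2 3 7 3 1 Nat.prime_two Nat.prime_three (by omega) (by omega)
      (by omega) (by rw [h4]; norm_num) R
    have h6 := H21.card_mul_relIndex_of_le (centralizer_le_normalizer ((R : Subgroup G) : Set G))
    change _ * ee R = _ at h6
    rw [eR] at h6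
    change Nat.card (centralizer (R : Set G)) * 2 = _ at h6
    rw [hC', h5] at h6
    have h7 := (normalizer ((R : Subgroup G) : Set G)).card_mul_index
    rw [← h6, h4] at h7
    have h8 := card_sylow_modEq_one 7 G
    rw [R.card_eq_index_normalizer] at h8
    change (normalizer ((R : Subgroup G) : Set G)).index ≡ _ [MOD _] at h8
    unfold Nat.ModEq at h8
    omega

theorem St.comm_two [IsSimpleGroup G] (h : St G q r) (T : Sylow 2 G) : IsMulCommutative T := by
  have := Fact.mk h.hq
  have := Fact.mk h.hr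
  by_contra hT
  refine hT (S4355.result (fun x ⟨k, hk⟩ => ?_) T)
  by_cases hx : x = 1
  · rw [hx, H83.cs_one]; omega
  have hk0 : k ≠ 0 := by rintro rfl; exact hx (orderOf_eq_one_iff.mp hk)
  have h1 := orderOf_pow_orderOf_div (orderOf_pos x).ne' (hk ▸ dvd_pow_self 2 hk0)
  obtain ⟨s, hs, hs'⟩ := h.ex x
  rcases hs with rfl | rfl | rfl
  · exact hs'
  · obtain ⟨Q, hQ⟩ := not_dvd_index_iff.mp hs'
    obtain ⟨R⟩ : Nonempty (Sylow r G) := inferInstance
    exact (h.no_inv Q R (h.ee_two T hT Q) (h.symm.ee_two T hT R) (h.three_lt T hT Q)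
      (h.symm.three_lt T hT R) h1 (mem_centralizer_iff.mpr fun y hy =>
        mem_cent.mp (cent_le_cent_pow _ _ (hQ hy)))).elim
  · obtain ⟨Q, hQ⟩ := not_dvd_index_iff.mp hs'
    obtain ⟨R⟩ : Nonempty (Sylow q G) := inferInstance
    exact (h.symm.no_inv Q R (h.symm.ee_two T hT Q) (h.ee_two T hT R) (h.symm.three_lt T hT Q)
      (h.three_lt T hT R) h1 (mem_centralizer_iff.mpr fun y hy =>
        mem_cent.mp (cent_le_cent_pow _ _ (hQ hy)))).elim

end Cfsg.Agent.H29.TwoP
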