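import Mathlib
import Cfsg.Agent.H29.TpD
import Cfsg.Agent.H3.FrobQuo
import Cfsg.Agent.S2202

set_option autoImplicit false

namespace Cfsg.Agent.H29.TwoP

open Subgroup Cfsg Cfsg.Agent.H83

variable {G : Type*} [Group G] [Finite G] {q r : ℕ}

theorem cat1 {j n : ℕ} (h : 3 ^ j + 1 = 2 ^ n) : n ≤ 2 := by
  by_contra hc
  obtain ⟨m, rfl⟩ : ∃ m, n = m + 3 := ⟨n - 3, by omega⟩
  have h1 : 3 ^ j % 8 = 1 ∨ 3 ^ j % 8 = 3 := by
    clear h
    induction j with
    | zero => simp
    | succ j ih => rw [pow_succ]; omega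
  rw [pow_add] at h
  omega

theorem cat2 {j n : ℕ} (h : 3 ^ j = 2 ^ n + 1) : n ≤ 3 := by
  by_contra hc
  obtain ⟨m, rfl⟩ : ∃ m, n = m + 4 := ⟨n - 4, by omega⟩
  have h1 : 3 ^ j % 80 = 1 ∨ 3 ^ j % 80 = 3 ∨ 3 ^ j % 80 = 9 ∨ 3 ^ j % 80 = 27 := by
    clear h
    induction j with
    | zero => simp
    | succ j ih => rw [pow_succ]; omega
  have h2 : ¬ 5 ∣ 2 ^ (m + 4) := fun e => by
    have := (Nat.prime_dvd_prime_iff_eq (by norm_num) Nat.prime_two).mp
      ((by norm_num : Nat.Prime 5).dvd_of_dvd_pow e)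
    omega
  rw [pow_add] at h h2
  omega

theorem pow_three {a b q r : ℕ} (ha : a ≠ 0) (hb : b ≠ 1) (hab : a.Coprime b) (h3 : 3 ∣ a)
    (h : ∀ p : ℕ, p.Prime → p ∣ a * b → p = q ∨ p = r) : ∃ j, a = 3 ^ j := by
  obtain ⟨s, hs, hsb⟩ := Nat.exists_prime_and_dvd hb
  have key : ∀ p : ℕ, p.Prime → p ∣ a → p ≠ s := by
    rintro p hp hpa rfl
    exact hp.ne_one (Nat.eq_one_of_dvd_coprimes hab hpa hsb)
  refine ⟨_, Nat.eq_prime_pow_of_unique_prime_dvd ha fun {p} hp hpa => ?_⟩
  have h1 := h p hp (hpa.mul_right _)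
  have h2 := h s hs (hsb.mul_left _)
  have h4 := h 3 Nat.prime_three (h3.mul_right _)
  have h5 := key p hp hpa
  have h6 := key 3 Nat.prime_three h3
  omega

theorem simple_case [IsSimpleGroup G] (hG : ¬ IsMulCommutative G)
    (h2 : ∀ x : G, (cs(x)).primeFactors.card ≤ 2) :
    Gd G ∧ (Nat.card G = 60 ∨ Nat.card G = 504) := by
  obtain ⟨q, r, h⟩ := exists_st hG h2
  have gd := h.gd h.comm_two
  refine ⟨gd, ?_⟩
  have hev : 2 ∣ Nat.card G := (h.pi 2 Nat.prime_two).mpr (by simp)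
  obtain ⟨T⟩ : Nonempty (Sylow 2 G) := inferInstance
  rcases S2202.result (even_iff_two_dvd.mpr hev) (fun t ht => by
      have : IsPGroup 2 (zpowers t) := IsPGroup.of_card (n := 1) (by rw [Nat.card_zpowers, ht]; rfl)
      obtain ⟨P, hP⟩ := this.exists_le_sylow
      rw [gd 2 Nat.prime_two P t (hP (mem_zpowers t)) (fun e => by simp [e] at ht)]
      exact h.comm_two P) with hc | hn | ⟨F, _, _, A, _, _, hF, -, ⟨e⟩⟩
  · exfalso
    have h1 := two_le_ee hG hev T
    have h3 : ee T = 1 := relIndex_eq_one.mpr ((hc T).normalizer_le_centralizer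
      ((Nat.minFac_eq_two_iff _).mpr hev))
    omega
  · exact (not_normal hG hev T (hn T)).elim
  · have hA : Nat.card A = 1 := by
      rcases ((MonoidHom.snd _ A).comp e.toMonoidHom).normal_ker.eq_bot_or_eq_top with hk | hk
      · exact (hG ⟨⟨fun a b => (MonoidHom.ker_eq_bot_iff _).mp hk (by
          rw [map_mul, map_mul, mul_comm])⟩⟩).elim
      · refine Nat.card_eq_one_iff_exists.mpr ⟨1, fun a => ?_⟩
        have : e.symm (1, a) ∈ ((MonoidHom.snd _ A).comp e.toMonoidHom).ker := hk ▸ mem_top _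
        simpa using MonoidHom.mem_ker.mp this
    obtain ⟨n, -, hn⟩ := FiniteField.card F 2
    have hcard : Nat.card G = 2 ^ (n : ℕ) * ((2 ^ (n : ℕ) - 1) * (2 ^ (n : ℕ) + 1)) := by
      rw [Nat.card_congr e.toEquiv, Nat.card_prod, hA, mul_one, H9.card_sl_two, hn, mul_comm (_ - 1),
        ← Nat.sq_sub_sq, one_pow]
    have hn0 : 0 < (n : ℕ) := n.2
    generalize (n : ℕ) = m at hcard hn0
    have hn1 : m ≠ 1 := by
      rintro rfl
      have h1 := (h.pi q h.hq).mpr (by simp)
      have h3 := (h.pi r h.hr).mpr (by simp)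
      rw [hcard] at h1 h3
      have := h.hq; have := h.hr; have := h.qr; have := h.q2; have := h.r2
      have h4 := Nat.le_of_dvd (by norm_num) h1
      have h5 := Nat.le_of_dvd (by norm_num) h3
      norm_num at h4 h5
      interval_cases q <;> interval_cases r <;> simp_all (config := {decide := true})
    obtain ⟨k, rfl⟩ : ∃ k, m = k + 2 := ⟨m - 2, by omega⟩
    have hpos : 0 < 2 ^ k := by positivity
    have hpw : 2 ^ (k + 2) = 4 * 2 ^ k := by ring
    have hcop : (2 ^ (k + 2) - 1).Coprime (2 ^ (k + 2) + 1) := by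
      rw [show 2 ^ (k + 2) + 1 = (2 ^ (k + 2) - 1) + 2 by omega, Nat.coprime_self_add_right,
        Nat.coprime_two_right, Nat.odd_iff]
      omega
    have hpr : ∀ p : ℕ, p.Prime → p ∣ (2 ^ (k + 2) - 1) * (2 ^ (k + 2) + 1) → p = q ∨ p = r := by
      intro p hp hd
      refine ((h.pi p hp).mp (hcard ▸ hd.mul_left _)).resolve_left ?_
      rintro rfl
      rcases (Nat.Prime.dvd_mul hp).mp hd with e' | e' <;> omega
    have h3 : ¬ 3 ∣ 2 ^ (k + 2) := fun e' => by
      have := (Nat.prime_dvd_prime_iff_eq Nat.prime_three Nat.prime_two).mp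
        (Nat.prime_three.dvd_of_dvd_pow e')
      omega
    have hk : k ≤ 1 := by
      have h4 : ∀ x : ℕ, ¬ 3 ∣ x → 3 ∣ x - 1 ∨ 3 ∣ x + 1 := fun x hx => by omega
      rcases h4 _ h3 with e' | e'
      · obtain ⟨j, hj⟩ := pow_three (by omega) (by omega) hcop e' hpr
        have := cat1 (j := j) (n := k + 2) (by omega)
        omega
      · obtain ⟨j, hj⟩ := pow_three (by omega) (by omega) hcop.symm e' (by rwa [mul_comm])
        have := cat2 hj.symm
        omega
    interval_cases k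
    · left; rw [hcard]; rfl
    · right; rw [hcard]; rfl

theorem Gd.comm (gd : Gd G) {s : ℕ} (hs : s.Prime) (P : Sylow s G) :
    (P : Subgroup G) ≤ centralizer ((P : Subgroup G) : Set G) := by
  intro x hx
  refine mem_centralizer_iff.mpr fun y hy => ?_
  by_cases h1 : x = 1
  · simp [h1]
  · exact mem_cent.mp (gd s hs P x hx h1 ▸ hy)

theorem Gd.cent (gd : Gd G) {s : ℕ} [hs : Fact s.Prime] (hd : s ∣ Nat.card G) (P : Sylow s G) :
    centralizer ((P : Subgroup G) : Set G) = P := by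
  obtain ⟨y, hy, hy1⟩ := (bot_or_exists_ne_one (P : Subgroup G)).resolve_left (sylow_ne_bot hd P)
  exact le_antisymm ((centralizer_le (Set.singleton_subset_iff.mpr hy)).trans
    (gd s hs.out P y hy hy1).le) (gd.comm hs.out P)

theorem Gd.card_syl (gd : Gd G) {s : ℕ} [hs : Fact s.Prime] (hd : s ∣ Nat.card G)
    (P : Sylow s G) : Nat.card P * ee P * Nat.card (Sylow s G) = Nat.card G := by
  have h4 := H21.card_mul_relIndex_of_le (centralizer_le_normalizer ((P : Subgroup G) : Set G))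
  have h5 := (normalizer ((P : Subgroup G) : Set G)).card_mul_index
  rw [P.card_eq_index_normalizer, ← h5, ← h4]
  unfold ee
  rw [gd.cent hd P]
  rfl

theorem Gd.ycnt (gd : Gd G) {s : ℕ} [hs : Fact s.Prime] (hd : s ∣ Nat.card G) (P₀ : Sylow s G)
    (φ : MulAut G) :
    Set.ncard {g : G | ∃ P : Sylow s G, ∀ x ∈ (P : Subgroup G), φ (g * x * g⁻¹) = x} ≤
      Nat.card (Sylow s G) * Nat.card P₀ := by
  classical
  have := Fintype.ofFinite G
  have := Fintype.ofFinite (Sylow s G)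
  have h1 := Finset.card_biUnion_le_card_mul (Finset.univ : Finset (Sylow s G))
    (fun P => Finset.univ.filter fun g : G => ∀ x ∈ (P : Subgroup G), φ (g * x * g⁻¹) = x)
    (Nat.card P₀) (fun P _ => by
      rcases (Finset.univ.filter fun g : G =>
        ∀ x ∈ (P : Subgroup G), φ (g * x * g⁻¹) = x).eq_empty_or_nonempty with h | ⟨g₀, hg₀⟩
      · rw [h]; exact Nat.zero_le _
      rw [Nat.card_congr (P₀.equiv P).toEquiv, ← Nat.card_eq_finsetCard]
      refine Nat.card_le_card_of_injective (fun g => (⟨g₀⁻¹ * g.1, ?_⟩ : (P : Subgroup G))) ?_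
      · refine (gd.cent hd P).le (mem_centralizer_iff.mpr fun x hx => ?_)
        have h2 := φ.injective (((Finset.mem_filter.mp g.2).2 x hx).trans
          ((Finset.mem_filter.mp hg₀).2 x hx).symm)
        calc x * (g₀⁻¹ * g.1) = g₀⁻¹ * (g₀ * x * g₀⁻¹) * g.1 := by group
          _ = g₀⁻¹ * g.1 * x := by rw [← h2]; group
      · intro a b hab
        exact Subtype.ext (mul_left_cancel (congrArg Subtype.val hab)))
  rw [Finset.card_univ, ← Nat.card_eq_fintype_card] at h1
  refine le_trans (le_of_eq ?_) h1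
  rw [Set.ncard_eq_toFinset_card']
  congr 1
  ext g
  simp

theorem inner_aux [IsSimpleGroup G] (hG : ¬ IsMulCommutative G) (gd : Gd G) [hq : Fact q.Prime]
    [hr : Fact r.Prime] (r3 : 3 ≤ r) (hcard : Nat.card G = r * (r + 1) * (r + 2))
    (T : Sylow 2 G) (hT : Nat.card T = r + 1) (hQ : ∀ Q : Sylow q G, Nat.card Q = r + 2)
    (R : Sylow r G) (hR : Nat.card R = r) (φ : MulAut G)
    (hφ : ∀ g : G, (∃ P : Sylow 2 G, ∀ x ∈ (P : Subgroup G), φ (g * x * g⁻¹) = x) ∨
      (∃ P : Sylow q G, ∀ x ∈ (P : Subgroup G), φ (g * x * g⁻¹) = x) ∨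
      (∃ P : Sylow r G, ∀ x ∈ (P : Subgroup G), φ (g * x * g⁻¹) = x)) :
    ∃ g, φ = MulAut.conj g := by
  have hro : r % 2 = 1 := hr.out.eq_two_or_odd.resolve_left (by omega)
  have h2d : 2 ∣ Nat.card G := hcard ▸ (Dvd.dvd.mul_left (by omega) r).mul_right _
  have hrd : r ∣ Nat.card G := hcard ▸ (dvd_mul_right _ _).mul_right _
  have e2 : ee T = r := by
    have h1 : ee T ∣ Nat.card T - 1 := H3.relIndex_dvd_card_sub_one le_rfl fun x hx hx1 =>
      inf_le_right.trans ((gd 2 Nat.prime_two T x hx hx1).le.trans (gd.comm Nat.prime_two T))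
    have h2 := two_le_ee hG h2d T
    rw [hT, Nat.add_sub_cancel] at h1
    exact ((Nat.dvd_prime hr.out).mp h1).resolve_left (by omega)
  have n2 : Nat.card (Sylow 2 G) = r + 2 := by
    have := gd.card_syl h2d T
    rw [hT, e2, hcard, mul_comm (r + 1)] at this
    exact Nat.eq_of_mul_eq_mul_left (by positivity) this
  obtain ⟨s, Q, hs⟩ : ∃ g : G, ∃ P : Sylow q G, ∀ x ∈ (P : Subgroup G), φ (g * x * g⁻¹) = x := by
    by_contra hc
    have h1 := gd.ycnt h2d T φ
    have h2 := gd.ycnt hrd R φ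
    have h3 := gd.card_syl hrd R
    have h4 := two_le_ee hG hrd R
    have h5 := Set.ncard_le_ncard (s := Set.univ) (t := _ ∪ _)
      (fun g _ => (hφ g).imp_right fun h => h.resolve_left fun h' => hc ⟨g, h'⟩)
    have h6 := h5.trans ((Set.ncard_union_le _ _).trans (add_le_add h1 h2))
    rw [Set.ncard_univ, n2, hT, hR] at h6
    rw [hR] at h3
    have h7 : 2 * (Nat.card (Sylow r G) * r) ≤ Nat.card G := by rw [← h3]; nlinarith
    rw [hcard] at h6 h7
    nlinarith
  have htr : Function.Surjective fun f : (Q : Subgroup G) => (f : G) • T := by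
    refine (Nat.bijective_iff_injective_and_card _).mpr ⟨fun a b hab => ?_, by rw [hQ, n2]⟩ |>.2
    have h1 : (b : G)⁻¹ * a ∈ normalizer ((T : Subgroup G) : Set G) := by
      refine Sylow.smul_eq_iff_mem_normalizer.mp ?_
      rw [mul_smul, inv_smul_eq_iff]
      exact hab
    have h2 : orderOf ((b : G)⁻¹ * a) ∣ r + 2 := by
      rw [← hQ Q]; exact orderOf_dvd_natCard _ (mul_mem (inv_mem b.2) a.2)
    have h3 : orderOf ((b : G)⁻¹ * a) ∣ r * (r + 1) := by
      have h5 := (normalizer ((T : Subgroup G) : Set G)).card_mul_index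
      have h6 := T.card_eq_index_normalizer
      rw [n2] at h6
      erw [← h6, hcard] at h5
      rw [← Nat.eq_of_mul_eq_mul_right (by omega) h5]
      exact orderOf_dvd_natCard _ h1
    have h4 : (r + 2).Coprime (r * (r + 1)) := Nat.Coprime.mul_right
      (by rw [Nat.coprime_self_add_left, Nat.coprime_two_left, Nat.odd_iff]; exact hro)
      (by rw [show r + 2 = (r + 1) + 1 from rfl]; simp)
    have h5 := orderOf_eq_one_iff.mp (Nat.eq_one_of_dvd_coprimes h4 h2 h3)
    exact Subtype.ext (inv_mul_eq_one.mp h5).symm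
  obtain ⟨f, hf⟩ := htr ((φ * MulAut.conj s) • T)
  set θ : MulAut G := MulAut.conj (f : G)⁻¹ * (φ * MulAut.conj s) with hθ
  have hconj : ∀ (x : G) (P : Sylow 2 G), θ • x • P = θ x • θ • P := by
    intro x P
    rw [Sylow.smul_def, Sylow.smul_def, ← mul_smul, ← mul_smul]
    congr 1
    ext y
    simp
  have hfix : ∀ P : Sylow 2 G, θ • P = P := by
    intro P
    obtain ⟨g, rfl⟩ := htr P
    have h1 : θ • T = T := by
      rw [hθ, mul_smul, ← hf, ← Sylow.smul_def, inv_smul_smul]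
    have h2 : θ g = g := by
      have h3 := mem_centralizer_iff.mp (gd.comm hq.out Q g.2) f f.2
      simp only [hθ, MulAut.mul_apply, MulAut.conj_apply, hs g g.2, inv_inv]
      rw [mul_assoc, ← h3]; group
    simp only [hconj, h1, h2]
  have hid : ∀ x, θ x = x := by
    intro x
    have h1 : x⁻¹ * θ x ∈ (MulAction.toPermHom G (Sylow 2 G)).ker := by
      rw [MonoidHom.mem_ker]
      ext P
      have := hconj x P
      rw [hfix, hfix] at this
      simp [mul_smul, ← this]
    rcases (MulAction.toPermHom G (Sylow 2 G)).normal_ker.eq_bot_or_eq_top with hk | hk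
    · rw [hk, mem_bot] at h1
      exact (inv_mul_eq_one.mp h1).symm
    · refine (not_normal hG h2d T (normalizer_eq_top_iff.mp (eq_top_iff.mpr fun g _ => ?_))).elim
      have h2 : g ∈ (MulAction.toPermHom G (Sylow 2 G)).ker := hk ▸ mem_top g
      exact Sylow.smul_eq_iff_mem_normalizer.mp (DFunLike.congr_fun (MonoidHom.mem_ker.mp h2) T)
  have h1 : θ = 1 := MulEquiv.ext hid
  refine ⟨f * s⁻¹, ?_⟩
  rw [hθ, map_inv, inv_mul_eq_one] at h1
  rw [map_mul, map_inv, h1, mul_inv_cancel_right]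

theorem card_syl_eq {p n k : ℕ} [hp : Fact p.Prime] (h : Nat.card G = n) (hk : padicValNat p n = k)
    (P : Sylow p G) : Nat.card P = p ^ k := by
  rw [P.card_eq_multiplicity, h, Nat.factorization_def _ hp.out, hk]

theorem inner_of [IsSimpleGroup G] (hG : ¬ IsMulCommutative G) (gd : Gd G)
    (hc : Nat.card G = 60 ∨ Nat.card G = 504) (φ : MulAut G)
    (hφ : ∀ g : G, ∃ (p : ℕ) (P : Sylow p G), p.Prime ∧ p ∣ Nat.card G ∧
      ∀ x ∈ (P : Subgroup G), φ (g * x * g⁻¹) = x) : ∃ g, φ = MulAut.conj g := by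
  have : Fact (Nat.Prime 5) := ⟨by norm_num⟩
  have : Fact (Nat.Prime 7) := ⟨by norm_num⟩
  obtain ⟨T⟩ : Nonempty (Sylow 2 G) := inferInstance
  rcases hc with hc | hc
  · obtain ⟨R⟩ : Nonempty (Sylow 3 G) := inferInstance
    refine inner_aux (q := 5) hG gd le_rfl hc T (card_syl_eq (k := 2) hc (by decide +kernel) T)
      (card_syl_eq (k := 1) hc (by decide +kernel)) R
      (card_syl_eq (k := 1) hc (by decide +kernel) R) φ fun g => ?_
    obtain ⟨p, P, hp, hd, hP⟩ := hφ g
    have : p ∈ Nat.primeFactors 60 := Nat.mem_primeFactors.mpr ⟨hp, hc ▸ hd, by norm_num⟩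
    rw [show Nat.primeFactors 60 = {2, 3, 5} by decide +kernel] at this
    simp only [Finset.mem_insert, Finset.mem_singleton] at this
    rcases this with rfl | rfl | rfl
    exacts [Or.inl ⟨P, hP⟩, Or.inr (Or.inr ⟨P, hP⟩), Or.inr (Or.inl ⟨P, hP⟩)]
  · obtain ⟨R⟩ : Nonempty (Sylow 7 G) := inferInstance
    refine inner_aux (q := 3) hG gd (by norm_num) hc T
      (card_syl_eq (k := 3) hc (by decide +kernel) T)
      (card_syl_eq (k := 2) hc (by decide +kernel)) R
      (card_syl_eq (k := 1) hc (by decide +kernel) R) φ fun g => ?_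
    obtain ⟨p, P, hp, hd, hP⟩ := hφ g
    have : p ∈ Nat.primeFactors 504 := Nat.mem_primeFactors.mpr ⟨hp, hc ▸ hd, by norm_num⟩
    rw [show Nat.primeFactors 504 = {2, 3, 7} by decide +kernel] at this
    simp only [Finset.mem_insert, Finset.mem_singleton] at this
    rcases this with rfl | rfl | rfl
    exacts [Or.inl ⟨P, hP⟩, Or.inr (Or.inl ⟨P, hP⟩), Or.inr (Or.inr ⟨P, hP⟩)]

end Cfsg.Agent.H29.TwoP
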