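import Mathlib
import Cfsg.Agent.H29.TpE
import Cfsg.Agent.H2.MinNormal

set_option autoImplicit false

namespace Cfsg.Agent.H29.TwoP

open Subgroup Cfsg Cfsg.Agent.H83

variable {G : Type*} [Group G] [Finite G] {q r : ℕ}

theorem card_pf_le {a b : ℕ} (h : a ∣ b) (hb : b ≠ 0) : a.primeFactors.card ≤ b.primeFactors.card :=
  Finset.card_le_card (Nat.primeFactors_mono h hb)

theorem not_dvd_of {a b p : ℕ} (h : a ∣ b) (hb : b ≠ 0) (h1 : 2 ≤ a.primeFactors.card)
    (h2 : b.primeFactors.card ≤ 2) (hp : p.Prime) (hpa : ¬ p ∣ a) : ¬ p ∣ b := by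
  intro hd
  have := Finset.eq_of_subset_of_card_le (Nat.primeFactors_mono h hb) (h2.trans h1)
  exact hpa (Nat.dvd_of_mem_primeFactors (this ▸ Nat.mem_primeFactors.mpr ⟨hp, hd, hb⟩))

theorem two_normal (h : ∀ x : G, (cs(x)).primeFactors.card ≤ 2) (N : Subgroup G) [N.Normal]
    (x : N) : (cs(x)).primeFactors.card ≤ 2 :=
  (card_pf_le (cs_normal_dvd N x) (cs_ne_zero _)).trans (h x)

theorem two_quot (h : ∀ x : G, (cs(x)).primeFactors.card ≤ 2) (N : Subgroup G) [N.Normal]
    (x : G ⧸ N) : (cs(x)).primeFactors.card ≤ 2 := by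
  obtain ⟨g, rfl⟩ := QuotientGroup.mk_surjective x
  exact (card_pf_le (cs_quotient_dvd N g) (cs_ne_zero _)).trans (h g)

theorem Gd.ex_ty [Nontrivial G] (gd : Gd G) {s : ℕ} (hs : s.Prime) :
    ∃ y : G, y ≠ 1 ∧ ¬ s ∣ cs(y) := by
  have := Fact.mk hs
  by_cases hd : s ∣ Nat.card G
  · obtain ⟨P⟩ : Nonempty (Sylow s G) := inferInstance
    obtain ⟨y, hy, hy1⟩ := (bot_or_exists_ne_one (P : Subgroup G)).resolve_left (sylow_ne_bot hd P)
    exact ⟨y, hy1, by rw [gd s hs P y hy hy1]; exact P.not_dvd_index⟩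
  · obtain ⟨y, hy⟩ := exists_ne (1 : G)
    exact ⟨y, hy, fun e => hd (e.trans (cs_dvd_card y))⟩

theorem split_of (h : ∀ x : G, (cs(x)).primeFactors.card ≤ 2) (S : Subgroup G) [hS : S.Normal]
    [IsSimpleGroup S] (hc : ¬ IsMulCommutative S) : center G ⊓ S = ⊥ ∧ center G ⊔ S = ⊤ := by
  obtain ⟨gd, hcard⟩ := simple_case hc (two_normal h S)
  obtain ⟨q, r, st⟩ := exists_st hc (two_normal h S)
  have hZ : ∀ x ∈ S, x ∈ centralizer (S : Set G) → x = 1 := by
    intro x hx hx'
    have : (⟨x, hx⟩ : S) ∈ center S :=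
      mem_center_iff.mpr fun y => Subtype.ext (mem_centralizer_iff.mp hx' y y.2)
    rw [center_eq_bot hc] at this
    exact congrArg Subtype.val (mem_bot.mp this)
  refine ⟨eq_bot_iff.mpr fun x hx => mem_bot.mpr (hZ x hx.2 (center_le_centralizer _ hx.1)),
    eq_top_iff.mpr fun g _ => ?_⟩
  have hC : centralizer (S : Set G) ≤ center G := by
    intro c hc'
    by_contra hne
    obtain ⟨s, hs, hsd⟩ := Nat.exists_prime_and_dvd (mt cs_eq_one_iff.mp hne)
    obtain ⟨y, hy1, hy⟩ := gd.ex_ty hs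
    have hle : centralizer ({y * c} : Set G) ≤ centralizer {(y : G)} ⊓ centralizer {c} := by
      intro g hg
      have h1 := mem_cent'.mp hg
      have h2 : (y : G)⁻¹ * (g * y * g⁻¹) = c * (g * c * g⁻¹)⁻¹ := by
        rw [inv_mul_eq_iff_eq_mul, ← mul_assoc, ← h1]; group
      have h3 := hZ _ (mul_mem (inv_mem y.2) (hS.conj_mem _ y.2 g))
        (h2 ▸ mul_mem hc' (inv_mem ((normal_centralizer (H := S)).conj_mem _ hc' g)))
      refine ⟨mem_cent'.mpr (inv_mul_eq_one.mp h3).symm, mem_cent'.mpr ?_⟩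
      rw [h2] at h3
      exact (mul_inv_eq_one.mp h3).symm
    exact not_dvd_of ((cs_normal_dvd S y).trans (index_dvd_of_le (hle.trans inf_le_left)))
      (cs_ne_zero _) (two_primes hc hy1) (h _) hs hy
      (hsd.trans (index_dvd_of_le (hle.trans inf_le_right)))
  obtain ⟨s, hs⟩ := inner_of hc gd hcard (MulAut.conjNormal g) fun s => by
    obtain ⟨p, hp, hp'⟩ : ∃ p, (p = 2 ∨ p = q ∨ p = r) ∧ ¬ p ∣ cs(g * s) := by
      by_contra hn
      push Not at hn
      have hsub : ({2, q, r} : Finset ℕ) ⊆ (cs(g * s)).primeFactors := by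
        intro p hp
        simp only [Finset.mem_insert, Finset.mem_singleton] at hp
        refine Nat.mem_primeFactors.mpr ⟨?_, hn p hp, cs_ne_zero _⟩
        rcases hp with rfl | rfl | rfl
        exacts [Nat.prime_two, st.hq, st.hr]
      have h1 := Finset.card_le_card hsub
      rw [Finset.card_eq_three.mpr ⟨2, q, r, st.q2.symm, st.r2.symm, st.qr, rfl⟩] at h1
      have := h (g * s)
      omega
    have hpp : p.Prime := by
      rcases hp with rfl | rfl | rfl
      exacts [Nat.prime_two, st.hq, st.hr]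
    have := Fact.mk hpp
    obtain ⟨P, hP⟩ := (not_dvd_index_iff (H := (centralizer {g * s}).subgroupOf S)).mp
      fun e => hp' (e.trans (H19.relIndex_dvd_index_of_normal_right _ S))
    refine ⟨p, P, hpp, (st.pi p hpp).mpr hp, fun x hx => Subtype.ext ?_⟩
    have h1 := mem_cent.mp (mem_subgroupOf.mp (hP hx))
    simp only [MulAut.conjNormal_apply, coe_mul, coe_inv]
    calc g * (s * x * (s : G)⁻¹) * g⁻¹ = (g * s * x) * (g * s)⁻¹ := by group
      _ = x := by rw [← h1]; group
  have h1 : g * (s : G)⁻¹ ∈ centralizer (S : Set G) := by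
    refine mem_centralizer_iff.mpr fun x hx => ?_
    have := congrArg Subtype.val (DFunLike.congr_fun hs (s⁻¹ * ⟨x, hx⟩ * s))
    simp only [MulAut.conjNormal_apply, coe_mul, coe_inv, MulAut.conj_apply] at this
    calc x * (g * (s : G)⁻¹) = (s * ((s : G)⁻¹ * x * s) * (s : G)⁻¹) * (g * (s : G)⁻¹) := by group
      _ = g * (s : G)⁻¹ * x := by rw [← this]; group
  have h2 := mul_mem (mem_sup_left (T := S) (hC h1)) (mem_sup_right s.2)
  rwa [inv_mul_cancel_right] at h2

theorem no_ext (h : ∀ x : G, (cs(x)).primeFactors.card ≤ 2) (hperf : commutator G = ⊤)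
    (N : Subgroup G) [N.Normal] {p : ℕ} (hp : p.Prime) (hN : IsPGroup p N)
    (hNc : IsMulCommutative N) [IsSimpleGroup (G ⧸ N)] (hc : ¬ IsMulCommutative (G ⧸ N)) :
    N = ⊥ := by
  have := Fact.mk hp
  obtain ⟨gd, -⟩ := simple_case hc (two_quot h N)
  have lift : ∀ g : G, (g : G ⧸ N) ≠ 1 → ¬ p ∣ cs((g : G ⧸ N)) →
      ∃ P : Sylow p G, (P : Subgroup G) ≤ centralizer {g} := fun g hg hg' =>
    not_dvd_index_iff.mp (not_dvd_of (cs_quotient_dvd N g) (cs_ne_zero _) (two_primes hc hg)
      (h g) hp hg')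
  have hZ : N ≤ center G := by
    obtain ⟨y, hy1, hy⟩ := gd.ex_ty hp
    obtain ⟨g, rfl⟩ := QuotientGroup.mk_surjective y
    obtain ⟨P, hP⟩ := lift g hy1 hy
    have hg : g ∈ centralizer (N : Set G) := mem_centralizer_iff.mpr fun x hx =>
      mem_cent.mp (hP (hN.le_sylow_of_normal P hx))
    have h1 : (centralizer (N : Set G)).map (QuotientGroup.mk' N) = ⊤ :=
      (((normal_centralizer (H := N)).map _ (QuotientGroup.mk'_surjective N)).eq_bot_or_eq_top
        ).resolve_left fun e => hy1 (mem_bot.mp (e ▸ mem_map_of_mem _ hg))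
    have h2 := congrArg (comap (QuotientGroup.mk' N)) h1
    rw [comap_map_eq, QuotientGroup.ker_mk', comap_top,
      sup_of_le_left (le_centralizer_iff_isMulCommutative.mpr hNc)] at h2
    exact centralizer_eq_top_iff_subset.mp h2
  obtain ⟨P⟩ : Nonempty (Sylow p G) := inferInstance
  have hP : IsMulCommutative P := by
    refine le_centralizer_iff_isMulCommutative.mp fun g hg => ?_
    by_cases hgN : g ∈ N
    · exact center_le_centralizer _ (hZ hgN)
    have hg1 : (g : G ⧸ N) ≠ 1 := mt (QuotientGroup.eq_one_iff g).mp hgN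
    have h1 := gd p hp (P.mapSurjective (QuotientGroup.mk'_surjective N)) g
      (mem_map_of_mem (QuotientGroup.mk' N) hg) hg1
    obtain ⟨P', hP'⟩ := lift g hg1 (by rw [h1]; exact Sylow.not_dvd_index _)
    have h2 : (P' : Subgroup G) ≤ P := by
      have h3 := (map_mono (f := QuotientGroup.mk' N) hP').trans (map_cent_le _ g)
      erw [h1] at h3
      rw [Sylow.coe_mapSurjective, map_le_iff_le_comap, comap_map_eq, QuotientGroup.ker_mk',
        sup_of_le_left (hN.le_sylow_of_normal P)] at h3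
      exact h3
    have h4 := P'.is_maximal' P.isPGroup' h2
    exact mem_centralizer_iff.mpr fun x hx => mem_cent.mp (hP' (h4 ▸ hx))
  have h1 := S0088.result (P : Subgroup G) hP P.card_coprime_index
  rw [hperf, inf_top_eq] at h1
  exact eq_bot_iff.mpr (h1 ▸ le_inf (hN.le_sylow_of_normal P) hZ)

universe u in
theorem exists_simple (n : ℕ) : ∀ (G : Type u) [Group G] [Finite G], Nat.card G = n →
    (∀ x : G, (cs(x)).primeFactors.card ≤ 2) → ¬ Group.IsSolvable G →
    ∃ S : Subgroup G, S.Normal ∧ IsSimpleGroup S ∧ ¬ IsMulCommutative S := by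
  induction n using Nat.strong_induction_on with
  | _ n ih =>
  intro G _ _ hn h hG
  have nsol : ∀ (K : Type u) [Group K] [IsSimpleGroup K], ¬ IsMulCommutative K →
      ¬ Group.IsSolvable K := fun K _ _ hK hs => hK ⟨⟨IsSimpleGroup.comm_iff_isSolvable.mpr hs⟩⟩
  by_cases hA : ∃ N : Subgroup G, N.Normal ∧ N ≠ ⊤ ∧ ¬ Group.IsSolvable N
  · obtain ⟨N, hN, hNt, hNs⟩ := hA
    have hlt : Nat.card N < n := by
      rw [← hn]
      exact lt_of_le_of_ne (card_le_card_group N) (mt (card_eq_iff_eq_top N).mp hNt)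
    obtain ⟨S, hS, hS1, hS2⟩ := ih _ hlt N rfl (two_normal h N) hNs
    obtain ⟨-, h2⟩ := split_of (two_normal h N) S hS2
    have h3 : commutator N = S := by
      refine le_antisymm ?_ ?_
      · refine Normal.quotient_commutative_iff_commutator_le.mp ⟨⟨fun a b => ?_⟩⟩
        obtain ⟨a, rfl⟩ := QuotientGroup.mk_surjective a
        obtain ⟨z, hz, s, hs, rfl⟩ := mem_sup_of_normal_right.mp (h2 ▸ mem_top a)
        obtain ⟨b, rfl⟩ := QuotientGroup.mk_surjective b
        rw [QuotientGroup.mk_mul, (QuotientGroup.eq_one_iff s).mpr hs, mul_one,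
          ← QuotientGroup.mk_mul, ← QuotientGroup.mk_mul, mem_center_iff.mp hz]
      · conv_lhs => rw [← S.range_subtype, MonoidHom.range_eq_map, ← commutator_eq_top' hS2,
          map_subtype_commutator]
        exact commutator_mono le_top le_top
    let e := S.equivMapOfInjective N.subtype N.subtype_injective
    refine ⟨S.map N.subtype, by rw [← h3]; infer_instance, e.symm.isSimpleGroup, fun hc => hS2
      ⟨⟨fun a b => e.injective (by rw [map_mul, map_mul, hc.is_comm.comm])⟩⟩⟩
  push Not at hA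
  have : Nontrivial G := by
    by_contra hc
    have := not_nontrivial_iff_subsingleton.mp hc
    exact hG inferInstance
  by_cases hB : ∀ N : Subgroup G, N.Normal → N = ⊥ ∨ N = ⊤
  · have : IsSimpleGroup G := ⟨hB⟩
    exact ⟨⊤, inferInstance, topEquiv.isSimpleGroup, fun hc => hG (Group.isSolvable_of_comm
      fun a b => congrArg Subtype.val (hc.is_comm.comm ⟨a, mem_top a⟩ ⟨b, mem_top b⟩))⟩
  push Not at hB
  obtain ⟨N₀, hN₀, hb, ht⟩ := hB
  obtain ⟨N, p, hp, hN, hN1, -, hNc, hNp, -, -⟩ :=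
    H2.exists_minimal_normal_le_of_solvable N₀ hN₀ (hA N₀ hN₀ ht) hb
  have hNs : Group.IsSolvable N := Group.isSolvable_of_comm hNc.is_comm.comm
  have hq : ¬ Group.IsSolvable (G ⧸ N) := fun hs =>
    hG (Group.isSolvable_of_ker_le_range N.subtype (QuotientGroup.mk' N) (by simp))
  have hlt : Nat.card (G ⧸ N) < n := by
    rw [← hn, card_eq_card_quotient_mul_card_subgroup N]
    exact lt_mul_of_one_lt_right Nat.card_pos ((one_lt_card_iff_ne_bot N).mpr hN1)
  obtain ⟨S, hS, hS1, hS2⟩ := ih _ hlt (G ⧸ N) rfl (two_quot h N) hq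
  have hSt : S = ⊤ := by
    by_contra hne
    have h1 := hA (S.comap (QuotientGroup.mk' N)) inferInstance fun e => hne (by
      rw [← map_comap_eq_self_of_surjective (QuotientGroup.mk'_surjective N) S, e,
        map_top_of_surjective _ (QuotientGroup.mk'_surjective N)])
    exact nsol S hS2 (Group.isSolvable_of_surjective
      ((QuotientGroup.mk' N).subgroupComap_surjective_of_surjective S
        (QuotientGroup.mk'_surjective N)))
  subst hSt
  have : IsSimpleGroup (G ⧸ N) := topEquiv.symm.isSimpleGroup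
  have hperf : commutator G = ⊤ := by
    by_contra hne
    have := hA _ inferInstance hne
    have : Group.IsSolvable (G ⧸ commutator G) := Group.isSolvable_of_comm
      (Normal.quotient_commutative_iff_commutator_le.mpr le_rfl).is_comm.comm
    exact hG (Group.isSolvable_of_ker_le_range (commutator G).subtype
      (QuotientGroup.mk' (commutator G)) (by simp))
  exact (hN1 (no_ext h hperf N hp hNp hNc fun hc => hq
    (Group.isSolvable_of_comm hc.is_comm.comm))).elim

end Cfsg.Agent.H29.TwoP
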